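import Mathlib
import Groth.Agent.LambdaSpL.PosFil

/-!
# γ-filtrations of projective bundle rings: the algebra
-/

set_option autoImplicit false
set_option linter.all false

universe u v

open Finset LambdaRing

noncomputable section

namespace KRRRegLib

section Gamma

variable {K : Type v} [CommRing K] [LambdaOps K]

theorem gamma_succ' (R : ℕ) (x : K) :
    gamma (R + 1) x = ∑ b ∈ range (R + 1), (R.choose b : K) * LambdaOps.lam (b + 1) x := by
  rw [LambdaSpLib.gamma_eq_gamT, LambdaSpLib.gamT_succ]

theorem binom_identity (w : K) (R b : ℕ) :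
    ∑ a ∈ range (R + 1), (R.choose a : K) * (a.choose b : K) * w ^ a * (1 - w) ^ (R - a) =
      (R.choose b : K) * w ^ b := by
  rcases lt_or_ge R b with hb | hb
  · rw [Nat.choose_eq_zero_of_lt hb, Nat.cast_zero, zero_mul]
    refine sum_eq_zero fun a ha => ?_
    rw [Nat.choose_eq_zero_of_lt (show a < b by have := mem_range.1 ha; omega)]
    simp
  obtain ⟨c, rfl⟩ := Nat.exists_eq_add_of_le hb
  rw [show b + c + 1 = b + (c + 1) by ring, sum_range_add, sum_eq_zero fun a ha => by
    rw [Nat.choose_eq_zero_of_lt (mem_range.1 ha)]; simp, zero_add]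
  have h : ∀ i ∈ range (c + 1), ((b + c).choose (b + i) : K) * ((b + i).choose b : K) * w ^ (b + i) *
      (1 - w) ^ (b + c - (b + i)) = ((b + c).choose b : K) * w ^ b * (w ^ i * (1 - w) ^ (c - i) * (c.choose i : K)) := by
    intro i hi
    have hi' : i ≤ c := by have := mem_range.1 hi; omega
    have e := Nat.choose_mul (n := b + c) (k := b + i) (s := b) (by omega)
    rw [show b + c - b = c by omega, show b + i - b = i by omega] at e
    rw [← Nat.cast_mul, e, Nat.cast_mul, pow_add, show b + c - (b + i) = c - i by omega]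
    ring
  rw [sum_congr rfl h, ← mul_sum, ← add_pow, add_sub_cancel, one_pow, mul_one]

/-- `γ` of a multiple by a line element. -/
theorem gamma_mul_line {y w : K} (h : ∀ j, LambdaOps.lam j (y * w) = w ^ j * LambdaOps.lam j y) (R : ℕ) :
    gamma (R + 1) (y * w) =
      ∑ a ∈ range (R + 1), (R.choose a : K) * gamma (a + 1) y * w ^ (a + 1) * (1 - w) ^ (R - a) := by
  have e : ∀ a ∈ range (R + 1), (R.choose a : K) * gamma (a + 1) y * w ^ (a + 1) * (1 - w) ^ (R - a) =
      ∑ b ∈ range (R + 1), LambdaOps.lam (b + 1) y * w *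
        ((R.choose a : K) * (a.choose b : K) * w ^ a * (1 - w) ^ (R - a)) := by
    intro a ha
    rw [gamma_succ']
    have hs : ∑ b ∈ range (a + 1), (a.choose b : K) * LambdaOps.lam (b + 1) y =
        ∑ b ∈ range (R + 1), (a.choose b : K) * LambdaOps.lam (b + 1) y := by
      refine sum_subset (range_subset_range.2 (mem_range.1 ha)) fun b _ hb => ?_
      rw [Nat.choose_eq_zero_of_lt (by simpa using hb)]
      simp
    rw [hs, mul_sum, sum_mul, sum_mul]
    refine sum_congr rfl fun b _ => ?_
    rw [pow_succ]; ring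
  rw [sum_congr rfl e, sum_comm, gamma_succ']
  refine sum_congr rfl fun b _ => ?_
  rw [← mul_sum, binom_identity, h, pow_succ]
  ring

theorem gamma_line (w : K) (hw : ∀ j : ℕ, 2 ≤ j → LambdaOps.lam j w = 0) (R : ℕ) : gamma (R + 1) w = w := by
  rw [gamma_succ', sum_eq_single 0 (fun b _ hb => by rw [hw (b + 1) (by omega), mul_zero])
    (fun h => absurd (mem_range.2 (by omega)) h), LambdaOps.lam_one, Nat.choose_zero_right, Nat.cast_one, one_mul]

theorem gamma_line_sub_one {w : K} (hw : ∀ j : ℕ, 2 ≤ j → LambdaOps.lam j w = 0)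
    (h1 : ∀ j : ℕ, 2 ≤ j → LambdaOps.lam j (1 : K) = 0) : ∀ r : ℕ, gamma (r + 2) (w - 1) = 0 := by
  intro r
  induction r using Nat.strong_induction_on with
  | _ r ih =>
    have h := LambdaSpLib.gamma_add (r + 2) (w - 1) 1
    have hone : ∀ i ∈ range (r + 2), gamma (r + 2 - i) (1 : K) = 1 := fun i hi => by
      obtain ⟨t, ht⟩ : ∃ t, r + 2 - i = t + 1 := ⟨r + 1 - i, by have := mem_range.1 hi; omega⟩
      rw [ht, gamma_line 1 h1]
    rw [sub_add_cancel, gamma_line w hw (r + 1), sum_range_succ, Nat.sub_self, LambdaSpLib.gamma_zero, mul_one,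
      sum_congr rfl fun i hi => by rw [hone i hi, mul_one]] at h
    have hsum : ∑ i ∈ range (r + 2), gamma i (w - 1) = w := by
      rw [sum_range_succ', sum_range_succ', LambdaSpLib.gamma_zero, LambdaSpLib.gamma_one, sum_eq_zero fun i hi => by
        rw [show i + 1 + 1 = i + 2 by ring]; exact ih i (mem_range.1 hi)]
      ring
    rw [hsum] at h
    exact left_eq_add.1 h

theorem lam_line_mul_of_pos {w : K} {B : K} (hB : ∀ j, LambdaOps.lam j (w * B) = w ^ j * LambdaOps.lam j B)
    {x : K} (hxB : ∀ j, LambdaOps.lam j (w * (x + B)) = w ^ j * LambdaOps.lam j (x + B)) :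
    ∀ j, LambdaOps.lam j (w * x) = w ^ j * LambdaOps.lam j x := by
  intro j
  induction j using Nat.strong_induction_on with
  | _ j ih =>
    have h := hxB j
    rw [mul_add, LambdaOps.lam_add, LambdaOps.lam_add, mul_sum, sum_range_succ, sum_range_succ, Nat.sub_self,
      LambdaOps.lam_zero, LambdaOps.lam_zero, mul_one, mul_one] at h
    have hlow : ∀ i ∈ range j, LambdaOps.lam i (w * x) * LambdaOps.lam (j - i) (w * B) =
        w ^ j * (LambdaOps.lam i x * LambdaOps.lam (j - i) B) := fun i hi => by
      have hi' := mem_range.1 hi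
      rw [ih i hi', hB]
      have : w ^ j = w ^ i * w ^ (j - i) := by rw [← pow_add, Nat.add_sub_cancel' hi'.le]
      rw [this]; ring
    rw [sum_congr rfl hlow] at h
    exact add_left_cancel h

end Gamma

section Fil

variable {K : Type v} [CommRing K] [LambdaOps K] {A : Type v} [CommRing A] [LambdaOps A]
  (P : PosStructure A) (q : A →+* K) (v : K)

/-- The filtration `Σ q(F^{m-i}) v^i`. -/
def sFil (m : ℕ) : AddSubgroup K :=
  AddSubgroup.closure {z | ∃ (i : ℕ) (y : A), y ∈ gammaFiltration P (m - i) ∧ z = q y * v ^ i}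

theorem gen_mem {m i : ℕ} {y : A} (hy : y ∈ gammaFiltration P (m - i)) : q y * v ^ i ∈ sFil P q v m :=
  AddSubgroup.subset_closure ⟨i, y, hy, rfl⟩

theorem sFil_anti {m m' : ℕ} (h : m ≤ m') {z : K} (hz : z ∈ sFil P q v m') : z ∈ sFil P q v m := by
  refine (AddSubgroup.closure_le _).2 ?_ hz
  rintro _ ⟨i, y, hy, rfl⟩
  exact gen_mem P q v (LambdaSpLib.gf_anti P (by omega) hy)

theorem sFil_mul {m m' : ℕ} {z z' : K} (hz : z ∈ sFil P q v m) (hz' : z' ∈ sFil P q v m') :
    z * z' ∈ sFil P q v (m + m') := by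
  induction hz using AddSubgroup.closure_induction with
  | mem a ha =>
    obtain ⟨i, y, hy, rfl⟩ := ha
    induction hz' using AddSubgroup.closure_induction with
    | mem b hb =>
      obtain ⟨j, y', hy', rfl⟩ := hb
      rw [show q y * v ^ i * (q y' * v ^ j) = q (y * y') * v ^ (i + j) by rw [map_mul, pow_add]; ring]
      exact gen_mem P q v (LambdaSpLib.gf_anti P (by omega) (LambdaSpLib.gf_mul P hy hy'))
    | zero => rw [mul_zero]; exact zero_mem _
    | add b c _ _ hb hc => rw [mul_add]; exact add_mem hb hc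
    | neg b _ hb => rw [mul_neg]; exact neg_mem hb
  | zero => rw [zero_mul]; exact zero_mem _
  | add a b _ _ ha hb => rw [add_mul]; exact add_mem ha hb
  | neg a _ ha => rw [neg_mul]; exact neg_mem ha

theorem pull_mem {m : ℕ} {y : A} (hy : y ∈ gammaFiltration P m) : q y ∈ sFil P q v m := by
  have := gen_mem P q v (m := m) (i := 0) (y := y) hy
  rwa [pow_zero, mul_one] at this

theorem pow_v_mem (i : ℕ) : v ^ i ∈ sFil P q v i := by
  have := gen_mem P q v (m := i) (i := i) (y := 1) (by rw [Nat.sub_self, LambdaSpLib.gf_zero]; trivial)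
  rwa [map_one, one_mul] at this

theorem one_mem_sFil : (1 : K) ∈ sFil P q v 0 := by simpa using pow_v_mem P q v 0

theorem one_sub_pow_mem (k : ℕ) : (1 - v) ^ k ∈ sFil P q v 0 := by
  induction k with
  | zero => rw [pow_zero]; exact one_mem_sFil P q v
  | succ k ih =>
    rw [pow_succ]
    exact sFil_mul P q v (m := 0) (m' := 0) ih
      (sub_mem (one_mem_sFil P q v) (sFil_anti P q v (Nat.zero_le 1) (by simpa using pow_v_mem P q v 1)))

variable (hgen : ∀ z : K, z ∈ sFil P q v 0)

include hgen in
theorem sFil_smul {m : ℕ} (c : K) {z : K} (hz : z ∈ sFil P q v m) : c * z ∈ sFil P q v m := by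
  simpa using sFil_mul P q v (hgen c) hz

/-- Elements all of whose `γ`-operations respect the filtration. -/
def Good : Set K := {x | ∀ r, gamma r x ∈ sFil P q v r}

include hgen in
theorem good_zero : (0 : K) ∈ Good P q v := fun r => by
  cases r with
  | zero => exact hgen _
  | succ r => rw [LambdaSpLib.gamma_zero_arg _ (by omega)]; exact zero_mem _

theorem good_add {x y : K} (hx : x ∈ Good P q v) (hy : y ∈ Good P q v) : x + y ∈ Good P q v := fun r => by
  rw [LambdaSpLib.gamma_add]
  refine sum_mem fun i hi => sFil_anti P q v ?_ (sFil_mul P q v (hx i) (hy (r - i)))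
  omega

include hgen in
theorem good_neg {x : K} (hx : x ∈ Good P q v) : -x ∈ Good P q v := fun r => by
  induction r using Nat.strong_induction_on with
  | _ r ih =>
    cases r with
    | zero => exact hgen _
    | succ r =>
      rw [LambdaSpLib.gamma_neg]
      refine neg_mem (sum_mem fun i hi => sFil_anti P q v ?_ (sFil_mul P q v (hx (i + 1)) (ih (r - i) (by omega))))
      have := mem_range.1 hi
      omega

/-- The good elements as a subgroup. -/
def goodSub : AddSubgroup K where
  carrier := Good P q v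
  zero_mem' := good_zero P q v hgen
  add_mem' hx hy := good_add P q v hx hy
  neg_mem' hx := good_neg P q v hgen hx

include hgen in
theorem good_line_sub_one {w : K} (hw : ∀ j : ℕ, 2 ≤ j → LambdaOps.lam j w = 0)
    (h1 : ∀ j : ℕ, 2 ≤ j → LambdaOps.lam j (1 : K) = 0) (hmem : w - 1 ∈ sFil P q v 1) : w - 1 ∈ Good P q v := fun r => by
  match r with
  | 0 => exact hgen _
  | 1 => rw [LambdaSpLib.gamma_one]; exact hmem
  | r + 2 => rw [gamma_line_sub_one hw h1]; exact zero_mem _

include hgen in
theorem good_mul_line (hq : ∀ i y, q (LambdaOps.lam i y) = LambdaOps.lam i (q y)) {y : A} (hy : P.aug y = 0)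
    {w : K} (hw : ∀ j, LambdaOps.lam j (q y * w) = w ^ j * LambdaOps.lam j (q y))
    (hmem : 1 - w ∈ sFil P q v 1) : q y * w ∈ Good P q v := fun r => by
  cases r with
  | zero => exact hgen _
  | succ R =>
    rw [gamma_mul_line hw]
    refine sum_mem fun a ha => ?_
    have hp : ∀ i : ℕ, (1 - w) ^ i ∈ sFil P q v i := by
      intro i
      induction i with
      | zero => rw [pow_zero]; exact hgen _
      | succ i ih => rw [pow_succ]; exact sFil_mul P q v ih hmem
    have hg : gamma (a + 1) (q y) ∈ sFil P q v (a + 1) := by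
      rw [← LambdaSpLib.gamma_map (f := q) hq]
      exact pull_mem P q v (LambdaSpLib.gamma_mem_gf P hy _)
    rw [show (R.choose a : K) * gamma (a + 1) (q y) * w ^ (a + 1) * (1 - w) ^ (R - a) =
      ((R.choose a : K) * w ^ (a + 1)) * (gamma (a + 1) (q y) * (1 - w) ^ (R - a)) by ring]
    refine sFil_smul P q v hgen _ (sFil_anti P q v ?_ (sFil_mul P q v hg (hp (R - a))))
    have := mem_range.1 ha
    omega

end Fil

end KRRRegLib

end
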