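import Groth.Agent.KRRRegLib.Chase
import Groth.Agent.PnCohLib.FlatCriterion
import Groth.Agent.KFlatLib.PerfectPull
import Groth.Agent.LocSuppLib.LocFree
import Groth.Agent.RTrivLib.P1
import Groth.Agent.SerreVanLib.Rpush

/-!
# The direct image of a regular bundle is a bundle
-/

set_option autoImplicit false
set_option linter.all false
set_option maxHeartbeats 1000000

universe u

open CategoryTheory CategoryTheory.Limits AlgebraicGeometry Opposite

noncomputable section

namespace KRRRegLib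

/-- A finite locally free module is flat over the base of a flat morphism. -/
theorem isFlatOver_of_vb {X S : Scheme.{u}} (f : X ⟶ S) [Flat f] {F : X.Modules}
    (hF : FlatMod.IsFinLocFree F) : FlatMod.IsFlatOver f F := fun x => by
  letI := (f.stalkMap x).hom.toAlgebra
  letI := FlatMod.moduleStalkOver f F x
  haveI : IsScalarTower (S.presheaf.stalk (f x)) (X.presheaf.stalk x) (F.presheaf.stalk x) :=
    IsScalarTower.of_algebraMap_smul fun _ _ => rfl
  haveI : Module.Flat (S.presheaf.stalk (f x)) (X.presheaf.stalk x) := Flat.stalkMap f x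
  haveI : Module.Flat (X.presheaf.stalk x) (F.presheaf.stalk x) := KFlatLib.isFlat_of_isFinLocFree hF x
  exact Module.Flat.trans (S.presheaf.stalk (f x)) (X.presheaf.stalk x) (F.presheaf.stalk x)

/-- Direct images of flat coherent modules without higher direct images are finite locally free. -/
theorem isFinLocFree_push {X Y : Scheme.{u}} (f : X ⟶ Y) [IsNoetherian Y] [IsProper f] (G : X.Modules)
    (hG : Coh.IsCoh G) (hGfl : FlatMod.IsFlatOver f G)
    (hz' : ∀ p : ℕ, 1 ≤ p → IsZero ((Coh.RpushAb f p).obj (Coh.toAb G))) :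
    FlatMod.IsFinLocFree ((Scheme.Modules.pushforward f).obj G) := by
  haveI := hG.1
  refine Groth.Agent.PerfLib.isFinLocFree_of_iso (CohBCLib.rpushZero f G) fun y => ?_
  obtain ⟨W, hW, x, rfl⟩ := CohBCLib.exists_point y
  haveI := CohBCLib.isNoetherianRing_sections hW
  obtain ⟨U, hU⟩ := CohBCLib.exists_univ_overW f G hW hG hGfl
  have hh : ∀ i : ℤ, i ≤ -1 → Module.Flat Γ(Y, W) (U.P.homology i) := fun i hi => by
    obtain ⟨p, rfl⟩ : ∃ p : ℕ, i = -((p + 1 : ℕ) : ℤ) := ⟨(-i - 1).toNat, by omega⟩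
    obtain ⟨e⟩ := CohBCLib.nonempty_sections_equiv f G hW hG U (p + 1)
    obtain ⟨e'⟩ := RpushLib.nonempty_toAb_rpush_iso f G (p + 1)
    have hz : IsZero (Coh.toAb ((Coh.Rpush f (p + 1)).obj G)) := (hz' (p + 1) (by omega)).of_iso e'
    haveI : Subsingleton Γ((Coh.Rpush f (p + 1)).obj G, W) := by
      refine subsingleton_of_forall_eq 0 fun s => ?_
      exact congrArg (fun g : Coh.toAb ((Coh.Rpush f (p + 1)).obj G) ⟶ Coh.toAb ((Coh.Rpush f (p + 1)).obj G) =>
        g.hom.app (op W) s) ((IsZero.iff_id_eq_zero _).1 hz)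
    haveI := e.toEquiv.subsingleton
    infer_instance
  have h2 := CohBCLib.flat_W_of_homology_flat U.P U.fin (-(U.N : ℤ)) U.below (-1) hh (-1) le_rfl
  obtain ⟨V, hV, eV⟩ := CohBCLib.exists_free_nhd_rpush f G hG hW hU 0 (by simpa using U.flat_W_zero)
    (by simpa using h2) x
  exact ⟨V, _, hV, eV⟩

theorem isFinLocFree_push_of_isRegSheaf {n : ℕ} {Y : Scheme.{u}} [IsNoetherian Y] {F : (KRR.PY n Y).Modules}
    (hF : FlatMod.IsFinLocFree F) (hreg : KRR.IsRegSheaf n Y F) :
    FlatMod.IsFinLocFree ((Scheme.Modules.pushforward (KRR.pr n Y)).obj F) := by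
  haveI : IsProper (KRR.pr n Y) := ChowLib.isProper_toBase n Y
  haveI : Smooth (KRR.pr n Y) := RTrivLib.smooth_toBase n Y
  haveI : IsLocallyNoetherian (KRR.PY n Y) := LocallyOfFiniteType.isLocallyNoetherian (KRR.pr n Y)
  exact isFinLocFree_push (KRR.pr n Y) F (LocSuppLib.isCoh_of_isFinLocFree hF)
    (isFlatOver_of_vb (KRR.pr n Y) hF) (isZero_Rpush hreg)

end KRRRegLib

end
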