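import Groth.Prelude.Def_KRR
import Groth.Agent.PicPnLib.BaseChange
import Groth.Agent.VBP1Lib.Tensor
import Groth.Agent.RDerLib.LeftExact
import Groth.Agent.QCohLib.Modules

/-!
# Regularity and short exact sequences on projective space over a base
-/

set_option autoImplicit false
set_option linter.all false
set_option maxHeartbeats 800000

universe u

open CategoryTheory CategoryTheory.Limits AlgebraicGeometry

noncomputable section

namespace KRRRegLib

variable (n : ℕ) (T : Scheme.{u})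

/-- Twisting as a functor. -/
abbrev twFun (d : ℤ) : (KRR.PY n T).Modules ⥤ (KRR.PY n T).Modules :=
  CurvLib.tensorLeft' (Twist.twistOver n T d)

theorem isEquivalence_twFun (d : ℤ) : (twFun n T d).IsEquivalence :=
  VBP1Lib.isEquivalence_tensor (PicPnLib.twistOver_neg n T d).some

theorem shortExact_twF (d : ℤ) {S : ShortComplex (KRR.PY n T).Modules} (hS : S.ShortExact) :
    (S.map (twFun n T d)).ShortExact :=
  haveI := isEquivalence_twFun n T d
  hS.map_of_exact (twFun n T d)

/-- Iterated twists. -/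
theorem nonempty_twF_add (a b : ℤ) (F : (KRR.PY n T).Modules) :
    Nonempty (KRR.twF n T a (KRR.twF n T b F) ≅ KRR.twF n T (a + b) F) :=
  ⟨((VBP1Lib.compIso (Twist.twistOver n T a) (Twist.twistOver n T b)).app F).symm ≪≫
    ((DCoh.tensorBi (X := KRR.PY n T)).mapIso (PicPnLib.twistOver_add n T a b).some).app F⟩

/-- The underlying abelian sheaves of a twisted short exact sequence. -/
theorem shortExact_ab (d : ℤ) {S : ShortComplex (KRR.PY n T).Modules} (hS : S.ShortExact) :
    ((S.map (twFun n T d)).map (QCohLib.toAbF (KRR.PY n T))).ShortExact :=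
  (shortExact_twF n T d hS).map_of_exact (QCohLib.toAbF (KRR.PY n T))

/-- An extension of regular sheaves is regular. -/
theorem isRegSheaf_X2 {S : ShortComplex (KRR.PY n T).Modules} (hS : S.ShortExact)
    (h₁ : KRR.IsRegSheaf n T S.X₁) (h₃ : KRR.IsRegSheaf n T S.X₃) : KRR.IsRegSheaf n T S.X₂ := by
  intro i hi
  exact Groth.Agent.RDerLib.isZero_X₂ (F := Coh.pushAb (KRR.pr n T)) (shortExact_ab n T (-(i : ℤ)) hS) i (h₁ i hi) (h₃ i hi)

/-- A quotient of a regular sheaf with `1`-regular kernel is regular. -/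
theorem isRegSheaf_X3 {S : ShortComplex (KRR.PY n T).Modules} (hS : S.ShortExact)
    (h₂ : KRR.IsRegSheaf n T S.X₂) (h₁ : KRR.IsRegSheaf n T (KRR.twF n T 1 S.X₁)) : KRR.IsRegSheaf n T S.X₃ := by
  intro i hi
  refine Groth.Agent.RDerLib.isZero_X₃ (F := Coh.pushAb (KRR.pr n T)) (shortExact_ab n T (-(i : ℤ)) hS) i ?_ (h₂ i hi)
  obtain ⟨e⟩ := nonempty_twF_add n T (-((i + 1 : ℕ) : ℤ)) 1 S.X₁
  have h : (-((i + 1 : ℕ) : ℤ)) + 1 = -(i : ℤ) := by push_cast; ring
  refine (h₁ (i + 1) (Nat.le_add_left 1 i)).of_iso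
    ((Coh.RpushAb (KRR.pr n T) (i + 1)).mapIso ((QCohLib.toAbF (KRR.PY n T)).mapIso ?_))
  exact (e ≪≫ eqToIso (congrArg (fun d => KRR.twF n T d S.X₁) h)).symm

end KRRRegLib

end
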