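import Groth.Agent.KRRRegLib.Koszul
import Groth.Agent.KRRRegLib.Ses
import Groth.Agent.TwistLib.CoordGen
import Groth.Agent.TwistLib.ProjSymExt

/-!
# Shifting of regularity on projective space over an arbitrary base
-/

set_option autoImplicit false
set_option linter.all false
set_option backward.isDefEq.respectTransparency false
set_option backward.isDefEq.respectTransparency.types false
set_option maxHeartbeats 1000000

universe u

open CategoryTheory CategoryTheory.Limits AlgebraicGeometry TopologicalSpace HomologicalComplex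

noncomputable section

namespace KRRRegLib

open Groth.Agent

/-- The cycles sequence of an acyclic complex. -/
theorem cycles_shortExact {C : Type*} [Category C] [Abelian C] (M : CochainComplex C ℤ) (hM : M.Acyclic)
    (i j : ℤ) (h : i + 1 = j) :
    (ShortComplex.mk (M.iCycles i) (M.toCycles i j) (by
      rw [← cancel_mono (M.iCycles j), Category.assoc, toCycles_i, iCycles_d, zero_comp])).ShortExact := by
  have hij : (ComplexShape.up ℤ).prev j = i := by simp; omega
  haveI : Epi (M.toCycles i j) :=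
    ((ShortComplex.mk _ _ (M.toCycles_comp_homologyπ i j)).exact_of_g_is_cokernel
      (M.homologyIsCokernel i j hij)).epi_f ((hM j).isZero_homology.eq_of_tgt _ _)
  exact
    { exact := ShortComplex.exact_of_f_is_kernel _ (KernelFork.IsLimit.ofι _ _
        (fun x hx => M.liftCycles x j (by simp; omega) (by
          exact ((congrArg (x ≫ ·) (M.toCycles_i i j)).symm.trans ((Category.assoc _ _ _).symm.trans
            (hx =≫ M.iCycles j))).trans zero_comp))
        (fun x hx => M.liftCycles_i _ _ _ _)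
        (fun x hx m hm => (cancel_mono (M.iCycles i)).1 (hm.trans (M.liftCycles_i _ _ _ _).symm))) }

variable {n : ℕ} {T : Scheme.{u}}

/-- `G ↦ R^i p_*(G(d))` as a functor. -/
abbrev vFun (i : ℕ) (d : ℤ) : (KRR.PY n T).Modules ⥤
    Sheaf (Opens.grothendieckTopology T) AddCommGrpCat.{u} :=
  twFun n T d ⋙ QCohLib.toAbF (KRR.PY n T) ⋙ Coh.RpushAb (KRR.pr n T) i

/-- The vanishing of `R^i p_*(G(d))`. -/
abbrev V (i : ℕ) (d : ℤ) (G : (KRR.PY n T).Modules) : Prop :=
  IsZero ((Coh.RpushAb (KRR.pr n T) i).obj (Coh.toAb (KRR.twF n T d G)))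

theorem V.of_iso {i : ℕ} {d : ℤ} {G G' : (KRR.PY n T).Modules} (h : V i d G) (e : G' ≅ G) : V i d G' :=
  IsZero.of_iso h ((vFun i d).mapIso e)

theorem V.congr {i : ℕ} {d d' : ℤ} {G : (KRR.PY n T).Modules} (h : V i d G) (e : d = d') : V i d' G := e ▸ h

theorem V.of_isZero (i : ℕ) (d : ℤ) {G : (KRR.PY n T).Modules} (h : IsZero G) : V i d G :=
  (vFun i d).map_isZero h

theorem V.biprod {i : ℕ} {d : ℤ} {A B : (KRR.PY n T).Modules} (hA : V i d A) (hB : V i d B) : V i d (A ⊞ B) := by
  haveI := preservesBinaryBiproducts_of_preservesBiproducts (vFun (n := n) (T := T) i d)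
  exact IsZero.of_iso ((biprod_isZero_iff _ _).2 ⟨hA, hB⟩) ((vFun i d).mapBiprod A B)

theorem V.snd {i : ℕ} {d : ℤ} {A B : (KRR.PY n T).Modules} (h : V i d (A ⊞ B)) : V i d B := by
  haveI : Mono ((vFun (n := n) (T := T) i d).map (biprod.inr : B ⟶ A ⊞ B)) := inferInstance
  exact IsZero.of_mono ((vFun (n := n) (T := T) i d).map (biprod.inr : B ⟶ A ⊞ B)) h

theorem V_twF_iff (i : ℕ) (a b : ℤ) (G : (KRR.PY n T).Modules) :
    V i a (KRR.twF n T b G) ↔ V i (a + b) G := by
  obtain ⟨e⟩ := nonempty_twF_add n T a b G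
  exact ((Coh.RpushAb (KRR.pr n T) i).mapIso ((QCohLib.toAbF (KRR.PY n T)).mapIso e)).isZero_iff

/-- `O(1)`. -/
abbrev O1 (n : ℕ) (T : Scheme.{u}) : (KRR.PY n T).Modules := Twist.twistOver n T 1

theorem nonempty_tensorRight (G : (KRR.PY n T).Modules) :
    Nonempty ((DCoh.tensorRightMod (O1 n T)).obj G ≅ KRR.twF n T 1 G) :=
  ⟨HilbPolyLib.swapIso G (O1 n T)⟩

theorem V_tensorRight_iff (i : ℕ) (d : ℤ) (G : (KRR.PY n T).Modules) :
    V i d ((DCoh.tensorRightMod (O1 n T)).obj G) ↔ V i (d + 1) G := by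
  obtain ⟨e⟩ := nonempty_tensorRight G
  exact (((vFun i d).mapIso e).isZero_iff).trans (V_twF_iff i d 1 G)

variable (n T) in
/-- The coordinates on projective space over the base. -/
def coordSec (k : Fin (n + 1)) : Γ(O1 n T, ⊤) :=
  ProjUP.pullSec (pullback.fst (CohB1.ProjSpace.toSpec n (ULift.{u} ℤ)) (specULiftZIsTerminal.from T))
    (Twist.twistProjSpace n (ULift.{u} ℤ) 1) (ProjUP.coord n (ULift.{u} ℤ) k)

variable (n T) in
/-- The list of coordinates. -/
def coordList : List Γ(O1 n T, ⊤) := List.ofFn (coordSec n T)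

theorem length_coordList : (coordList n T).length = n + 1 := List.length_ofFn

theorem exists_genAt_coordList (x : (KRR.PY n T : Scheme.{u})) :
    ∃ σ ∈ coordList n T, AmpleLib.GenAt (O1 n T) σ (show x ∈ (⊤ : (KRR.PY n T).Opens) from trivial) := by
  obtain ⟨k, hk⟩ := TwistLib.exists_genAt_coord n (ULift.{u} ℤ)
    (pullback.fst (CohB1.ProjSpace.toSpec n (ULift.{u} ℤ)) (specULiftZIsTerminal.from T)) x
  exact ⟨coordSec n T k, List.mem_ofFn.mpr ⟨k, rfl⟩, hk⟩

theorem V_term {F : (KRR.PY n T).Modules} : ∀ (l : List Γ(O1 n T, ⊤)) (k : ℤ) (i : ℕ) (d : ℤ),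
    V i (d + (l.length : ℤ) + k) F → V i d ((Kz F l).X k)
  | [], k, i, d, h => by
    rcases eq_or_ne k 0 with rfl | hk
    · simp only [List.length_nil, Nat.cast_zero, add_zero] at h
      exact h.of_iso (HomologicalComplex.singleObjXSelf _ 0 F)
    · exact V.of_isZero i d (HomologicalComplex.isZero_single_obj_X _ _ _ _ hk)
  | σ :: l, k, i, d, h => by
    simp only [List.length_cons, Nat.cast_succ] at h
    refine (V.biprod ?_ ?_).of_iso (homotopyCofiber.XIsoBiprod ((secC σ).app (Kz F l)) k (k + 1) rfl)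
    · exact V_term l (k + 1) i d (h.congr (by ring))
    · exact (V_tensorRight_iff i d _).2 (V_term l k i (d + 1) (h.congr (by ring)))

theorem V_of_top {F : (KRR.PY n T).Modules} : ∀ (l : List Γ(O1 n T, ⊤)) (i : ℕ) (d : ℤ),
    V i d ((Kz F l).X 0) → V i (d + (l.length : ℤ)) F
  | [], i, d, h => by
    simp only [List.length_nil, Nat.cast_zero, add_zero]
    exact h.of_iso (HomologicalComplex.singleObjXSelf _ 0 F).symm
  | σ :: l, i, d, h => by
    simp only [List.length_cons, Nat.cast_succ]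
    have h2 := (V.of_iso h (homotopyCofiber.XIsoBiprod ((secC σ).app (Kz F l)) 0 1 rfl).symm).snd
    have h3 := V_of_top l i (d + 1) ((V_tensorRight_iff i d _).1 h2)
    exact h3.congr (by ring)

variable (n T) in
theorem isInvertible_O1 : PicF.IsInvertible (O1 n T) := PicPnLib.twistOver_inv n T 1

/-- The vanishing of the cycles. -/
theorem V_cycles {F : (KRR.PY n T).Modules} (e : ℤ) (h : ∀ q : ℕ, 1 ≤ q → V q (e - q) F) (i : ℕ) (t : ℕ) :
    V (i + 1 + t) (e + 1 - (i : ℤ) - (n + 1 : ℕ)) ((Kz F (coordList n T)).cycles (-(1 + t : ℤ))) := by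
  have hK := acyclic (isInvertible_O1 n T) F (coordList n T) exists_genAt_coordList
  have key : ∀ s t : ℕ, n + 1 ≤ s + t →
      V (i + 1 + t) (e + 1 - (i : ℤ) - (n + 1 : ℕ)) ((Kz F (coordList n T)).cycles (-(1 + t : ℤ))) := by
    intro s
    induction s with
    | zero =>
      intro t ht
      refine V.of_isZero _ _ (IsZero.of_mono ((Kz F (coordList n T)).iCycles _) (isZero_X F _ _ (Or.inr ?_)))
      rw [length_coordList]
      omega
    | succ s ih =>
      intro t ht
      have hse := shortExact_ab n T (e + 1 - (i : ℤ) - (n + 1 : ℕ))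
        (cycles_shortExact _ hK (-(1 + (t + 1 : ℕ) : ℤ)) (-(1 + t : ℤ)) (by push_cast; ring))
      refine RDerLib.isZero_X₃ (F := Coh.pushAb (KRR.pr n T)) hse (i + 1 + t) (ih (t + 1) (by omega)) ?_
      refine V_term (coordList n T) _ _ _ ?_
      rw [length_coordList]
      exact V.congr (h (i + 1 + t) (by omega)) (by push_cast; ring)
  exact key (n + 1) t (Nat.le_add_right _ _)

/-- One step of the shift. -/
theorem V_succ {F : (KRR.PY n T).Modules} (e : ℤ) (h : ∀ q : ℕ, 1 ≤ q → V q (e - q) F) (i : ℕ) (hi : 1 ≤ i) :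
    V i (e + 1 - (i : ℤ)) F := by
  have hK := acyclic (isInvertible_O1 n T) F (coordList n T) exists_genAt_coordList
  let d : ℤ := e + 1 - (i : ℤ) - (n + 1 : ℕ)
  have hse := shortExact_ab n T d (cycles_shortExact _ hK (-1) 0 rfl)
  have h0 : V i d ((Kz F (coordList n T)).cycles 0) := by
    refine RDerLib.isZero_X₃ (F := Coh.pushAb (KRR.pr n T)) hse i ?_ ?_
    · have h2 := V_cycles e h i 0
      simp only [Nat.cast_zero, add_zero] at h2
      exact h2
    · refine V_term (coordList n T) _ _ _ ?_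
      rw [length_coordList]
      exact V.congr (h i hi) (by simp only [d]; push_cast; ring)
  haveI := (Kz F (coordList n T)).isIso_iCycles 0 1 (by simp)
    ((isZero_X F _ 1 (Or.inl one_pos)).eq_of_tgt _ _)
  have h1 := V_of_top (coordList n T) i d (h0.of_iso (asIso ((Kz F (coordList n T)).iCycles 0)).symm)
  rw [length_coordList] at h1
  exact h1.congr (by simp only [d]; push_cast; ring)

/-- Regularity of all nonnegative shifts. -/
theorem V_shift {F : (KRR.PY n T).Modules} (hreg : KRR.IsRegSheaf n T F) : ∀ (m i : ℕ), 1 ≤ i →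
    V i ((m : ℤ) - i) F
  | 0, i, hi => V.congr (hreg i hi) (by simp)
  | m + 1, i, hi => (V_succ (m : ℤ) (V_shift hreg m) i hi).congr (by push_cast; ring)

theorem isRegSheaf_twF {F : (KRR.PY n T).Modules} (hreg : KRR.IsRegSheaf n T F) (m : ℕ) :
    KRR.IsRegSheaf n T (KRR.twF n T (m : ℤ) F) := by
  intro i hi
  refine (V_twF_iff i _ _ F).2 ?_
  exact (V_shift hreg m i hi).congr (by ring)

theorem nonempty_twF_zero (F : (KRR.PY n T).Modules) : Nonempty (KRR.twF n T 0 F ≅ F) :=
  ⟨((DCoh.tensorBi (X := KRR.PY n T)).mapIso (PicPnLib.twistOver_zero n T).some).app F ≪≫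
    KFlatLib.tensUnitIso F⟩

theorem isZero_Rpush {F : (KRR.PY n T).Modules} (hreg : KRR.IsRegSheaf n T F) (i : ℕ) (hi : 1 ≤ i) :
    IsZero ((Coh.RpushAb (KRR.pr n T) i).obj (Coh.toAb F)) := by
  obtain ⟨e⟩ := nonempty_twF_zero F
  have h : V i 0 F := (V_shift hreg i i hi).congr (sub_self _)
  exact IsZero.of_iso h ((Coh.RpushAb (KRR.pr n T) i).mapIso ((QCohLib.toAbF (KRR.PY n T)).mapIso e)).symm

end KRRRegLib

end
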