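import Groth.Agent.MiscFlat6.TensorExtend

/-!
# Extension of sections into twists over a compact quasi-separated open
-/

set_option autoImplicit false
set_option linter.all false
universe u
open CategoryTheory CategoryTheory.Limits AlgebraicGeometry TopologicalSpace Opposite
open AmpleLib AmpleThLib
open TwistLib (genSet)

noncomputable section

namespace KRRRegLib

variable {X : Scheme.{u}}

/-- sections on the locus of a section of `P` extend after twisting by powers of `P` -/
theorem exists_extend_tensor_on {U₀ : X.Opens} (hU₀ : IsCompact (U₀ : Set X)) (hqs : IsQuasiSeparated (U₀ : Set X)) {P : X.Modules}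
    (hP : PicF.IsInvertible P) (M : X.Modules) [Coh.IsQCoh M] (t : Γ(P, ⊤)) (m : Γ(M, genSet hP t ⊓ U₀)) :
    ∃ N : ℕ, ∀ N', N ≤ N' → ∃ u : Γ(CohB1.tensorMod M (CohB1.tensorPow P N'), U₀),
      res _ (inf_le_right : genSet hP t ⊓ U₀ ≤ U₀) u = shT m (res _ le_top (pS t N')) := by
  classical
  let T := genSet hP t ⊓ U₀
  have hloc : ∀ x : U₀, ∃ (U : X.Opens) (e : Γ(P, U)), x.1 ∈ U ∧ GenOn P e ∧ IsAffineOpen U ∧ U ≤ U₀ := by
    rintro ⟨x, hx₀⟩
    obtain ⟨U, e, hx, he⟩ := TwistLib.exists_genOn hP x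
    obtain ⟨W, hW, hxW, hWU⟩ := exists_isAffineOpen_mem_and_subset (show x ∈ U ⊓ U₀ from ⟨hx, hx₀⟩)
    exact ⟨W, res P (fun y hy => (hWU hy).1) e, hxW, he.res _, hW, fun y hy => (hWU hy).2⟩
  choose U e hmem hgen haff hUle using hloc
  obtain ⟨S, hS⟩ := hU₀.elim_finite_subcover (fun x : U₀ => (U x : Set X))
    (fun x => (U x).2) fun x hx => Set.mem_iUnion.mpr ⟨⟨x, hx⟩, hmem ⟨x, hx⟩⟩
  choose f hf using fun i : S => exists_coeff t (hgen i.1)
  have hB : ∀ i : S, T ⊓ U i.1 = X.basicOpen (f i) := fun i => by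
    rw [← mem_genSet_coeff hP t (hgen i.1) (hf i), inf_assoc, inf_eq_right.mpr (hUle i.1)]
  have hBV : ∀ i : S, X.basicOpen (f i) ≤ T := fun i => (hB i) ▸ inf_le_left
  choose n b hb using fun i : S => (QCohLib.localizingAt_of_qcqs M (haff i.1).isCompact
    (haff i.1).isQuasiSeparated (f i)).exists_extend (res M (hBV i) m)
  let N₀ := Finset.univ.sum n
  let B : ℕ → ∀ i : S, Γ(M, U i.1) := fun N i => f i ^ (N - n i) • b i
  have hval : ∀ (i : S) (N : ℕ), N₀ ≤ N → ∀ (W : X.Opens) (hW : W ≤ X.basicOpen (f i)),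
      res M (hW.trans (X.basicOpen_le _)) (B N i) =
        rX (hW.trans (X.basicOpen_le _)) (f i) ^ N • res M (hW.trans (hBV i)) m := by
    intro i N hN W hW
    have e1 : res M (X.basicOpen_le (f i)) (b i) = rX (X.basicOpen_le _) (f i) ^ n i • res M (hBV i) m := hb i
    have e2 := congrArg (res M hW) e1
    rw [res_res, res_smul, res_res, map_pow] at e2
    simp only [rX, ← CommRingCat.comp_apply, ← Functor.map_comp, ← op_comp, homOfLE_comp] at e2
    show res M _ (f i ^ (N - n i) • b i) = _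
    rw [res_smul, map_pow, e2, smul_smul, rX, ← pow_add,
      Nat.sub_add_cancel (le_trans (Finset.single_le_sum (fun j _ => Nat.zero_le (n j)) (Finset.mem_univ i)) hN)]
  have hBdef : ∀ N i, B N i = f i ^ (N - n i) • b i := fun _ _ => rfl
  clear_value B
  have hK : ∀ p : S × S, ∃ K : ℕ, ∀ N, N₀ + K ≤ N →
      res (CohB1.tensorMod M (CohB1.tensorPow P N)) (inf_le_left : U p.1.1 ⊓ U p.2.1 ≤ U p.1.1)
          (shT (B N p.1) (pS (e p.1.1) N)) =
        res (CohB1.tensorMod M (CohB1.tensorPow P N)) (inf_le_right : U p.1.1 ⊓ U p.2.1 ≤ U p.2.1)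
          (shT (B N p.2) (pS (e p.2.1) N)) := by
    rintro ⟨i, j⟩
    let W := U i.1 ⊓ U j.1
    have hi : W ≤ U i.1 := inf_le_left
    have hj : W ≤ U j.1 := inf_le_right
    obtain ⟨c, hc⟩ := ((hgen i.1) W hi).2 (res P hj (e j.1))
    dsimp only at hc
    have hff : rX hi (f i) = rX hj (f j) * c := by
      refine ((hgen i.1) W hi).1 ?_
      dsimp only
      rw [mul_smul, hc]
      have h1 := congrArg (res P hi) (hf i)
      have h2 := congrArg (res P hj) (hf j)
      rw [res_smul, res_res] at h1 h2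
      exact h1.trans h2.symm
    let r : Γ(X, W) := rX hi (f i)
    have hcW : IsCompact (W : Set X) :=
      hqs _ _ (hUle i.1) (U i.1).2 (haff i.1).isCompact (hUle j.1) (U j.1).2 (haff j.1).isCompact
    let D := W ⊓ X.basicOpen r
    obtain ⟨K, hK⟩ := QCohLib.exists_pow_smul_eq_zero (M := M) r W hcW le_rfl
      (res M hi (B N₀ i) - c ^ N₀ • res M hj (B N₀ j)) (by
        have hDi : D ≤ X.basicOpen (f i) := by
          simp only [D, r, rX, Scheme.basicOpen_res]; exact inf_le_right.trans inf_le_right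
        have hDj : D ≤ X.basicOpen (f j) := by
          rw [← hB j]; exact le_inf (hDi.trans (hBV i)) (inf_le_left.trans inf_le_right)
        show res M (inf_le_left : D ≤ W) _ = 0
        rw [AmpleLib.res, map_sub, sub_eq_zero]
        show res M (inf_le_left : D ≤ W) _ = res M (inf_le_left : D ≤ W) _
        rw [res_smul, res_res, res_res, hval i N₀ le_rfl D hDi, hval j N₀ le_rfl D hDj, smul_smul, map_pow,
          ← mul_pow]
        congr 2
        have h1 := congrArg (rX (inf_le_left : D ≤ W)) hff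
        simp only [rX, map_mul, ← CommRingCat.comp_apply, ← Functor.map_comp, ← op_comp, homOfLE_comp] at h1
        exact h1.trans (mul_comm _ _))
    have e0 : X.presheaf.map (homOfLE (le_refl W)).op r = r := congr($(X.presheaf.map_id _) r)
    rw [e0] at hK
    refine ⟨K, fun N hN => ?_⟩
    obtain ⟨l, rfl⟩ : ∃ l, N = l + K + N₀ := ⟨N - K - N₀, by omega⟩
    have hshift : ∀ (k : S) (hk : W ≤ U k.1),
        res M hk (B (l + K + N₀) k) = rX hk (f k) ^ (l + K) • res M hk (B N₀ k) := by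
      intro k hk
      rw [hBdef, hBdef, res_smul M hk (f k ^ (N₀ - n k))]
      have : l + K + N₀ - n k = l + K + (N₀ - n k) := by
        have := Finset.single_le_sum (fun j _ => Nat.zero_le (n j)) (Finset.mem_univ k)
        have : n k ≤ N₀ := this
        omega
      rw [this, res_smul, smul_smul, map_pow, map_pow, ← pow_add]
    have h0 : res M hi (B (l + K + N₀) i) = c ^ (l + K + N₀) • res M hj (B (l + K + N₀) j) := by
      have h1 : r ^ (l + K) • (res M hi (B N₀ i) - c ^ N₀ • res M hj (B N₀ j)) = 0 := by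
        rw [pow_add, mul_smul, hK, smul_zero]
      rw [smul_sub, sub_eq_zero] at h1
      rw [hshift i hi, hshift j hj, smul_smul]
      refine h1.trans ?_
      rw [smul_smul]
      congr 1
      show r ^ (l + K) * c ^ N₀ = _
      rw [show r = rX hj (f j) * c from hff]
      ring
    rw [shT_res, shT_res, pS_res, pS_res, h0, ← hc, pS_smul]
    have h2 := shT_smul (c ^ (l + K + N₀)) 1 (res M hj (B (l + K + N₀) j)) (pS (res P hi (e i.1)) (l + K + N₀))
    have h3 := shT_smul 1 (c ^ (l + K + N₀)) (res M hj (B (l + K + N₀) j)) (pS (res P hi (e i.1)) (l + K + N₀))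
    rw [one_smul, mul_one] at h2
    rw [one_smul, one_mul] at h3
    exact h2.trans h3.symm
  choose K hK using hK
  refine ⟨N₀ + Finset.univ.sum K, fun N hN => ?_⟩
  have hNK : ∀ p, N₀ + K p ≤ N := fun p =>
    le_trans (Nat.add_le_add_left (Finset.single_le_sum (fun q _ => Nat.zero_le (K q)) (Finset.mem_univ p)) _) hN
  obtain ⟨u, hu, -⟩ := TopCat.Sheaf.existsUnique_gluing'
    (F := ⟨(CohB1.tensorMod M (CohB1.tensorPow P N)).presheaf, (CohB1.tensorMod M (CohB1.tensorPow P N)).isSheaf⟩)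
    (fun i : S => U i.1) U₀ (fun i => homOfLE (hUle i.1))
    (fun y hy => by
      obtain ⟨i, hi, hyi⟩ := Set.mem_iUnion₂.mp (hS hy)
      exact Opens.mem_iSup.mpr ⟨⟨i, hi⟩, hyi⟩)
    (fun i => shT (B N i) (pS (e i.1) N)) (fun i j => hK (i, j) N (hNK _))
  refine ⟨u, ?_⟩
  refine TopCat.Sheaf.eq_of_locally_eq'
    (F := ⟨(CohB1.tensorMod M (CohB1.tensorPow P N)).presheaf, (CohB1.tensorMod M (CohB1.tensorPow P N)).isSheaf⟩)
    (fun i : S => X.basicOpen (f i)) T (fun i => homOfLE (hBV i))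
    (fun y hy => by
      obtain ⟨i, hi, hyi⟩ := Set.mem_iUnion₂.mp (hS hy.2)
      exact Opens.mem_iSup.mpr ⟨⟨i, hi⟩, (hB ⟨i, hi⟩).le ⟨hy, hyi⟩⟩) _ _ fun i => ?_
  show res _ (hBV i) (res _ (inf_le_right : T ≤ U₀) u) = res _ (hBV i) _
  rw [res_res]
  have hui : res _ (hUle i.1) u = shT (B N i) (pS (e i.1) N) := hu i
  rw [show res _ ((hBV i).trans inf_le_right : X.basicOpen (f i) ≤ U₀) u =
    res _ (X.basicOpen_le (f i)) (res _ (hUle i.1) u) from (res_res _ _ _ _).symm, hui,
    shT_res, shT_res, res_res, pS_res, pS_res, hval i N (by omega) _ le_rfl]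
  have h1 := congrArg (res P (X.basicOpen_le (f i))) (hf i)
  rw [res_smul, res_res] at h1
  rw [← h1, pS_smul]
  have h2 := shT_smul (rX (X.basicOpen_le (f i)) (f i) ^ N) 1 (res M (hBV i) m) (pS (res P (X.basicOpen_le (f i)) (e i.1)) N)
  have h3 := shT_smul 1 (rX (X.basicOpen_le (f i)) (f i) ^ N) (res M (hBV i) m) (pS (res P (X.basicOpen_le (f i)) (e i.1)) N)
  rw [one_smul, mul_one] at h2
  rw [one_smul, one_mul] at h3
  exact h2.trans h3.symm

end KRRRegLib
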