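import Groth.Agent.KRRRegLib.Chase
import Groth.Agent.KRRRegLib.Extend
import Groth.Agent.RpushLib.Ab
import Groth.Agent.RelProjLib.Coords
import Groth.Agent.FlatLib.QStalk
import Groth.Agent.DCohRestrLib.Support
import Groth.Agent.ExtShLib.Hcx
import Groth.Agent.EGA2SymLib.PBTensor
import Groth.Agent.KFlatLib.PullTensor

/-!
# Regular sheaves are generated by their direct image
-/

set_option autoImplicit false
set_option linter.all false
set_option backward.isDefEq.respectTransparency false
set_option backward.isDefEq.respectTransparency.types false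
set_option maxHeartbeats 1000000

universe u

open CategoryTheory CategoryTheory.Limits AlgebraicGeometry TopologicalSpace Opposite HomologicalComplex

noncomputable section

namespace KRRRegLib

open Groth.Agent
open AmpleLib (res GenOn GenAt shT)

variable {n : ℕ} {T : Scheme.{u}}

variable (n T) in
/-- `G ↦ p_*(G(d))` on abelian sheaves. -/
abbrev pFun (d : ℤ) : (KRR.PY n T).Modules ⥤ Sheaf (Opens.grothendieckTopology T) AddCommGrpCat.{u} :=
  twFun n T d ⋙ QCohLib.toAbF (KRR.PY n T) ⋙ Coh.pushAb (KRR.pr n T)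

/-- A morphism of modules becomes an epimorphism of direct images after twisting. -/
abbrev PE (d : ℤ) {A B : (KRR.PY n T).Modules} (a : A ⟶ B) : Prop := Epi ((pFun n T d).map a)

theorem PE.congr {d d' : ℤ} {A B : (KRR.PY n T).Modules} {a : A ⟶ B} (h : PE d a) (e : d = d') : PE d' a := e ▸ h

variable (n T) in
/-- Composition of twists, naturally. -/
def twAddIso (a b : ℤ) : twFun n T b ⋙ twFun n T a ≅ twFun n T (a + b) :=
  (VBP1Lib.compIso (Twist.twistOver n T a) (Twist.twistOver n T b)).symm ≪≫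
    (DCoh.tensorBi (X := KRR.PY n T)).mapIso (PicPnLib.twistOver_add n T a b).some

variable (n T) in
/-- The right tensor product with `O(1)` is the twist. -/
def tensorRightIso : DCoh.tensorRightMod (O1 n T) ≅ twFun n T 1 :=
  (KoszOrthLib.tRNat (O1 n T)).symm ≪≫ ExtShLib.flipIso (O1 n T)

theorem PE_natIso {F G : (KRR.PY n T).Modules ⥤ (KRR.PY n T).Modules} (e : F ≅ G) (d : ℤ)
    {A B : (KRR.PY n T).Modules} (a : A ⟶ B) : PE d (F.map a) ↔ PE d (G.map a) :=
  MorphismProperty.arrow_mk_iso_iff (MorphismProperty.epimorphisms _)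
    (Arrow.isoMk ((pFun n T d).mapIso (e.app A)) ((pFun n T d).mapIso (e.app B))
      (by simp only [Arrow.mk_hom, Functor.mapIso_hom, Iso.app_hom]
          exact ((pFun n T d).map_comp _ _).symm.trans ((congrArg (pFun n T d).map (e.hom.naturality a)).symm.trans
            ((pFun n T d).map_comp _ _))))

theorem PE_twFun (d b : ℤ) {A B : (KRR.PY n T).Modules} (a : A ⟶ B) :
    PE d ((twFun n T b).map a) ↔ PE (d + b) a :=
  MorphismProperty.arrow_mk_iso_iff (MorphismProperty.epimorphisms _)
    (Arrow.isoMk ((QCohLib.toAbF _ ⋙ Coh.pushAb (KRR.pr n T)).mapIso ((twAddIso n T d b).app A))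
      ((QCohLib.toAbF _ ⋙ Coh.pushAb (KRR.pr n T)).mapIso ((twAddIso n T d b).app B))
      (by simp only [Arrow.mk_hom, Functor.mapIso_hom, Iso.app_hom]
          exact ((QCohLib.toAbF _ ⋙ Coh.pushAb (KRR.pr n T)).map_comp _ _).symm.trans
            ((congrArg (QCohLib.toAbF _ ⋙ Coh.pushAb (KRR.pr n T)).map ((twAddIso n T d b).hom.naturality a)).symm.trans
            ((QCohLib.toAbF _ ⋙ Coh.pushAb (KRR.pr n T)).map_comp _ _))))

theorem PE_tensorRight (d : ℤ) {A B : (KRR.PY n T).Modules} (a : A ⟶ B) :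
    PE d ((DCoh.tensorRightMod (O1 n T)).map a) ↔ PE (d + 1) a :=
  (PE_natIso (tensorRightIso n T) d a).trans (PE_twFun d 1 a)

theorem PE_term {G F : (KRR.PY n T).Modules} (ι : G ⟶ F) : ∀ (l : List Γ(O1 n T, ⊤)) (k d : ℤ),
    PE (d + (l.length : ℤ) + k) ι → PE d ((kzMap ι l).f k)
  | [], k, d, h => by
    simp only [List.length_nil, Nat.cast_zero, add_zero] at h
    rcases eq_or_ne k 0 with rfl | hk
    · rw [add_zero] at h
      have hh : ((kzMap (L := O1 n T) ι []).f 0) =
          (HomologicalComplex.singleObjXSelf (ComplexShape.up ℤ) 0 G).hom ≫ ι ≫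
            (HomologicalComplex.singleObjXSelf (ComplexShape.up ℤ) 0 F).inv :=
        HomologicalComplex.single_map_f_self _ 0 ι
      haveI : Epi ((pFun n T d).map ι) := h
      rw [PE, hh, Functor.map_comp, Functor.map_comp]
      exact epi_comp _ _
    · exact ((pFun n T d).map_isZero (HomologicalComplex.isZero_single_obj_X _ _ _ _ hk)).epi _
  | σ :: l, k, d, h => by
    simp only [List.length_cons, Nat.cast_succ] at h
    haveI ha : Epi ((pFun n T d).map ((kzMap ι l).f (k + 1))) := PE_term ι l (k + 1) d (h.congr (by ring))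
    haveI hb : Epi ((pFun n T d).map ((DCoh.tensorRightMod (O1 n T)).map ((kzMap ι l).f k))) :=
      (PE_tensorRight d _).2 (PE_term ι l k (d + 1) (h.congr (by ring)))
    let φG := (secC σ).app (Kz G l)
    let φF := (secC σ).app (Kz F l)
    let f := (kzMap ι (σ :: l)).f k
    have e1 : (CochainComplex.mappingCone.inl φG).v (k + 1) k (by omega) ≫ f =
        (kzMap ι l).f (k + 1) ≫ (CochainComplex.mappingCone.inl φF).v (k + 1) k (by omega) := by
      simp [f, φG, φF, kzMap, CochainComplex.mappingCone.map]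
    have e2 : (CochainComplex.mappingCone.inr φG).f k ≫ f =
        (DCoh.tensorRightMod (O1 n T)).map ((kzMap ι l).f k) ≫ (CochainComplex.mappingCone.inr φF).f k := by
      simp [f, φG, φF, kzMap, CochainComplex.mappingCone.map]
    refine Preadditive.epi_of_cancel_zero _ fun {P} u hu => ?_
    have h1 : (pFun n T d).map ((CochainComplex.mappingCone.inl φF).v (k + 1) k (by omega)) ≫ u = 0 := by
      rw [← cancel_epi ((pFun n T d).map ((kzMap ι l).f (k + 1))), comp_zero, ← Functor.map_comp_assoc, ← e1,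
        Functor.map_comp_assoc]
      exact (congrArg (_ ≫ ·) hu).trans comp_zero
    have h2 : (pFun n T d).map ((CochainComplex.mappingCone.inr φF).f k) ≫ u = 0 := by
      rw [← cancel_epi ((pFun n T d).map ((DCoh.tensorRightMod (O1 n T)).map ((kzMap ι l).f k))), comp_zero,
        ← Functor.map_comp_assoc, ← e2, Functor.map_comp_assoc]
      exact (congrArg (_ ≫ ·) hu).trans comp_zero
    calc u = (pFun n T d).map (𝟙 _) ≫ u := by rw [CategoryTheory.Functor.map_id, Category.id_comp]
      _ = 0 := by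
        rw [show (𝟙 ((Kz F (σ :: l)).X k)) = _ from (CochainComplex.mappingCone.id_X φF k (k + 1) rfl).symm,
          Functor.map_add, Preadditive.add_comp, Functor.map_comp_assoc, Functor.map_comp_assoc, h1, h2,
          comp_zero, comp_zero, add_zero]

theorem PE_of_top {G F : (KRR.PY n T).Modules} (ι : G ⟶ F) : ∀ (l : List Γ(O1 n T, ⊤)) (d : ℤ),
    PE d ((kzMap ι l).f 0) → PE (d + (l.length : ℤ)) ι
  | [], d, h => by
    simp only [List.length_nil, Nat.cast_zero, add_zero]
    have hh : ((kzMap (L := O1 n T) ι []).f 0) ≫ (HomologicalComplex.singleObjXSelf (ComplexShape.up ℤ) 0 F).hom =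
        (HomologicalComplex.singleObjXSelf (ComplexShape.up ℤ) 0 G).hom ≫ ι :=
      ((HomologicalComplex.single_map_f_self _ 0 ι) =≫ _).trans
        (by rw [Category.assoc, Category.assoc, Iso.inv_hom_id, Category.comp_id])
    haveI : Epi ((pFun n T d).map ((kzMap (L := O1 n T) ι []).f 0)) := h
    haveI : Epi ((pFun n T d).map (HomologicalComplex.singleObjXSelf (ComplexShape.up ℤ) 0 G).hom ≫
        (pFun n T d).map ι) := by
      rw [← Functor.map_comp, ← hh, Functor.map_comp]
      exact epi_comp _ _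
    exact epi_of_epi ((pFun n T d).map (HomologicalComplex.singleObjXSelf (ComplexShape.up ℤ) 0 G).hom) _
  | σ :: l, d, h => by
    simp only [List.length_cons, Nat.cast_succ]
    let φG := (secC σ).app (Kz G l)
    let φF := (secC σ).app (Kz F l)
    have e : (kzMap ι (σ :: l)).f 0 ≫ (CochainComplex.mappingCone.snd φF).v 0 0 (add_zero 0) =
        (CochainComplex.mappingCone.snd φG).v 0 0 (add_zero 0) ≫
          (DCoh.tensorRightMod (O1 n T)).map ((kzMap ι l).f 0) := by
      refine CochainComplex.mappingCone.ext_from φG 1 0 rfl ?_ ?_ <;>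
        simp [φG, φF, kzMap, CochainComplex.mappingCone.map]
    haveI : IsSplitEpi ((CochainComplex.mappingCone.snd φF).v 0 0 (add_zero 0)) :=
      IsSplitEpi.mk' ⟨(CochainComplex.mappingCone.inr φF).f 0, CochainComplex.mappingCone.inr_f_snd_v φF 0⟩
    haveI : Epi ((pFun n T d).map ((kzMap ι (σ :: l)).f 0)) := h
    haveI : Epi ((pFun n T d).map ((CochainComplex.mappingCone.snd φG).v 0 0 (add_zero 0)) ≫
        (pFun n T d).map ((DCoh.tensorRightMod (O1 n T)).map ((kzMap ι l).f 0))) := by
      rw [← Functor.map_comp, ← e, Functor.map_comp]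
      exact epi_comp _ _
    have h3 : PE d ((DCoh.tensorRightMod (O1 n T)).map ((kzMap ι l).f 0)) :=
      epi_of_epi ((pFun n T d).map ((CochainComplex.mappingCone.snd φG).v 0 0 (add_zero 0))) _
    exact (PE_of_top ι l (d + 1) ((PE_tensorRight d _).1 h3)).congr (by ring)

/-- The top differential of the Koszul complex is surjective on direct images. -/
theorem PE_differential {F : (KRR.PY n T).Modules} (e : ℤ) (h : ∀ q : ℕ, 1 ≤ q → V q (e - q) F) :
    PE (e + 1 - (n + 1 : ℕ)) ((Kz F (coordList n T)).d (-1) 0) := by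
  have hK := acyclic (isInvertible_O1 n T) F (coordList n T) exists_genAt_coordList
  have hse := shortExact_ab n T (e + 1 - (n + 1 : ℕ)) (cycles_shortExact _ hK (-1) 0 rfl)
  have hepi := RDerLib.epi_map_g (F := Coh.pushAb (KRR.pr n T)) hse 0 (by
    have h2 := V_cycles e h 0 0
    simp only [Nat.cast_zero, add_zero, sub_zero, zero_add] at h2
    exact h2)
  haveI : Epi ((pFun n T (e + 1 - (n + 1 : ℕ))).map ((Kz F (coordList n T)).toCycles (-1) 0)) :=
    (RDerLib.epi_map_g_iff (F := Coh.pushAb (KRR.pr n T)) _).1 hepi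
  haveI := (Kz F (coordList n T)).isIso_iCycles 0 1 (by simp)
    ((isZero_X F (coordList n T) 1 (Or.inl one_pos)).eq_of_tgt _ _)
  rw [PE, ← (Kz F (coordList n T)).toCycles_i (-1) 0, Functor.map_comp]
  exact epi_comp _ _

/-- Surjectivity on direct images propagates to all nonnegative twists. -/
theorem PE_all {G F : (KRR.PY n T).Modules} (ι : G ⟶ F) (hreg : KRR.IsRegSheaf n T F) (h0 : PE 0 ι) :
    ∀ e : ℕ, PE (e : ℤ) ι
  | 0 => h0.congr (by simp)
  | e + 1 => by
    let d : ℤ := (e : ℤ) + 1 - (n + 1 : ℕ)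
    haveI h1 : Epi ((pFun n T d).map ((kzMap ι (coordList n T)).f (-1))) :=
      PE_term ι (coordList n T) (-1) d ((PE_all ι hreg h0 e).congr (by
        rw [length_coordList]; simp only [d]; push_cast; ring))
    haveI h2 : Epi ((pFun n T d).map ((Kz F (coordList n T)).d (-1) 0)) := PE_differential _ (V_shift hreg e)
    haveI : Epi ((pFun n T d).map ((Kz G (coordList n T)).d (-1) 0) ≫
        (pFun n T d).map ((kzMap ι (coordList n T)).f 0)) := by
      rw [← Functor.map_comp, ← (kzMap ι (coordList n T)).comm (-1) 0, Functor.map_comp]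
      exact epi_comp _ _
    have h3 : PE d ((kzMap ι (coordList n T)).f 0) :=
      epi_of_epi ((pFun n T d).map ((Kz G (coordList n T)).d (-1) 0)) _
    exact (PE_of_top ι (coordList n T) d h3).congr (by rw [length_coordList]; simp only [d]; push_cast; ring)

variable (n T) in
/-- Powers of `O(1)`. -/
theorem nonempty_pow_O1 : ∀ N : ℕ, Nonempty (CohB1.tensorPow (O1 n T) N ≅ Twist.twistOver n T (N : ℤ))
  | 0 => ⟨(PicPnLib.twistOver_zero n T).some.symm⟩
  | N + 1 => by
    obtain ⟨e⟩ := nonempty_pow_O1 N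
    obtain ⟨e'⟩ := PicPnLib.twistOver_add n T (N : ℤ) 1
    exact ⟨HilbPolyLib.congrLeft e _ ≪≫ e' ≪≫ eqToIso (by push_cast; rfl)⟩

theorem genAt_coordSec_iff (k : Fin (n + 1)) (x : (KRR.PY n T : Scheme.{u})) :
    GenAt (O1 n T) (coordSec n T k) (show x ∈ (⊤ : (KRR.PY n T).Opens) from trivial) ↔
      x ∈ ChowLib.toPZ n T ⁻¹ᵁ ChowLib.Dplus k := by
  classical
  let R := ULift.{u} ℤ
  let b := Pi.basisFun R (Fin (n + 1))
  let ι : (Fin (n + 1) → R) →ₗ[R] MvPolynomial (Fin (n + 1)) R := Module.Basis.constr b R MvPolynomial.X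
  have hι : ∀ m, ι m ∈ CohB1.polyGrading n R 1 := by
    intro m
    rw [Module.Basis.constr_apply_fintype]
    exact sum_mem fun i _ => Submodule.smul_mem _ _ (MvPolynomial.isHomogeneous_X R i)
  have h := TwistLib.SymUP.genAt_pull_iff (CohB1.polyGrading n R) ι hι
    (SymmetricAlgebra.IsSymmetricAlgebra.mvPolynomial (Fin (n + 1)) b) (ChowLib.toPZ n T) (b k) x
  have e : (⟨ι (b k), hι (b k)⟩ : CohB1.polyGrading n R 1) =
      ⟨MvPolynomial.X k, MvPolynomial.isHomogeneous_X R k⟩ := Subtype.ext (b.constr_basis R _ k)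
  rw [e, b.constr_basis R _ k] at h
  exact h

/-- A regular sheaf is generated by its direct image. -/
theorem epi_counit {F : (KRR.PY n T).Modules} [Coh.IsQCoh F] (hreg : KRR.IsRegSheaf n T F) :
    Epi ((Scheme.Modules.pullbackPushforwardAdjunction (KRR.pr n T)).counit.app F) := by
  classical
  let p := KRR.pr n T
  let adj := Scheme.Modules.pullbackPushforwardAdjunction p
  let ε := adj.counit.app F
  let ι : Abelian.image ε ⟶ F := Abelian.image.ι ε
  suffices hι : Epi ι by
    have hfac : Abelian.factorThruImage ε ≫ ι = ε := Abelian.image.fac ε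
    rw [show adj.counit.app F = _ from hfac.symm]
    exact epi_comp _ _
  have h0 : PE 0 ι := by
    haveI : IsSplitEpi ((Scheme.Modules.pushforward p).map ε) :=
      IsSplitEpi.mk' ⟨adj.unit.app ((Scheme.Modules.pushforward p).obj F), adj.right_triangle_components F⟩
    haveI : Epi ((Scheme.Modules.pushforward p).map ι) := by
      haveI : Epi ((Scheme.Modules.pushforward p).map (Abelian.factorThruImage ε) ≫
          (Scheme.Modules.pushforward p).map ι) := by
        rw [← Functor.map_comp, Abelian.image.fac]; infer_instance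
      exact epi_of_epi ((Scheme.Modules.pushforward p).map (Abelian.factorThruImage ε)) _
    haveI : Epi ((QCohLib.toAbF T).map ((Scheme.Modules.pushforward p).map ι)) := inferInstance
    have e0 : twFun n T 0 ≅ 𝟭 _ :=
      (DCoh.tensorBi (X := KRR.PY n T)).mapIso (PicPnLib.twistOver_zero n T).some ≪≫ VBP1Lib.unitNatIso
    exact (MorphismProperty.arrow_mk_iso_iff (MorphismProperty.epimorphisms _)
      (Arrow.isoMk ((QCohLib.toAbF _ ⋙ Coh.pushAb (KRR.pr n T)).mapIso (e0.app (Abelian.image ε)))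
        ((QCohLib.toAbF _ ⋙ Coh.pushAb (KRR.pr n T)).mapIso (e0.app F))
        (by simp only [Arrow.mk_hom, Functor.mapIso_hom, Iso.app_hom]
            exact ((QCohLib.toAbF _ ⋙ Coh.pushAb (KRR.pr n T)).map_comp _ _).symm.trans
              ((congrArg (QCohLib.toAbF _ ⋙ Coh.pushAb (KRR.pr n T)).map (e0.hom.naturality ι)).symm.trans
              ((QCohLib.toAbF _ ⋙ Coh.pushAb (KRR.pr n T)).map_comp _ _))))).2
      (show Epi ((QCohLib.toAbF T).map ((Scheme.Modules.pushforward p).map ι)) from inferInstance)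
  refine Preadditive.epi_of_isZero_cokernel ι ((DCohRestrLib.isZero_iff_subsingleton_stalks _).2 fun x => ?_)
  let Q := cokernel ι
  let π : F ⟶ Q := cokernel.π ι
  obtain ⟨V₀, hV₀, hpx, -⟩ := exists_isAffineOpen_mem_and_subset (show p x ∈ (⊤ : T.Opens) from trivial)
  obtain ⟨σ, hσl, hσ⟩ := exists_genAt_coordList x
  obtain ⟨k, rfl⟩ := List.mem_ofFn.mp hσl
  let U := p ⁻¹ᵁ V₀
  have hT : TwistLib.genSet (isInvertible_O1 n T) (coordSec n T k) = ChowLib.toPZ n T ⁻¹ᵁ ChowLib.Dplus k :=
    Opens.ext (Set.ext fun y => genAt_coordSec_iff k y)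
  let W := TwistLib.genSet (isInvertible_O1 n T) (coordSec n T k) ⊓ U
  have hW : IsAffineOpen W := by
    have h := RelProjLib.isAffineOpen_piece p (ChowLib.toPZ n T) (𝟙 _) (Category.id_comp _) (Category.id_comp _) k hV₀
    simp only [W, hT]
    exact h
  have hxW : x ∈ W := ⟨hσ, hpx⟩
  haveI : IsProper p := ChowLib.isProper_toBase n T
  haveI : IsSeparated p := (ChowLib.isProper_toBase n T).toIsSeparated
  have hUc : IsCompact (U : Set (KRR.PY n T)) := p.isCompact_preimage hV₀.isCompact
  have hUq : IsQuasiSeparated (U : Set (KRR.PY n T)) := p.isQuasiSeparated_preimage hV₀.isQuasiSeparated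
  have key : ∀ s : Γ(F, W), Q.presheaf.germ W x hxW (π.app W s) = 0 := by
    intro s
    obtain ⟨N, hN⟩ := exists_extend_tensor_on hUc hUq (isInvertible_O1 n T) F (coordSec n T k) s
    obtain ⟨u, hu⟩ := hN N le_rfl
    let P := CohB1.tensorPow (O1 n T) N
    let R := (DCoh.tensorBi (X := KRR.PY n T)).flip.obj P
    have hR : Epi ((QCohLib.toAbF _ ⋙ Coh.pushAb p).map (R.map ι)) := by
      obtain ⟨e⟩ := nonempty_pow_O1 n T N
      let eR : R ≅ twFun n T (N : ℤ) :=
        (DCoh.tensorBi (X := KRR.PY n T)).flip.mapIso e ≪≫ ExtShLib.flipIso _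
      exact (MorphismProperty.arrow_mk_iso_iff (MorphismProperty.epimorphisms _)
        (Arrow.isoMk ((QCohLib.toAbF _ ⋙ Coh.pushAb p).mapIso (eR.app (Abelian.image ε)))
          ((QCohLib.toAbF _ ⋙ Coh.pushAb p).mapIso (eR.app F))
          (by simp only [Arrow.mk_hom, Functor.mapIso_hom, Iso.app_hom]
              exact ((QCohLib.toAbF _ ⋙ Coh.pushAb p).map_comp _ _).symm.trans
                ((congrArg (QCohLib.toAbF _ ⋙ Coh.pushAb p).map (eR.hom.naturality ι)).symm.trans
                ((QCohLib.toAbF _ ⋙ Coh.pushAb p).map_comp _ _))))).2 (PE_all ι hreg h0 N)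
    haveI := hR
    have hls := (Sheaf.isLocallySurjective_iff_epi' (φ := (QCohLib.toAbF _ ⋙ Coh.pushAb p).map (R.map ι))).mpr
      inferInstance
    obtain ⟨V', hV'le, ⟨g, hg⟩, hxV'⟩ :=
      (TopCat.Presheaf.isLocallySurjective_iff _).1 hls V₀ u (p x) hpx
    let W' := W ⊓ p ⁻¹ᵁ V'
    have hxW' : x ∈ W' := ⟨hxW, hxV'⟩
    have hg' : res (R.obj F) (p.preimage_mono hV'le) u = (R.map ι).app (p ⁻¹ᵁ V') g := hg.symm
    have h0' : (R.map π).app (p ⁻¹ᵁ V') (res (R.obj F) (p.preimage_mono hV'le) u) = 0 := by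
      rw [hg']
      have : R.map ι ≫ R.map π = 0 := by rw [← R.map_comp, cokernel.condition, R.map_zero]
      exact congrArg (fun t => (Scheme.Modules.Hom.app t (p ⁻¹ᵁ V')) g) this
    have h1 : (CohB1.tensorMod Q P).presheaf.germ W x hxW
        (shT (π.app W s) (res P le_top (AmpleThLib.pS (coordSec n T k) N))) = 0 := by
      have e1 : (R.map π).app W (res (R.obj F) (inf_le_right : W ≤ U) u) =
          shT (π.app W s) (res P le_top (AmpleThLib.pS (coordSec n T k) N)) :=
        (congrArg ((R.map π).app W) hu).trans (EGA2SymLib.tensMap_shT π P s _)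
      have n1 : ∀ {A B : (KRR.PY n T).Modules} (a : A ⟶ B) {O O' : (KRR.PY n T).Opens} (h : O ≤ O') (t : Γ(A, O')),
          a.app O (res A h t) = res B h (a.app O' t) := fun a O O' h t =>
        congr($(a.mapPresheaf.naturality (homOfLE h).op) t)
      rw [← e1, ← AmpleLib.germ_res _ (inf_le_left : W' ≤ W) _ hxW']
      have e2 : res (R.obj Q) (inf_le_left : W' ≤ W) ((R.map π).app W (res (R.obj F) inf_le_right u)) = 0 := by
        rw [← n1, AmpleLib.res_res, ← AmpleLib.res_res (R.obj F) (p.preimage_mono hV'le) inf_le_right u, n1, h0']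
        exact map_zero _
      exact (congrArg ((R.obj Q).presheaf.germ W' x hxW') e2).trans (map_zero _)
    have hgen : GenOn P (res P (le_top : W ≤ ⊤) (AmpleThLib.pS (coordSec n T k) N)) := by
      rw [AmpleThLib.pS_res]
      have hg1 := (TwistLib.genSet_genOn (isInvertible_O1 n T) (coordSec n T k)).res
        (inf_le_left : W ≤ TwistLib.genSet (isInvertible_O1 n T) (coordSec n T k))
      rw [AmpleLib.res_res] at hg1
      exact AmpleThLib.pS_genOn hg1 N
    refine (NegTwistLib.bijective_jmap Q hgen hxW).1 ?_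
    rw [NegTwistLib.germ_shT] at h1
    exact h1.trans (by simp)
  haveI : Epi π := inferInstance
  refine subsingleton_of_forall_eq 0 fun q => ?_
  obtain ⟨f, rfl⟩ : ∃ f : (F.presheaf.stalk x), ((DerSch.stalkFunctor (KRR.PY n T) x).map π).hom f = q :=
    (ModuleCat.epi_iff_surjective ((DerSch.stalkFunctor (KRR.PY n T) x).map π)).1 inferInstance q
  letI := Module.compHom (F.presheaf.stalk x) ((KRR.PY n T).presheaf.germ W x hxW).hom
  letI : Algebra Γ(KRR.PY n T, W) ((KRR.PY n T).presheaf.stalk x) :=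
    ((KRR.PY n T).presheaf.germ W x hxW).hom.toAlgebra
  haveI := hW.isLocalization_stalk ⟨x, hxW⟩
  haveI := FlatLib.isLocalizedModule_germLin F hW hxW
  obtain ⟨⟨m, t⟩, hm⟩ := IsLocalizedModule.surj (hW.primeIdealOf ⟨x, hxW⟩).asIdeal.primeCompl
    (FlatLib.germLin F hxW) f
  have hu : IsUnit ((KRR.PY n T).presheaf.germ W x hxW (t : Γ(KRR.PY n T, W))) :=
    IsLocalization.map_units ((KRR.PY n T).presheaf.stalk x) t
  let L := ((DerSch.stalkFunctor (KRR.PY n T) x).map π).hom
  have hm' : L (((KRR.PY n T).presheaf.germ W x hxW (t : Γ(KRR.PY n T, W))) • f) = 0 :=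
    (congrArg L hm).trans ((DerSch.stalkFunctor_map_germ x π W hxW m).trans (key m))
  rw [map_smul] at hm'
  exact hu.smul_eq_zero.mp hm'

end KRRRegLib

end
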