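import Groth.Agent.KRRRegLib.PullReg
import Groth.Agent.KRRRegLib.Push
import Groth.Agent.KRRRegLib.Gen
import Groth.Agent.PnCohLib.FlatCriterion
import Groth.Agent.SerreVanLib.Rpush
import Groth.Agent.QCohLib.Bound

/-!
# Eventual regularity of twists
-/

set_option autoImplicit false
set_option linter.all false
set_option backward.isDefEq.respectTransparency false
set_option backward.isDefEq.respectTransparency.types false
set_option maxHeartbeats 1000000

universe u

open CategoryTheory CategoryTheory.Limits AlgebraicGeometry TopologicalSpace MvPolynomial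

noncomputable section

namespace KRRRegLib

open Groth.Agent

/-- Quasi-coherent cohomology of projective space vanishes above the dimension. -/
theorem subsingleton_HU_big (n : ℕ) (A : Type u) [CommRing A] (M : (CohB1.ProjSpace n A).Modules) [Coh.IsQCoh M]
    (i : ℕ) (hi : n < i) : Subsingleton (QCohLib.HU ((QCohLib.toAbF _).obj M) i (⊤ : (CohB1.ProjSpace n A).Opens)) := by
  classical
  let P := CohB1.ProjSpace n A
  obtain ⟨hp, -, -⟩ := KoszOrthLib.projSpace_hyps n A
  haveI := hp
  haveI : P.IsSeparated := ⟨by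
    rw [← terminal.comp_from (CohB1.ProjSpace.toSpec n A)]
    infer_instance⟩
  let g := CohB1.polyGrading n A
  have hX : ∀ k : Fin (n + 1), (X k : MvPolynomial (Fin (n + 1)) A) ∈ g 1 := fun k =>
    MvPolynomial.isHomogeneous_X _ k
  let U : Fin (n + 1) → P.Opens := fun k => Proj.basicOpen g (X k)
  have hU' : ∀ t : Finset (Fin (n + 1)), t.Nonempty → IsAffineOpen (t.inf U) := by
    intro t ht
    induction ht using Finset.Nonempty.cons_induction with
    | singleton a => rw [Finset.inf_singleton]; exact Proj.isAffineOpen_basicOpen _ _ (hX a) one_pos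
    | cons a s ha hs ih => rw [Finset.inf_cons]; exact (Proj.isAffineOpen_basicOpen _ _ (hX a) one_pos).inf ih
  have h := QCohLib.subsingleton_HU_finsetSup M Finset.univ U (fun t ht _ => hU' t ht) i (by rw [Finset.card_fin]; omega)
  have hs : (Finset.univ.sup U) = ⊤ := by
    rw [Finset.sup_univ_eq_iSup]
    refine Proj.iSup_basicOpen_eq_top' g _ (fun k => ⟨1, hX k⟩) ?_
    rw [eq_top_iff]
    rintro p -
    induction p using MvPolynomial.induction_on with
    | C a =>
      exact Subalgebra.algebraMap_mem (Algebra.adjoin (g 0) _)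
        (⟨C a, MvPolynomial.isHomogeneous_C _ a⟩ : g 0)
    | add p q hp hq => exact add_mem hp hq
    | mul_X p j hp => exact mul_mem hp (Algebra.subset_adjoin ⟨j, rfl⟩)
  rwa [hs] at h

variable {n : ℕ} {T : Scheme.{u}}

/-- Higher direct images vanish above the relative dimension. -/
theorem V_big (G : (KRR.PY n T).Modules) [Coh.IsQCoh G] (i : ℕ) (hi : n < i) (d : ℤ) : V i d G := by
  let f := KRR.pr n T
  haveI : IsProper f := ChowLib.isProper_toBase n T
  let M := KRR.twF n T d G
  haveI : Coh.IsQCoh M :=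
    @QCohLib.isQCoh_of_iso _ _ _ (HilbPolyLib.swapIso _ _) (MiscFlat6.isQCoh_tensor (PicPnLib.twistOver_inv n T d))
  refine RpushLib.isZero_rpushAb f M i fun y => ⟨⊤, trivial, fun W hW _ => ?_⟩
  obtain ⟨j, hj, hd⟩ := PicPnLib.exists_square n Γ(T, W) hW.fromSpec
  haveI : IsOpenImmersion j := MorphismProperty.of_isPullback hj.flip (inferInstance : IsOpenImmersion hW.fromSpec)
  skip
  have hr : j ''ᵁ ⊤ = f ⁻¹ᵁ W := by
    rw [Scheme.Hom.image_top_eq_opensRange]
    apply TopologicalSpace.Opens.ext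
    rw [Scheme.Hom.coe_opensRange, AnLib.range_eq_preimage_of_isPullback hj.flip, hW.range_fromSpec]
    rfl
  obtain ⟨e₁⟩ := QCohLib.nonempty_HU_restrict j M i ⊤
  obtain ⟨e₂⟩ := QCohLib.nonempty_HU_restrict (f ⁻¹ᵁ W).ι M i ⊤
  haveI : Subsingleton (QCohLib.HU ((QCohLib.toAbF _).obj M) i (j ''ᵁ ⊤)) := by
    haveI : Coh.IsQCoh (M.restrict j) := inferInstance
    haveI := subsingleton_HU_big n Γ(T, W) (M.restrict j) i hi
    exact e₁.symm.injective.subsingleton
  refine AmpleDevLib.hh_of_hu ?_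
  haveI : Subsingleton (QCohLib.HU ((QCohLib.toAbF _).obj M) i ((f ⁻¹ᵁ W).ι ''ᵁ ⊤)) := by
    rw [Scheme.Opens.ι_image_top, ← hr]; assumption
  exact e₂.injective.subsingleton

/-- Serre vanishing: high twists of a bundle are regular. -/
theorem exists_V_shift [IsNoetherian T] {F : (KRR.PY n T).Modules} (hF : FlatMod.IsFinLocFree F) :
    ∃ N : ℕ, ∀ i : ℕ, 1 ≤ i → V i ((N : ℤ) - i) F := by
  haveI : IsProper (KRR.pr n T) := ChowLib.isProper_toBase n T
  haveI : IsLocallyNoetherian (KRR.PY n T) := LocallyOfFiniteType.isLocallyNoetherian (KRR.pr n T)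
  haveI : Coh.IsQCoh F := FinLFAnn.isQCoh_of_isFinLocFree hF
  have hL := isInvertible_O1 n T
  have ha : ∀ W : T.Opens, IsAffineOpen W →
      CohB1.IsAmple ((O1 n T).restrict ((KRR.pr n T) ⁻¹ᵁ W).ι) := fun W hW => by
    haveI : QuasiCompact (𝟙 (KRR.PY n T) ≫ CohB1.ProjSpaceOver.toBase n T) := by
      rw [Category.id_comp]
      exact inferInstanceAs (QuasiCompact (KRR.pr n T))
    have h1 := PnCohLib.isAmple_twist_restrict (𝟙 (KRR.PY n T)) hW
    rw [Category.id_comp] at h1
    have ei := (Scheme.Modules.restrictFunctor ((KRR.pr n T) ⁻¹ᵁ W).ι).mapIso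
        ((Scheme.Modules.pullbackId (KRR.PY n T)).app (O1 n T))
    exact AmpleDevLib.isAmple_of_iso h1.1 (HilbPolyLib.isInvertible_of_iso ei h1.1) ei h1
  obtain ⟨n₀, hn₀⟩ := SerreVanLib.exists_vanishing_rpush (KRR.pr n T) (O1 n T) hL ha F
    (LocSuppLib.isCoh_of_isFinLocFree hF)
  refine ⟨n₀ + n + 1, fun i hi => ?_⟩
  rcases Nat.lt_or_ge n i with h | h
  · exact V_big F i h _
  · obtain ⟨m, hm⟩ : ∃ m : ℕ, ((n₀ + n + 1 : ℕ) : ℤ) - i = m := ⟨n₀ + n + 1 - i, by omega⟩
    obtain ⟨e⟩ := nonempty_pow_O1 n T m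
    let e' : CohB1.tensorMod F (CohB1.tensorPow (O1 n T) m) ≅ KRR.twF n T (m : ℤ) F :=
      HilbPolyLib.congrRight F e ≪≫ HilbPolyLib.swapIso F _
    rw [hm]
    exact (hn₀ m (by omega) i hi).of_iso ((Coh.RpushAb (KRR.pr n T) i).mapIso ((QCohLib.toAbF _).mapIso e')).symm

end KRRRegLib

end
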