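import Groth.Agent.KRRRegLib.PullReg

/-!
# Vanishing for twisted pullbacks from the base
-/

set_option autoImplicit false
set_option linter.all false
set_option backward.isDefEq.respectTransparency false
set_option backward.isDefEq.respectTransparency.types false
set_option maxHeartbeats 1000000

universe u

open CategoryTheory CategoryTheory.Limits AlgebraicGeometry TopologicalSpace

noncomputable section

namespace KRRRegLib

open Groth.Agent

variable {n : ℕ} {T : Scheme.{u}}

/-- Vanishing of twisted pullbacks from the vanishing over affine bases. -/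
theorem V_pullback (E : T.Modules) [Coh.IsQCoh E] (i : ℕ) (d : ℤ)
    (hd' : ∀ (A : Type u) [CommRing A] (k : ℕ), i ≤ k →
      Subsingleton (Coh.HH (CohB1.ProjSpace n A) (Twist.twistProjSpace n A d) k)) :
    V i d ((Scheme.Modules.pullback (KRR.pr n T)).obj E) := by
  let f := KRR.pr n T
  haveI : IsProper f := ChowLib.isProper_toBase n T
  let O' := Twist.twistOver n T d
  let M := KRR.twF n T d ((Scheme.Modules.pullback f).obj E)
  haveI := KFlatLib.isQCoh_pullback f E
  haveI : Coh.IsQCoh M :=
    @QCohLib.isQCoh_of_iso _ _ _ (HilbPolyLib.swapIso _ O') (MiscFlat6.isQCoh_tensor (PicPnLib.twistOver_inv n T _))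
  refine RpushLib.isZero_rpushAb f M i fun y => ⟨⊤, trivial, fun W hW _ => ?_⟩
  obtain ⟨j, hj, hd⟩ := PicPnLib.exists_square n Γ(T, W) hW.fromSpec
  haveI : IsOpenImmersion j := MorphismProperty.of_isPullback hj.flip (inferInstance : IsOpenImmersion hW.fromSpec)
  obtain ⟨e⟩ := hd d
  have hr : j ''ᵁ ⊤ = f ⁻¹ᵁ W := by
    rw [Scheme.Hom.image_top_eq_opensRange]
    apply TopologicalSpace.Opens.ext
    rw [Scheme.Hom.coe_opensRange, AnLib.range_eq_preimage_of_isPullback hj.flip, hW.range_fromSpec]
    rfl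
  obtain ⟨e₁⟩ := QCohLib.nonempty_HU_restrict j M i ⊤
  obtain ⟨e₂⟩ := QCohLib.nonempty_HU_restrict (f ⁻¹ᵁ W).ι M i ⊤
  haveI : Subsingleton (QCohLib.HU ((QCohLib.toAbF _).obj M) i (j ''ᵁ ⊤)) := by
    let E' := (Scheme.Modules.pullback hW.fromSpec).obj E
    haveI : Coh.IsQCoh E' := KFlatLib.isQCoh_pullback hW.fromSpec E
    haveI := KFlatLib.isIso_counit_of_qcoh E' inferInstance
    let c : (Scheme.Modules.pullback j).obj ((Scheme.Modules.pullback f).obj E) ≅
        (Scheme.Modules.pullback (CohB1.ProjSpace.toSpec n Γ(T, W))).obj E' :=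
      (Scheme.Modules.pullbackComp j f).app E ≪≫ (Scheme.Modules.pullbackCongr hj.w).app E ≪≫
        ((Scheme.Modules.pullbackComp _ hW.fromSpec).app E).symm
    let t := asIso ((tilde.adjunction (R := CommRingCat.of Γ(T, W))).counit.app E')
    haveI := KFlatLib.isIso_pullθ j O' ((Scheme.Modules.pullback f).obj E)
    let a : M.restrict j ≅ (CurvLib.tensorLeft' (Twist.twistProjSpace n Γ(T, W) d)).obj
        ((Scheme.Modules.pullback (CohB1.ProjSpace.toSpec n Γ(T, W))).obj ((tilde.functor _).obj _)) :=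
      (Scheme.Modules.restrictFunctorIsoPullback j).app M ≪≫
        asIso (KFlatLib.pullθ j O' ((Scheme.Modules.pullback f).obj E)) ≪≫
        HilbPolyLib.congrLeft e _ ≪≫
        (CurvLib.tensorLeft' (Twist.twistProjSpace n Γ(T, W) d)).mapIso
          (c ≪≫ (Scheme.Modules.pullback _).mapIso t.symm)
    have h1 : Subsingleton (Coh.HH _ (M.restrict j) i) :=
      SerreVanLib.subsingleton_HH_of_iso a i (subsingleton_HH_twist_pullback n Γ(T, W) d i
        (fun k hk => hd' Γ(T, W) k hk) _ i le_rfl)
    haveI := AmpleDevLib.hu_of_hh h1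
    exact e₁.symm.injective.subsingleton
  refine AmpleDevLib.hh_of_hu ?_
  haveI : Subsingleton (QCohLib.HU ((QCohLib.toAbF _).obj M) i ((f ⁻¹ᵁ W).ι ''ᵁ ⊤)) := by
    rw [Scheme.Opens.ι_image_top, ← hr]; assumption
  exact e₂.injective.subsingleton


/-- The low twists of a pullback. -/
theorem V_pullback_low (E : T.Modules) [Coh.IsQCoh E] (s : ℕ) (hs : s + 1 ≤ n) :
    V s (-1 - (s : ℤ)) ((Scheme.Modules.pullback (KRR.pr n T)).obj E) :=
  V_pullback E s _ fun A _ k hk => PnCohLib.subsingleton_HH_twist _ k (fun h => by omega) (fun h => by omega)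

end KRRRegLib

end
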