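import Groth.Agent.KRRRegLib.PushK
import Groth.Agent.KHeartLib.Euler
import Groth.Agent.KHeartLib.CohSupp
import Groth.Agent.RpushLib.Comp
import Groth.Agent.VBResLib.Euler
import Groth.Agent.VBResLib.RegPush
import Groth.Agent.S0036

/-!
# The Euler characteristic push-forward on coherent modules
-/

set_option autoImplicit false
set_option linter.all false
set_option maxHeartbeats 1000000

universe u

open CategoryTheory CategoryTheory.Limits AlgebraicGeometry HomologicalComplex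
open Groth.Agent.KHeartLib
open scoped ZeroObject

noncomputable section

namespace KRRRegLib

open Groth.Agent

variable {n : ℕ} {Y : Scheme.{u}} [IsNoetherian Y]

/-- Coherent modules. -/
abbrev cohP (X : Scheme.{u}) : ObjectProperty X.Modules := fun M => Coh.IsCoh M

variable (n Y) in
/-- `Σ (-1)^q [R^q p_* M]`. -/
def chiC [HasInjectiveResolutions (KRR.PY n Y).Modules] (M : (KRR.PY n Y).Modules) : SGA6.Kcoh Y :=
  ∑ q ∈ Finset.range (n + 1), (-1 : ℤ) ^ q • KZero.clSub (cohP Y) ((Coh.Rpush (KRR.pr n Y) q).obj M)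

theorem isZero_rpush_big [HasInjectiveResolutions (KRR.PY n Y).Modules] (M : (KRR.PY n Y).Modules) [Coh.IsQCoh M]
    (q : ℕ) (hq : n < q) : IsZero ((Coh.Rpush (KRR.pr n Y) q).obj M) := by
  obtain ⟨a⟩ := RpushLib.nonempty_toAb_rpush_iso (KRR.pr n Y) M q
  obtain ⟨e⟩ := nonempty_twF_zero M
  have h : V q 0 M := V_big M q hq 0
  exact RpushLib.isZero_of_isZero_toAb (IsZero.of_iso h (a ≪≫ (Coh.RpushAb (KRR.pr n Y) q).mapIso
    ((QCohLib.toAbF (KRR.PY n Y)).mapIso e.symm)))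

theorem chiC_add [HasInjectiveResolutions (KRR.PY n Y).Modules] {S : ShortComplex (KRR.PY n Y).Modules}
    (hS : S.ShortExact) (h₁ : Coh.IsCoh S.X₁) (h₂ : Coh.IsCoh S.X₂) (h₃ : Coh.IsCoh S.X₃) :
    chiC n Y S.X₂ = chiC n Y S.X₁ + chiC n Y S.X₃ := by
  haveI : IsProper (KRR.pr n Y) := ChowLib.isProper_toBase n Y
  haveI : WSerre.IsWeakSerre (cohP Y) := isWeakSerre_isCoh (X := Y)
  haveI := h₁.1
  let F := Scheme.Modules.pushforward (KRR.pr n Y)
  let L := RDerLib.derivedLES F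
  have c : ∀ {M : (KRR.PY n Y).Modules}, Coh.IsCoh M → ∀ q, cohP Y ((Coh.Rpush (KRR.pr n Y) q).obj M) :=
    fun {M} hM q => Groth.Agent.S0036.result (KRR.pr n Y) M hM q
  let k : ℕ → SGA6.Kcoh Y := fun q => KZero.clSub (cohP Y) (kernel ((Coh.Rpush (KRR.pr n Y) q).map S.f))
  have key : ∀ q, KZero.clSub (cohP Y) ((Coh.Rpush (KRR.pr n Y) q).obj S.X₁) +
      KZero.clSub (cohP Y) ((Coh.Rpush (KRR.pr n Y) q).obj S.X₃) -
      KZero.clSub (cohP Y) ((Coh.Rpush (KRR.pr n Y) q).obj S.X₂) = k q + k (q + 1) := by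
    intro q
    rw [clSub_exact (cohP Y) _ _ _ (L.exact₂ S hS q) (c h₁ q) (c h₂ q) (c h₃ q),
      clSub_exact (cohP Y) _ _ _ (L.exact₃ S hS q (q + 1) rfl) (c h₂ q) (c h₃ q) (c h₁ (q + 1)),
      clSub_exact (cohP Y) _ _ _ (L.exact₁ S hS q (q + 1) rfl) (c h₃ q) (c h₁ (q + 1)) (c h₂ (q + 1))]
    simp only [k]
    abel
  have hsum : ∀ t, ∑ q ∈ Finset.range t, (-1 : ℤ) ^ q • (k q + k (q + 1)) = k 0 - (-1 : ℤ) ^ t • k t := by
    intro t
    induction t with
    | zero => simp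
    | succ t ih =>
      rw [Finset.sum_range_succ, ih, zsmul_add, pow_succ, mul_neg_one, neg_zsmul]
      abel
  have hk0 : k 0 = 0 := by
    haveI : Mono ((Coh.Rpush (KRR.pr n Y) 0).map S.f) := RDerLib.mono_map_zero F hS
    exact clSub_eq_zero (cohP Y) (DevissLib.isCoh_of_isZero (isZero_kernel_of_mono _)) (isZero_kernel_of_mono _)
  have hkn : k (n + 1) = 0 := by
    have hz : IsZero (kernel ((Coh.Rpush (KRR.pr n Y) (n + 1)).map S.f)) :=
      (isZero_rpush_big S.X₁ (n + 1) (Nat.lt_succ_self n)).of_mono (kernel.ι _)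
    exact clSub_eq_zero (cohP Y) (DevissLib.isCoh_of_isZero hz) hz
  have h := hsum (n + 1)
  rw [hk0, hkn, smul_zero, sub_zero, Finset.sum_congr rfl fun q _ => by rw [← key q]] at h
  simp only [zsmul_sub, zsmul_add, Finset.sum_sub_distrib, Finset.sum_add_distrib, sub_eq_zero] at h
  exact h.symm

theorem chiC_of_RP [HasInjectiveResolutions (KRR.PY n Y).Modules] {G : (KRR.PY n Y).Modules} (hG : RP n Y G) :
    chiC n Y G = KZero.clSub (cohP Y) ((Scheme.Modules.pushforward (KRR.pr n Y)).obj G) := by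
  haveI : WSerre.IsWeakSerre (cohP Y) := isWeakSerre_isCoh (X := Y)
  haveI : IsProper (KRR.pr n Y) := ChowLib.isProper_toBase n Y
  have hc := LocSuppLib.isCoh_of_isFinLocFree hG.1
  haveI := isLocallyNoetherian_PY n Y
  rw [chiC, Finset.sum_eq_single 0 (fun q _ hq => by
      obtain ⟨a⟩ := RpushLib.nonempty_toAb_rpush_iso (KRR.pr n Y) G q
      have hz := RpushLib.isZero_of_isZero_toAb (IsZero.of_iso (isZero_Rpush hG.2 q (Nat.pos_of_ne_zero hq)) a)
      rw [clSub_eq_zero (cohP Y) (DevissLib.isCoh_of_isZero hz) hz, smul_zero])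
    (fun h => absurd (Finset.mem_range.2 (Nat.succ_pos n)) h), pow_zero, one_smul]
  let e : (Coh.Rpush (KRR.pr n Y) 0).obj G ≅ (Scheme.Modules.pushforward (KRR.pr n Y)).obj G :=
    CohBCLib.rpushZero (KRR.pr n Y) G
  haveI : (cohP Y).IsClosedUnderIsomorphisms := ⟨fun e h => QCohLib.isCoh_of_iso e h⟩
  haveI : (cohP Y).ContainsZero := ⟨⟨0, isZero_zero _, DevissLib.isCoh_of_isZero (isZero_zero _)⟩⟩
  exact clSub_congr (cohP Y) e

/-- The coherent class of the push-forward of a bundle resolution. -/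
theorem euler_push_eq_chiC [HasInjectiveResolutions (KRR.PY n Y).Modules]
    (hY : ∀ M : Y.Modules, FlatMod.IsFinLocFree M → Coh.IsCoh M)
    (π : SGA6.Kvb (KRR.PY n Y) →+ SGA6.Kvb Y)
    (hπ : ∀ F, RP n Y F → π (KRR.cl (KRR.PY n Y) F) = KRR.cl Y ((Scheme.Modules.pushforward (KRR.pr n Y)).obj F))
    {M : (KRR.PY n Y).Modules} (hM : Coh.IsCoh M) {m : ℕ} {L : ChainComplex (KRR.PY n Y).Modules ℕ}
    {ε : L ⟶ (ChainComplex.single₀ (KRR.PY n Y).Modules).obj M} (hL : KRR.IsLFRes M m L ε) :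
    SGA6.mapSub (𝟭 Y.Modules) (KRR.vbP Y) (cohP Y) hY
      (∑ k ∈ Finset.range (m + 1), (-1 : ℤ) ^ k • π (KRR.cl (KRR.PY n Y) (L.X k))) = chiC n Y M := by
  haveI := isLocallyNoetherian_PY n Y
  obtain ⟨χ, hχ⟩ := exists_lift_sub (cohP (KRR.PY n Y)) (chiC n Y) fun S hS h₁ h₂ h₃ => chiC_add hS h₁ h₂ h₃
  let j := SGA6.mapSub (𝟭 (KRR.PY n Y).Modules) (KRR.vbP (KRR.PY n Y)) (cohP (KRR.PY n Y))
    fun M hM => LocSuppLib.isCoh_of_isFinLocFree hM
  have key : (SGA6.mapSub (𝟭 Y.Modules) (KRR.vbP Y) (cohP Y) hY).comp π = χ.comp j := by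
    refine hom_ext_RP fun G hG => ?_
    simp only [AddMonoidHom.coe_comp, Function.comp_apply, j]
    rw [hπ G hG, VBResLib.mapSub_clSub (𝟭 (KRR.PY n Y).Modules) _ _ _ hG.1,
      hχ _ (show cohP (KRR.PY n Y) ((𝟭 _).obj G) from LocSuppLib.isCoh_of_isFinLocFree hG.1),
      VBResLib.mapSub_clSub (𝟭 Y.Modules) _ _ _ (isFinLocFree_push_of_isRegSheaf hG.1 hG.2)]
    exact (chiC_of_RP hG).symm
  haveI : (cohP (KRR.PY n Y)).IsClosedUnderIsomorphisms := ⟨fun e h => QCohLib.isCoh_of_iso e h⟩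
  haveI : (cohP (KRR.PY n Y)).ContainsZero := ⟨⟨0, isZero_zero _, DevissLib.isCoh_of_isZero (isZero_zero _)⟩⟩
  haveI := hL.quasiIso
  have e := VBResLib.clSub_eq_euler (cohP (KRR.PY n Y)) (fun S hS h₂ h₃ => VBResLib.isCoh_X₁ hS h₂ h₃) hM L
    (fun i => LocSuppLib.isCoh_of_isFinLocFree (hL.finLocFree i)) m hL.isZero ε
  rw [← hχ M hM, e, map_sum, map_sum]
  refine Finset.sum_congr rfl fun k _ => ?_
  rw [map_zsmul, map_zsmul]
  refine congrArg ((-1 : ℤ) ^ k • ·) ((DFunLike.congr_fun key (KRR.cl (KRR.PY n Y) (L.X k))).trans ?_)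
  exact congrArg χ (VBResLib.mapSub_clSub (𝟭 (KRR.PY n Y).Modules) _ _ _ (hL.finLocFree k))

end KRRRegLib

end
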