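import Groth.Agent.KRRRegLib.PullReg
import Groth.Agent.CohCmpLib.PicApps
import Groth.Agent.CohCmpLib.PuSec
import Groth.Agent.Dual3Lib.PnCoh
import Groth.Agent.FiltSectLib.Push
import Groth.Agent.ChowLib.ProjProd

/-!
# Sections of pullbacks from the base to projective space come from the base
-/

set_option autoImplicit false
set_option linter.all false
set_option backward.isDefEq.respectTransparency false
set_option backward.isDefEq.respectTransparency.types false
set_option maxHeartbeats 1000000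

universe u

open CategoryTheory CategoryTheory.Limits AlgebraicGeometry TopologicalSpace Opposite

noncomputable section

namespace KRRRegLib

open Groth.Agent
open KFlatLib (puSec puSecLE)

theorem isIso_app_coproduct {C D : Type*} [Category C] [Category D] {F G : C ⥤ D} (η : F ⟶ G) {ι : Type u}
    (f : ι → C) [HasCoproduct f] [PreservesColimit (Discrete.functor f) F] [PreservesColimit (Discrete.functor f) G]
    (h : ∀ a, IsIso (η.app (f a))) : IsIso (η.app (∐ f)) := by
  let hF := isColimitOfPreserves F (coproductIsCoproduct f)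
  let hG := isColimitOfPreserves G (coproductIsCoproduct f)
  let w : Discrete.functor f ⋙ F ≅ Discrete.functor f ⋙ G := Discrete.natIso fun a => @asIso _ _ _ _ _ (h a.as)
  have e : η.app (∐ f) = (hF.coconePointsIsoOfNatIso hG w).hom := by
    refine hF.hom_ext fun j => ?_
    rw [IsColimit.comp_coconePointsIsoOfNatIso_hom]
    exact η.naturality _
  rw [e]; infer_instance

/-- Over an affine base, sections of a pullback come from the base. -/
theorem surjective_puSec_tilde (n : ℕ) (A : Type u) [CommRing A] (N : ModuleCat.{u} (CommRingCat.of A))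
    (u : Γ((Scheme.Modules.pullback (CohB1.ProjSpace.toSpec n A)).obj ((tilde.functor (CommRingCat.of A)).obj N), ⊤)) :
    ∃ m : Γ((tilde.functor (CommRingCat.of A)).obj N, ⊤), puSec (CohB1.ProjSpace.toSpec n A) m = u := by
  classical
  let p := CohB1.ProjSpace.toSpec n A
  obtain ⟨hp, hf, -⟩ := KoszOrthLib.projSpace_hyps n A
  haveI := hp
  haveI := hf
  haveI : DCoh.HasRpush p := DCohRestrLib.hasRpush p
  haveI := Dual3Lib.isIso_unitToPush_projSpace n A
  haveI := CohGenLib.preservesFiniteLimits_pullback_flat p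
  haveI : PreservesFiniteLimits (tilde.functor (CommRingCat.of A)) := (S9498.result A).1
  haveI : PreservesFiniteColimits (tilde.functor (CommRingCat.of A)) := (S9498.result A).2
  haveI : (Scheme.Modules.pullback p).IsLeftAdjoint :=
    (Scheme.Modules.pullbackPushforwardAdjunction p).isLeftAdjoint
  haveI : PreservesFiniteColimits (Scheme.Modules.pullback p) := inferInstance
  haveI : (tilde.functor (CommRingCat.of A)).IsLeftAdjoint := (tilde.adjunction).isLeftAdjoint
  let t := tilde.functor (CommRingCat.of A)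
  let G := t ⋙ Scheme.Modules.pullback p
  let η : t ⟶ G ⋙ Scheme.Modules.pushforward p :=
    Functor.whiskerLeft t (Scheme.Modules.pullbackPushforwardAdjunction p).unit
  haveI hA : IsIso (η.app (ModuleCat.of A A)) :=
    CohCmpLib.isIso_unit_of_unitToPush p (M := t.obj (ModuleCat.of A A))
      (Groth.Agent.PerfLib.isFinLocFree_of_iso (tildeSelf).symm (AmpleDevLib.isFinLocFree_of_isInvertible CurvLib.isInvertible_structureModule))
  let f : N → ModuleCat.{u} (CommRingCat.of A) := fun _ => ModuleCat.of A A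
  let π : (∐ f) ⟶ N := Sigma.desc fun x => ModuleCat.ofHom (LinearMap.toSpanSingleton A N x)
  haveI : Epi π := by
    rw [ModuleCat.epi_iff_surjective]
    intro x
    refine ⟨(Sigma.ι f x).hom (1 : A), ?_⟩
    show (Sigma.ι f x ≫ π).hom (1 : A) = x
    rw [Sigma.ι_desc]
    exact one_smul A x
  haveI := FiltSectLib.preservesCoproducts_pushforward p N
  haveI : PreservesColimitsOfShape (Discrete N) (G ⋙ Scheme.Modules.pushforward p) := inferInstance
  haveI hQ : IsIso (η.app (∐ f)) := isIso_app_coproduct η f fun _ => hA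
  have hS : (ShortComplex.mk (kernel.ι π) π (kernel.condition π)).ShortExact :=
    ShortComplex.ShortExact.mk (ShortComplex.exact_kernel π)
  have hS' := (hS.map_of_exact G).map_of_exact (QCohLib.toAbF (CohB1.ProjSpace n A))
  have hK : Subsingleton (QCohLib.HU ((QCohLib.toAbF (CohB1.ProjSpace n A)).obj (G.obj (kernel π))) 1 ⊤) := by
    obtain ⟨c₀⟩ := PicPnLib.twist_zero n A
    let e : (CurvLib.tensorLeft' (Twist.twistProjSpace n A 0)).obj (G.obj (kernel π)) ≅ G.obj (kernel π) :=
      HilbPolyLib.congrLeft c₀ _ ≪≫ HilbPolyLib.unitLeft _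
    have h0 := AmpleDevLib.hu_of_hh (subsingleton_HH_twist_pullback n A 0 1
      (fun k hk => PnCohLib.subsingleton_HH_twist _ k (fun h => by omega) (fun h => by omega)) (kernel π) 1 le_rfl)
    exact @QCohLib.subsingleton_of_iso _ _ _ ((QCohLib.toAbF _).mapIso e) 1 ⊤ h0
  obtain ⟨v, hv⟩ := @QCohLib.exists_lift_of_subsingleton _ _ hS' ⊤ hK u
  obtain ⟨m, hm⟩ := (ConcreteCategory.bijective_of_isIso ((η.app (∐ f)).app ⊤)).2 v
  refine ⟨(t.map π).app ⊤ m, ?_⟩
  have h := congr(Scheme.Modules.Hom.app $(η.naturality π) ⊤ m)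
  refine h.trans ?_
  rw [← hv]
  exact congrArg ((G.map π).app ⊤) hm

/-- Pullback along an open immersion is bijective on the sections over the image. -/
theorem bijective_puSecLE_open {X Y : Scheme.{u}} (j : X ⟶ Y) [IsOpenImmersion j] (M : Y.Modules) {U : Y.Opens}
    (hU : j ''ᵁ ⊤ = U) (h : (⊤ : X.Opens) ≤ j ⁻¹ᵁ U) :
    Function.Bijective (puSecLE j M h) := by
  have key : ⇑(puSecLE j M h) = fun m => ((Scheme.Modules.restrictFunctorIsoPullback j).hom.app M).app ⊤
      ((M.restrictAppIso j ⊤).inv (M.presheaf.map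
        (homOfLE ((j.image_mono h).trans (j.image_preimage_le U))).op m)) :=
    funext fun m => (CohCmpLib.restrictIso_puSec j M m h).symm
  rw [key]
  haveI : IsIso (M.presheaf.map (homOfLE ((j.image_mono h).trans (j.image_preimage_le U))).op) := by
    subst hU
    rw [show (homOfLE ((j.image_mono h).trans (j.image_preimage_le (j ''ᵁ ⊤)))).op = 𝟙 (op (j ''ᵁ ⊤)) from
      Subsingleton.elim _ _, M.presheaf.map_id]
    infer_instance
  exact (ConcreteCategory.bijective_of_isIso (((Scheme.Modules.restrictFunctorIsoPullback j).hom.app M).app ⊤)).comp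
    ((ConcreteCategory.bijective_of_isIso (M.restrictAppIso j ⊤).inv).comp
      (ConcreteCategory.bijective_of_isIso (M.presheaf.map _)))

variable {n : ℕ} {T : Scheme.{u}}

/-- Sections of the pullback over the preimage of an affine open come from the base. -/
theorem surjective_puSec (E : T.Modules) [Coh.IsQCoh E] {W : T.Opens} (hW : IsAffineOpen W)
    (u : Γ((Scheme.Modules.pullback (KRR.pr n T)).obj E, KRR.pr n T ⁻¹ᵁ W)) :
    ∃ s : Γ(E, W), puSec (KRR.pr n T) s = u := by
  let f := KRR.pr n T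
  obtain ⟨j, hj, -⟩ := PicPnLib.exists_square n Γ(T, W) hW.fromSpec
  haveI : IsOpenImmersion j := MorphismProperty.of_isPullback hj.flip (inferInstance : IsOpenImmersion hW.fromSpec)
  let q := CohB1.ProjSpace.toSpec n Γ(T, W)
  have hr : j ''ᵁ ⊤ = f ⁻¹ᵁ W := by
    rw [Scheme.Hom.image_top_eq_opensRange]
    apply TopologicalSpace.Opens.ext
    rw [Scheme.Hom.coe_opensRange, AnLib.range_eq_preimage_of_isPullback hj.flip, hW.range_fromSpec]
    rfl
  have hj' : (⊤ : (CohB1.ProjSpace n Γ(T, W)).Opens) ≤ j ⁻¹ᵁ (f ⁻¹ᵁ W) := fun x _ => hr.le ⟨x, trivial, rfl⟩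
  have hw' : (⊤ : (Spec Γ(T, W)).Opens) ≤ hW.fromSpec ⁻¹ᵁ W := fun x _ => by
    show hW.fromSpec x ∈ (W : Set T)
    rw [← hW.range_fromSpec]; exact ⟨x, rfl⟩
  let E' := (Scheme.Modules.pullback hW.fromSpec).obj E
  haveI : Coh.IsQCoh E' := KFlatLib.isQCoh_pullback hW.fromSpec E
  haveI := KFlatLib.isIso_counit_of_qcoh E' inferInstance
  let t := asIso ((tilde.adjunction (R := CommRingCat.of Γ(T, W))).counit.app E')
  let c : (Scheme.Modules.pullback j).obj ((Scheme.Modules.pullback f).obj E) ≅
      (Scheme.Modules.pullback q).obj E' :=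
    (Scheme.Modules.pullbackComp j f).app E ≪≫ (Scheme.Modules.pullbackCongr hj.w).app E ≪≫
      ((Scheme.Modules.pullbackComp q hW.fromSpec).app E).symm
  let u' := c.hom.app ⊤ (puSecLE j _ hj' u)
  obtain ⟨m₀, hm₀⟩ := surjective_puSec_tilde n Γ(T, W) _ (((Scheme.Modules.pullback q).map t.inv).app ⊤ u')
  have hm' : puSec q (t.hom.app ⊤ m₀) = u' := by
    have h := congr(Scheme.Modules.Hom.app
      $((Scheme.Modules.pullbackPushforwardAdjunction q).unit.naturality t.hom) ⊤ m₀)
    refine h.trans ((congrArg (((Scheme.Modules.pullback q).map t.hom).app ⊤) hm₀).trans ?_)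
    exact congr(Scheme.Modules.Hom.app $(((Scheme.Modules.pullback q).mapIso t).inv_hom_id) ⊤ u')
  obtain ⟨s, hs⟩ := (bijective_puSecLE_open hW.fromSpec E
    (by rw [Scheme.Hom.image_top_eq_opensRange]; exact hW.opensRange_fromSpec) hw').2 (t.hom.app ⊤ m₀)
  refine ⟨s, (bijective_puSecLE_open j _ hr hj').1 ?_⟩
  let e₁ := (Scheme.Modules.pullbackComp j f).hom.app E
  let e₂ := (Scheme.Modules.pullbackCongr hj.w).hom.app E
  let e₃ := (Scheme.Modules.pullbackComp q hW.fromSpec).hom.app E
  have h1 : puSecLE f E (le_refl (f ⁻¹ᵁ W)) s = puSec f s := by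
    rw [KFlatLib.puSecLE_apply]
    exact congr($(((Scheme.Modules.pullback f).obj E).presheaf.map_id _) _)
  have hq : puSecLE q E' (le_refl (q ⁻¹ᵁ ⊤)) (t.hom.app ⊤ m₀) = puSec q (t.hom.app ⊤ m₀) := by
    rw [KFlatLib.puSecLE_apply]
    exact congr($(((Scheme.Modules.pullback q).obj E').presheaf.map_id _) _)
  have L := CohCmpLib.pullbackComp_puSecLE j f E s (le_refl (f ⁻¹ᵁ W)) hj'
  rw [h1] at L
  have R := CohCmpLib.pullbackComp_puSecLE q hW.fromSpec E s hw' (le_refl (q ⁻¹ᵁ ⊤))
  rw [hs, hq, hm'] at R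
  have inj : Function.Injective (c.hom.app ⊤) := (ConcreteCategory.bijective_of_isIso (c.hom.app ⊤)).1
  refine inj ?_
  show c.hom.app ⊤ (puSecLE j _ hj' (puSec f s)) = u'
  show ((Scheme.Modules.pullbackComp q hW.fromSpec).inv.app E).app ⊤ (e₂.app ⊤ (e₁.app ⊤ (puSecLE j _ hj' (puSec f s)))) = u'
  rw [show e₁.app ⊤ (puSecLE j _ hj' (puSec f s)) = _ from L]
  refine (congrArg (((Scheme.Modules.pullbackComp q hW.fromSpec).inv.app E).app ⊤)
    ((CohCmpLib.pullbackCongr_puSec hj.w E s _ _).trans R.symm)).trans ?_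
  exact congr(Scheme.Modules.Hom.app $((Scheme.Modules.pullbackComp q hW.fromSpec).hom_inv_id_app E) ⊤ u')

variable (n T) in
/-- The projection has a section. -/
theorem exists_section_pr : ∃ s : T ⟶ KRR.PY n T, s ≫ KRR.pr n T = 𝟙 T :=
  ⟨ChowLib.poLift (ChowLib.pt (fun _ => 1) 0 isUnit_one) (𝟙 T), pullback.lift_snd _ _ _⟩

/-- Sections of the base inject into the pullback. -/
theorem injective_puSec (E : T.Modules) (U : T.Opens) :
    Function.Injective (fun m : Γ(E, U) => puSec (KRR.pr n T) m) := by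
  intro a b hab
  obtain ⟨s, hs⟩ := exists_section_pr n T
  have h : ∀ m : Γ(E, U), ((Scheme.Modules.pullbackCongr hs).hom.app E).app U
      (((Scheme.Modules.pullbackComp s (KRR.pr n T)).hom.app E).app U
        (puSecLE s _ (show U ≤ s ⁻¹ᵁ (KRR.pr n T ⁻¹ᵁ U) by rw [← Scheme.Hom.comp_preimage, hs]; rfl)
          (puSecLE (KRR.pr n T) E (le_refl _) m))) = puSecLE (𝟙 T) E (le_refl U) m := fun m => by
    rw [CohCmpLib.pullbackComp_puSecLE]
    exact CohCmpLib.pullbackCongr_puSec hs E m _ _
  have h1 : puSecLE (KRR.pr n T) E (le_refl _) a = puSecLE (KRR.pr n T) E (le_refl _) b :=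
    congrArg (((Scheme.Modules.pullback (KRR.pr n T)).obj E).presheaf.map (homOfLE (le_refl _)).op) hab
  have h2 : puSecLE (𝟙 T) E (le_refl U) a = puSecLE (𝟙 T) E (le_refl U) b := by
    rw [← h a, ← h b, h1]
  have hinj : Function.Injective fun m : Γ(E, U) => puSecLE (𝟙 T) E (le_refl U) m := by
    have key : (fun m : Γ(E, U) => puSecLE (𝟙 T) E (le_refl U) m) = fun m =>
        ((Scheme.Modules.restrictFunctorIsoPullback (𝟙 T)).hom.app E).app U
          ((E.restrictAppIso (𝟙 T) U).inv (E.presheaf.map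
            (homOfLE (((𝟙 T : T ⟶ T).image_mono (le_refl U)).trans ((𝟙 T : T ⟶ T).image_preimage_le U))).op m)) :=
      funext fun m => (CohCmpLib.restrictIso_puSec (𝟙 T) E m (le_refl U)).symm
    rw [key]
    have e : (𝟙 T : T ⟶ T) ''ᵁ U = U := by simp
    haveI : IsIso (homOfLE (((𝟙 T : T ⟶ T).image_mono (le_refl U)).trans ((𝟙 T : T ⟶ T).image_preimage_le U))) :=
      ⟨homOfLE e.ge, Subsingleton.elim _ _, Subsingleton.elim _ _⟩
    exact (ConcreteCategory.bijective_of_isIso (((Scheme.Modules.restrictFunctorIsoPullback (𝟙 T)).hom.app E).app U)).1.comp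
      ((ConcreteCategory.bijective_of_isIso (E.restrictAppIso (𝟙 T) U).inv).1.comp
        (ConcreteCategory.bijective_of_isIso (E.presheaf.map _)).1)
  exact hinj h2

/-- `G ≅ p_* p^* G` for quasi-coherent `G`. -/
theorem isIso_unit (E : T.Modules) [Coh.IsQCoh E] :
    IsIso ((Scheme.Modules.pullbackPushforwardAdjunction (KRR.pr n T)).unit.app E) :=
  QCohLib.isIso_of_bijective_affine _ fun U hU => ⟨injective_puSec E U, fun u => surjective_puSec E hU u⟩

end KRRRegLib

end
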