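import Groth.Agent.KRRRegLib.FlatRes
import Groth.Agent.VBResLib.RegPush
import Groth.Agent.VBResLib.Res
import Groth.Agent.CohGenLib.Pro
import Groth.Agent.RelRegLib.Comp
import Groth.Agent.ProjFormLib.Proj
import Groth.Agent.S12131

/-!
# Push-forwards along closed immersions and along projective space commute
-/

set_option autoImplicit false
set_option linter.all false
set_option maxHeartbeats 1000000

universe u w

open CategoryTheory CategoryTheory.Limits AlgebraicGeometry HomologicalComplex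
open Groth.Agent.KHeartLib

noncomputable section

namespace KRRRegLib

open Groth.Agent

variable {n : ℕ}

/-- The base change square of projective spaces. -/
theorem isPullback_projSpaceMap (n : ℕ) {X Y : Scheme.{u}} (i : X ⟶ Y) :
    IsPullback (KRR.projSpaceMap n i) (KRR.pr n X) (KRR.pr n Y) i := by
  have h2 : KRR.projSpaceMap n i ≫ KRR.pr n Y = KRR.pr n X ≫ i := pullback.lift_snd _ _ _
  refine IsPullback.of_right ?_ h2 (IsPullback.of_hasPullback (CohB1.ProjSpace.toSpec n (ULift.{u} ℤ))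
    (specULiftZIsTerminal.from Y))
  rw [show KRR.projSpaceMap n i ≫ pullback.fst _ _ =
      pullback.fst (CohB1.ProjSpace.toSpec n (ULift.{u} ℤ)) (specULiftZIsTerminal.from X) from
    (pullback.lift_fst _ _ _).trans (Category.comp_id _),
    show i ≫ specULiftZIsTerminal.from Y = specULiftZIsTerminal.from X from specULiftZIsTerminal.hom_ext _ _]
  exact IsPullback.of_hasPullback _ _

section Values

variable {Y : Scheme.{u}} [IsNoetherian Y]

/-- The value of a push-forward on twisted pullbacks. -/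
theorem value_twist_pullback {M : Type w} [AddCommGroup M] (a : SGA6.Kvb (KRR.PY n Y) →+ M) (t : SGA6.Kvb Y →+ M)
    (h : ∀ F, RP n Y F → a (KRR.cl (KRR.PY n Y) F) = t (KRR.cl Y ((Scheme.Modules.pushforward (KRR.pr n Y)).obj F)))
    {E : Y.Modules} (hE : FlatMod.IsFinLocFree E) (k : ℕ) (hk : k ≤ n) :
    a (KRR.cl (KRR.PY n Y) (KRR.twF n Y (-(k : ℤ)) ((Scheme.Modules.pullback (KRR.pr n Y)).obj E))) =
      if k = 0 then t (KRR.cl Y E) else 0 := by
  haveI : Coh.IsQCoh E := FinLFAnn.isQCoh_of_isFinLocFree hE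
  rw [eq_of_QP a t h _ (QP_twist_pullback hE k hk)]
  split_ifs with h0
  · subst h0
    have hI := isIso_unit (n := n) E
    refine congrArg t (clSub_congr (KRR.vbP Y) ?_).symm
    exact @asIso _ _ _ _ _ hI ≪≫
      (Scheme.Modules.pushforward (KRR.pr n Y)).mapIso ((nonempty_twF_zero ((Scheme.Modules.pullback (KRR.pr n Y)).obj E)).some.symm ≪≫
        eqToIso (congrArg (fun d => KRR.twF n Y d ((Scheme.Modules.pullback (KRR.pr n Y)).obj E)) (by simp)))
  · refine (congrArg t ?_).trans (map_zero t)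
    refine clSub_eq_zero (KRR.vbP Y) (vb_push_QP (QP_twist_pullback hE k hk)) ?_
    refine isZero_push_of_V_zero ((V_twF_iff 0 _ _ _).2 ?_)
    exact V_pullback _ 0 _ fun A _ q hq => PnCohLib.subsingleton_HH_twist _ q (fun h => by omega) (fun h => by omega)

/-- Homomorphisms agreeing on twisted pullbacks are equal. -/
theorem hom_ext_twist_pullback {M : Type w} [AddCommGroup M] {a b : SGA6.Kvb (KRR.PY n Y) →+ M}
    (h : ∀ (k : ℕ) (E : Y.Modules), k ≤ n → FlatMod.IsFinLocFree E →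
      a (KRR.cl (KRR.PY n Y) (KRR.twF n Y (-(k : ℤ)) ((Scheme.Modules.pullback (KRR.pr n Y)).obj E))) =
        b (KRR.cl (KRR.PY n Y) (KRR.twF n Y (-(k : ℤ)) ((Scheme.Modules.pullback (KRR.pr n Y)).obj E)))) : a = b := by
  haveI := isLocallyNoetherian_PY n Y
  refine hom_ext_RP fun F hF => ?_
  have hq : Coh.IsQCoh F := FinLFAnn.isQCoh_of_isFinLocFree hF.1
  obtain ⟨L, π, hL, hz, hqi⟩ := exists_resolution_syz F hq hF.2
  haveI := hqi
  have hT : ∀ i, FlatMod.IsFinLocFree ((Scheme.Modules.pushforward (KRR.pr n Y)).obj (syz ⟨F, hq, hF.2⟩ i).1) := fun i =>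
    isFinLocFree_push_of_isRegSheaf (vb_syz ⟨F, hq, hF.2⟩ hF.1 i) (syz ⟨F, hq, hF.2⟩ i).2.2
  have hvb : ∀ i, FlatMod.IsFinLocFree (L.X i) := fun i =>
    vb_iso (hL i).some.symm (vb_twF (KFlatLib.isFinLocFree_pull _ (hT i)) _)
  have e := VBResLib.clSub_eq_euler (KRR.vbP (KRR.PY n Y)) (fun S hS h₂ h₃ =>
    VBResLib.vb_of_pd_zero (VBResLib.isCoh_X₁ hS (LocSuppLib.isCoh_of_isFinLocFree h₂) (LocSuppLib.isCoh_of_isFinLocFree h₃))
      fun x => VBResLib.PdAt.ker hS (d := 0) (VBResLib.pdAt_of_vb h₂ x 0) (VBResLib.pdAt_of_vb h₃ x 0))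
    hF.1 L hvb n hz π
  rw [show KRR.cl (KRR.PY n Y) F = _ from e, map_sum, map_sum]
  refine Finset.sum_congr rfl fun k hk => ?_
  rw [map_zsmul, map_zsmul, clSub_congr (KRR.vbP (KRR.PY n Y)) (hL k).some]
  exact congrArg ((-1 : ℤ) ^ k • ·) (h k _ (by have := Finset.mem_range.1 hk; omega) (hT k))

end Values

variable {X Y : Scheme.{u}}

/-- Twisted pullbacks of closed push-forwards. -/
theorem nonempty_push_twist_pullback (i : X ⟶ Y) [IsAffineHom i] (E : X.Modules) [Coh.IsQCoh E] (d : ℤ) :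
    Nonempty (KRR.twF n Y d ((Scheme.Modules.pullback (KRR.pr n Y)).obj ((Scheme.Modules.pushforward i).obj E)) ≅
      (Scheme.Modules.pushforward (KRR.projSpaceMap n i)).obj
        (KRR.twF n X d ((Scheme.Modules.pullback (KRR.pr n X)).obj E))) := by
  have hP := (isPullback_projSpaceMap n i).flip
  haveI : IsAffineHom (KRR.projSpaceMap n i) := MorphismProperty.of_isPullback hP (inferInstance : IsAffineHom i)
  have hb := Groth.Agent.S12131.result i (KRR.pr n Y) (KRR.pr n X) (KRR.projSpaceMap n i) hP E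
  let j := KRR.projSpaceMap n i
  let E' := (Scheme.Modules.pullback (KRR.pr n X)).obj E
  let b : (Scheme.Modules.pullback (KRR.pr n Y)).obj ((Scheme.Modules.pushforward i).obj E) ≅
      (Scheme.Modules.pushforward j).obj E' := @asIso _ _ _ _ _ hb
  haveI : EnoughInjectives (KRR.PY n X).Modules := IsGrothendieckAbelian.enoughInjectives.{u}
  let O' := Twist.twistOver n Y d
  have hO : FlatMod.IsFinLocFree O' := AmpleDevLib.isFinLocFree_of_isInvertible (PicPnLib.twistOver_inv n Y d)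
  obtain ⟨pf⟩ := _root_.ProjFormLib.nonempty_projection_formula j O' hO E' 0
  have h : j ≫ pullback.fst (CohB1.ProjSpace.toSpec n (ULift.{u} ℤ)) (specULiftZIsTerminal.from Y) =
      pullback.fst (CohB1.ProjSpace.toSpec n (ULift.{u} ℤ)) (specULiftZIsTerminal.from X) :=
    (pullback.lift_fst _ _ _).trans (Category.comp_id _)
  let e : (Scheme.Modules.pullback j).obj O' ≅ Twist.twistOver n X d :=
    (Scheme.Modules.pullbackComp j _).app _ ≪≫ (Scheme.Modules.pullbackCongr h).app _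
  let a1 : CohB1.tensorMod O' ((Coh.push j).obj E') ≅ CohB1.tensorMod O' ((Coh.Rpush j 0).obj E') :=
    HilbPolyLib.congrRight O' (CohBCLib.rpushZero j E').symm
  let a2 : (Coh.Rpush j 0).obj (CohB1.tensorMod ((Scheme.Modules.pullback j).obj O') E') ≅
      (Coh.push j).obj (CohB1.tensorMod ((Scheme.Modules.pullback j).obj O') E') := CohBCLib.rpushZero j _
  exact ⟨(twFun n Y d).mapIso b ≪≫ (a1 ≪≫ pf ≪≫ a2) ≪≫
    (Scheme.Modules.pushforward j).mapIso (HilbPolyLib.congrLeft e E')⟩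

variable [IsNoetherian X] [IsNoetherian Y]

/-- Twisted pullbacks of resolutions are resolutions. -/
theorem exists_lfRes_twist_pullback {F : Y.Modules} {m : ℕ} {L : ChainComplex Y.Modules ℕ}
    {π : L ⟶ (ChainComplex.single₀ Y.Modules).obj F} (hL : KRR.IsLFRes F m L π) (d : ℤ)
    {G : (KRR.PY n Y).Modules} (e : KRR.twF n Y d ((Scheme.Modules.pullback (KRR.pr n Y)).obj F) ≅ G) :
    ∃ (L' : ChainComplex (KRR.PY n Y).Modules ℕ) (π' : L' ⟶ (ChainComplex.single₀ (KRR.PY n Y).Modules).obj G),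
      KRR.IsLFRes G m L' π' ∧
      ∀ k, Nonempty (L'.X k ≅ KRR.twF n Y d ((Scheme.Modules.pullback (KRR.pr n Y)).obj (L.X k))) := by
  haveI := isLocallyNoetherian_PY n Y
  haveI : Smooth (KRR.pr n Y) := RTrivLib.smooth_toBase n Y
  haveI := CohGenLib.preservesFiniteLimits_pullback_flat (KRR.pr n Y)
  haveI := isEquivalence_twFun n Y d
  haveI : (Scheme.Modules.pullback (KRR.pr n Y)).IsLeftAdjoint :=
    (Scheme.Modules.pullbackPushforwardAdjunction (KRR.pr n Y)).isLeftAdjoint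
  haveI : PreservesFiniteColimits (Scheme.Modules.pullback (KRR.pr n Y)) := inferInstance
  let T : Y.Modules ⥤ (KRR.PY n Y).Modules := Scheme.Modules.pullback (KRR.pr n Y) ⋙ twFun n Y d
  haveI : T.Additive := inferInstance
  haveI : T.PreservesHomology := inferInstance
  let s := (HomologicalComplex.singleMapHomologicalComplex T (ComplexShape.down ℕ) 0).app F
  let π' : (T.mapHomologicalComplex (ComplexShape.down ℕ)).obj L ⟶ (ChainComplex.single₀ (KRR.PY n Y).Modules).obj G :=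
    (T.mapHomologicalComplex (ComplexShape.down ℕ)).map π ≫ s.hom ≫
      (ChainComplex.single₀ (KRR.PY n Y).Modules).map e.hom
  refine ⟨_, π', ⟨fun k => vb_twF (KFlatLib.isFinLocFree_pull _ (hL.finLocFree k)) d,
    fun k hk => T.map_isZero (hL.isZero k hk), ?_⟩, fun k => ⟨Iso.refl _⟩⟩
  haveI := hL.quasiIso
  haveI : IsIso (s.hom ≫ (ChainComplex.single₀ (KRR.PY n Y).Modules).map e.hom) := inferInstance
  haveI : QuasiIso ((T.mapHomologicalComplex (ComplexShape.down ℕ)).map π) := inferInstance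
  show QuasiIso ((T.mapHomologicalComplex (ComplexShape.down ℕ)).map π ≫
    (s.hom ≫ (ChainComplex.single₀ (KRR.PY n Y).Modules).map e.hom))
  infer_instance

/-- The two push-forwards commute. -/
theorem pushCl_pushPr_comm (i : X ⟶ Y) (hi : Mor2.IsRegularClosedImmersion i) (hY : KRR.HasEnoughLocFree Y)
    {KX KY : Type w} [AddCommGroup KX] [AddCommGroup KY] {KPX KPY : Type w} [AddCommGroup KPX] [AddCommGroup KPY]
    (φX : SGA6.Kvb X →+ KX) (φY : SGA6.Kvb Y →+ KY) (φPX : SGA6.Kvb (KRR.PY n X) →+ KPX)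
    (φPY : SGA6.Kvb (KRR.PY n Y) →+ KPY)
    (gi : KX →+ KY)
    (hgi : ∀ F, FlatMod.IsFinLocFree F → ∀ (m : ℕ) (L : ChainComplex Y.Modules ℕ)
      (π : L ⟶ (ChainComplex.single₀ Y.Modules).obj ((Scheme.Modules.pushforward i).obj F)),
      KRR.IsLFRes ((Scheme.Modules.pushforward i).obj F) m L π →
      gi (φX (KRR.cl X F)) = ∑ k ∈ Finset.range (m + 1), (-1 : ℤ) ^ k • φY (KRR.cl Y (L.X k)))
    (gj : KPX →+ KPY)
    (hgj : ∀ F, FlatMod.IsFinLocFree F → ∀ (m : ℕ) (L : ChainComplex (KRR.PY n Y).Modules ℕ)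
      (π : L ⟶ (ChainComplex.single₀ (KRR.PY n Y).Modules).obj ((Scheme.Modules.pushforward (KRR.projSpaceMap n i)).obj F)),
      KRR.IsLFRes ((Scheme.Modules.pushforward (KRR.projSpaceMap n i)).obj F) m L π →
      gj (φPX (KRR.cl (KRR.PY n X) F)) = ∑ k ∈ Finset.range (m + 1), (-1 : ℤ) ^ k • φPY (KRR.cl (KRR.PY n Y) (L.X k)))
    (gX : KPX →+ KX) (hgX : ∀ F, RP n X F →
      gX (φPX (KRR.cl (KRR.PY n X) F)) = φX (KRR.cl X ((Scheme.Modules.pushforward (KRR.pr n X)).obj F)))
    (gY : KPY →+ KY) (hgY : ∀ F, RP n Y F →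
      gY (φPY (KRR.cl (KRR.PY n Y) F)) = φY (KRR.cl Y ((Scheme.Modules.pushforward (KRR.pr n Y)).obj F))) :
    (gi.comp gX).comp φPX = (gY.comp gj).comp φPX := by
  haveI : IsClosedImmersion i := hi.1
  refine hom_ext_twist_pullback fun k E hk hE => ?_
  simp only [AddMonoidHom.coe_comp, Function.comp_apply]
  haveI : Coh.IsQCoh E := FinLFAnn.isQCoh_of_isFinLocFree hE
  obtain ⟨d, hd⟩ := VBResLib.exists_pd_push hY hi hE
  obtain ⟨m, L, π, hL⟩ := VBResLib.hasLFRes_of_pd hY
    (VBResLib.isCoh_push_of_isClosedImmersion i (LocSuppLib.isCoh_of_isFinLocFree hE)) hd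
  obtain ⟨e⟩ := nonempty_push_twist_pullback (n := n) i E (-(k : ℤ))
  obtain ⟨L', π', hL', hX'⟩ := exists_lfRes_twist_pullback hL (-(k : ℤ)) e
  haveI := isLocallyNoetherian_PY n X
  haveI := isLocallyNoetherian_PY n Y
  rw [hgj _ (vb_twF (KFlatLib.isFinLocFree_pull _ hE) _) m L' π' hL', map_sum,
    show gX (φPX (KRR.cl (KRR.PY n X) _)) = _ from value_twist_pullback (gX.comp φPX) φX hgX hE k hk]
  have hterm : ∀ j, gY (φPY (KRR.cl (KRR.PY n Y) (L'.X j))) = if k = 0 then φY (KRR.cl Y (L.X j)) else 0 := fun j => by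
    rw [show KRR.cl (KRR.PY n Y) (L'.X j) = _ from clSub_congr (KRR.vbP _) (hX' j).some]
    exact value_twist_pullback (gY.comp φPY) φY hgY (hL.finLocFree j) k hk
  simp only [map_zsmul, hterm]
  split_ifs with h0
  · exact hgi E hE m L π hL
  · simp

end KRRRegLib

end
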