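import Groth.Agent.KRRRegLib.ClosedBC
import Groth.Agent.KRRRegLib.LamAlg
import Groth.Agent.ExtPowLib.Pullback
import Groth.Agent.ExtTwistLib.Basic
import Groth.Agent.VBResLib.KPull
import Groth.Agent.CohCmpLib.LineBundle
import Groth.Agent.SeesawLib.Ranks
import Groth.Agent.SeesawLib.Pulled
import Groth.Prelude.Def_KRR

/-!
# Calculus in models of `K(X)`
-/

set_option autoImplicit false
set_option linter.all false
set_option maxHeartbeats 1000000

universe v v' u

open CategoryTheory CategoryTheory.Limits AlgebraicGeometry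
open Groth.Agent.KHeartLib
attribute [local instance] HasDerivedCategory.standard

noncomputable section

namespace KRRRegLib

section Model

variable {X : Scheme.{u}} {K : Type v} [CommRing K] [LambdaRing.LambdaOps K] {P : LambdaRing.PosStructure K}
  {φ : SGA6.Kvb X →+ K} (hK : KRR.IsModel X K P φ)

include hK in
/-- The group of a model is generated by classes of bundles. -/
theorem model_induction {motive : K → Prop} (mem : ∀ E : X.Modules, FlatMod.IsFinLocFree E → motive (φ (KRR.cl X E)))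
    (zero : motive 0) (add : ∀ a b, motive a → motive b → motive (a + b)) (neg : ∀ a, motive a → motive (-a))
    (x : K) : motive x := by
  obtain ⟨z, rfl⟩ := hK.bijective.2 x
  have hz : z ∈ AddSubgroup.closure {z | ∃ E, KRR.vbP X E ∧ KZero.clSub (KRR.vbP X) E = z} :=
    (Groth.Agent.KHeartLib.clSub_closure_eq_top (KRR.vbP X)).symm ▸ AddSubgroup.mem_top z
  induction hz using AddSubgroup.closure_induction with
  | mem a ha => obtain ⟨E, hE, rfl⟩ := ha; exact mem E hE
  | zero => rw [map_zero]; exact zero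
  | add a b _ _ ha hb => rw [map_add]; exact add _ _ ha hb
  | neg a _ ha => rw [map_neg]; exact neg _ ha

include hK in
theorem cl_iso [(KRR.vbP X).IsClosedUnderIsomorphisms] [(KRR.vbP X).ContainsZero] {E F : X.Modules} (e : E ≅ F) :
    φ (KRR.cl X E) = φ (KRR.cl X F) :=
  congrArg φ (clSub_congr (KRR.vbP X) e)

include hK in
theorem isLine_cl {L : X.Modules} (hL : FlatMod.IsFinLocFreeOfRank 1 L) : P.IsLine (φ (KRR.cl X L)) :=
  ⟨(hK.mem_pos_iff _).2 ⟨1, L, le_rfl, hL, rfl⟩, by simpa using hK.aug_cl 1 L hL⟩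

include hK in
theorem cl_tensorPow [IsNoetherian X] {L : X.Modules} (hL : PicF.IsInvertible L) (k : ℕ) :
    FlatMod.IsFinLocFree (CohB1.tensorPow L k) ∧ φ (KRR.cl X L) ^ k = φ (KRR.cl X (CohB1.tensorPow L k)) := by
  have hvL : FlatMod.IsFinLocFree L := AmpleDevLib.isFinLocFree_of_isInvertible hL
  induction k with
  | zero => exact ⟨vb_structure X, by rw [pow_zero]; exact hK.map_one.symm⟩
  | succ k ih =>
    exact ⟨VBResLib.vb_tensor L ih.1 hvL, by rw [pow_succ, ih.2]; exact hK.map_mul _ L ih.1 hvL⟩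

include hK in
/-- Exterior powers of a twist by a line bundle. -/
theorem lam_line_mul [IsNoetherian X] {L : X.Modules} (hL : PicF.IsInvertible L) (x : K) (j : ℕ) :
    LambdaRing.LambdaOps.lam j (φ (KRR.cl X L) * x) = φ (KRR.cl X L) ^ j * LambdaRing.LambdaOps.lam j x := by
  haveI : (KRR.vbP X).IsClosedUnderIsomorphisms := ⟨fun e h => Groth.Agent.PerfLib.isFinLocFree_of_iso e h⟩
  haveI : (KRR.vbP X).ContainsZero := vbY_zero
  have hvL : FlatMod.IsFinLocFree L := AmpleDevLib.isFinLocFree_of_isInvertible hL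
  have base : ∀ (E : X.Modules), FlatMod.IsFinLocFree E → ∀ i,
      LambdaRing.LambdaOps.lam i (φ (KRR.cl X L) * φ (KRR.cl X E)) =
        φ (KRR.cl X L) ^ i * LambdaRing.LambdaOps.lam i (φ (KRR.cl X E)) := by
    intro E hE i
    have hEL : FlatMod.IsFinLocFree (CohB1.tensorMod E L) := VBResLib.vb_tensor L hE hvL
    obtain ⟨N, hN, hNx⟩ := ExtPowLib.exists_isExtPow_vb hE i
    obtain ⟨M, hM, hMx⟩ := ExtPowLib.exists_isExtPow_vb hEL i
    obtain ⟨e⟩ := ExtTwistLib.nonempty_extPow_twist E L hL i M N hMx hNx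
    rw [mul_comm (φ (KRR.cl X L)), hK.map_mul E L hE hvL]
    refine (hK.map_lam i _ M hEL hM hMx).trans ?_
    rw [hK.map_lam i E N hE hN hNx, (cl_tensorPow hK hL i).2, mul_comm,
      hK.map_mul N _ hN (cl_tensorPow hK hL i).1]
    exact cl_iso hK e
  let good : K → Prop := fun x => ∃ A B : K, x + B = A ∧
    (∀ i, LambdaRing.LambdaOps.lam i (φ (KRR.cl X L) * A) = φ (KRR.cl X L) ^ i * LambdaRing.LambdaOps.lam i A) ∧
    (∀ i, LambdaRing.LambdaOps.lam i (φ (KRR.cl X L) * B) = φ (KRR.cl X L) ^ i * LambdaRing.LambdaOps.lam i B)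
  have hadd : ∀ a b : K,
      (∀ i, LambdaRing.LambdaOps.lam i (φ (KRR.cl X L) * a) = φ (KRR.cl X L) ^ i * LambdaRing.LambdaOps.lam i a) →
      (∀ i, LambdaRing.LambdaOps.lam i (φ (KRR.cl X L) * b) = φ (KRR.cl X L) ^ i * LambdaRing.LambdaOps.lam i b) →
      ∀ i, LambdaRing.LambdaOps.lam i (φ (KRR.cl X L) * (a + b)) =
        φ (KRR.cl X L) ^ i * LambdaRing.LambdaOps.lam i (a + b) := by
    intro a b ha hb i
    rw [mul_add, LambdaRing.LambdaOps.lam_add, LambdaRing.LambdaOps.lam_add, Finset.mul_sum]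
    refine Finset.sum_congr rfl fun l hl => ?_
    have hl' : l ≤ i := by have := Finset.mem_range.1 hl; omega
    rw [ha, hb, show φ (KRR.cl X L) ^ i = φ (KRR.cl X L) ^ l * φ (KRR.cl X L) ^ (i - l) by
      rw [← pow_add, Nat.add_sub_cancel' hl']]
    ring
  have h0 : ∀ i, LambdaRing.LambdaOps.lam i (φ (KRR.cl X L) * 0) =
      φ (KRR.cl X L) ^ i * LambdaRing.LambdaOps.lam i (0 : K) := fun i => by
    rw [mul_zero]
    cases i with
    | zero => rw [pow_zero, one_mul]
    | succ i => rw [LambdaSpLib.lam_zero_arg _ (by omega), mul_zero]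
  have hgood : good x := by
    refine model_induction hK (motive := good) (fun E hE => ⟨φ (KRR.cl X E), 0, add_zero _, base E hE, h0⟩)
      ⟨0, 0, add_zero _, h0, h0⟩ ?_ ?_ x
    · rintro a b ⟨A, B, h, hA, hB⟩ ⟨A', B', h', hA', hB'⟩
      exact ⟨A + A', B + B', by rw [← h, ← h']; abel, hadd _ _ hA hA', hadd _ _ hB hB'⟩
    · rintro a ⟨A, B, h, hA, hB⟩
      exact ⟨B, A, by rw [← h]; abel, hB, hA⟩
  obtain ⟨A, B, h, hA, hB⟩ := hgood
  exact lam_line_mul_of_pos hB (h ▸ hA) j

end Model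

section Pull

variable {X Y : Scheme.{u}} {KX : Type v} [CommRing KX] [LambdaRing.LambdaOps KX] {PX : LambdaRing.PosStructure KX}
  {φX : SGA6.Kvb X →+ KX} {KY : Type v'} [CommRing KY] [LambdaRing.LambdaOps KY] {PY : LambdaRing.PosStructure KY}
  {φY : SGA6.Kvb Y →+ KY}

/-- **The pull-back is a homomorphism of `λ`-rings with augmentation.** -/
theorem exists_pullHom [IsNoetherian X] [IsNoetherian Y] (f : X ⟶ Y) (hKX : KRR.IsModel X KX PX φX)
    (hKY : KRR.IsModel Y KY PY φY) : ∃ q : KY →+* KX, KRR.IsPull f φY φX q.toAddMonoidHom ∧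
      (∀ i y, q (LambdaRing.LambdaOps.lam i y) = LambdaRing.LambdaOps.lam i (q y)) ∧ ∀ y, PX.aug (q y) = PY.aug y := by
  haveI : (KRR.vbP X).IsClosedUnderIsomorphisms := ⟨fun e h => Groth.Agent.PerfLib.isFinLocFree_of_iso e h⟩
  haveI : (KRR.vbP X).ContainsZero := vbY_zero
  obtain ⟨ψ, hψ⟩ := VBResLib.exists_kPull f
  let eY := AddEquiv.ofBijective φY hKY.bijective
  let q₀ : KY →+ KX := φX.comp (ψ.comp eY.symm.toAddMonoidHom)
  have hq : ∀ E, FlatMod.IsFinLocFree E → q₀ (φY (KRR.cl Y E)) = φX (KRR.cl X ((Scheme.Modules.pullback f).obj E)) :=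
    fun E hE => by
      have : eY.symm (φY (KRR.cl Y E)) = KRR.cl Y E := eY.symm_apply_apply _
      simp only [q₀, AddMonoidHom.coe_comp, AddEquiv.coe_toAddMonoidHom, Function.comp_apply, this, hψ E hE]
  have h1 : q₀ 1 = 1 := by
    rw [← hKY.map_one, hq _ (vb_structure Y), ← hKX.map_one]
    exact cl_iso hKX (KFlatLib.pullUnitIso f)
  have hm : ∀ a b, q₀ (a * b) = q₀ a * q₀ b := by
    intro a b
    refine model_induction hKY (motive := fun a => q₀ (a * b) = q₀ a * q₀ b) (fun E hE => ?_) (by simp)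
      (fun c d hc hd => by rw [add_mul, map_add, map_add, hc, hd, add_mul])
      (fun c hc => by rw [neg_mul, map_neg, map_neg, hc, neg_mul]) a
    refine model_induction hKY (motive := fun b => q₀ (φY (KRR.cl Y E) * b) = q₀ (φY (KRR.cl Y E)) * q₀ b)
      (fun F hF => ?_) (by simp)
      (fun c d hc hd => by rw [mul_add, map_add, map_add, hc, hd, mul_add])
      (fun c hc => by rw [mul_neg, map_neg, map_neg, hc, mul_neg]) b
    have hvb : FlatMod.IsFinLocFree (((DCoh.tensorBi (X := Y)).obj E).obj F) := VBResLib.vb_tensor F hE hF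
    rw [hKY.map_mul E F hE hF, hq _ hvb, hq E hE, hq F hF,
      hKX.map_mul _ _ (KFlatLib.isFinLocFree_pull f hE) (KFlatLib.isFinLocFree_pull f hF)]
    exact cl_iso hKX (@asIso _ _ _ _ (KFlatLib.pullθ f E F) (KFlatLib.isIso_pullθ f E F))
  let q : KY →+* KX := { q₀ with map_one' := h1, map_mul' := hm }
  have hlam : ∀ i y, q (LambdaRing.LambdaOps.lam i y) = LambdaRing.LambdaOps.lam i (q y) := by
    have base : ∀ E, FlatMod.IsFinLocFree E → ∀ i, q (LambdaRing.LambdaOps.lam i (φY (KRR.cl Y E))) =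
        LambdaRing.LambdaOps.lam i (q (φY (KRR.cl Y E))) := by
      intro E hE i
      haveI : Coh.IsQCoh E := FinLFAnn.isQCoh_of_isFinLocFree hE
      obtain ⟨N, hN, hNx⟩ := ExtPowLib.exists_isExtPow_vb hE i
      rw [hKY.map_lam i E N hE hN hNx]
      show q₀ _ = LambdaRing.LambdaOps.lam i (q₀ _)
      rw [hq N hN, hq E hE, hKX.map_lam i _ _ (KFlatLib.isFinLocFree_pull f hE) (KFlatLib.isFinLocFree_pull f hN)
        (ExtPowLib.isExtPow_pullback f hNx)]
    let good : KY → Prop := fun y => ∃ A B : KY, y + B = A ∧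
      (∀ i, q (LambdaRing.LambdaOps.lam i A) = LambdaRing.LambdaOps.lam i (q A)) ∧
      (∀ i, q (LambdaRing.LambdaOps.lam i B) = LambdaRing.LambdaOps.lam i (q B))
    have hadd : ∀ a b : KY, (∀ i, q (LambdaRing.LambdaOps.lam i a) = LambdaRing.LambdaOps.lam i (q a)) →
        (∀ i, q (LambdaRing.LambdaOps.lam i b) = LambdaRing.LambdaOps.lam i (q b)) →
        ∀ i, q (LambdaRing.LambdaOps.lam i (a + b)) = LambdaRing.LambdaOps.lam i (q (a + b)) := fun a b ha hb i => by
      rw [map_add, LambdaRing.LambdaOps.lam_add, LambdaRing.LambdaOps.lam_add, map_sum]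
      exact Finset.sum_congr rfl fun l _ => by rw [map_mul, ha, hb]
    have h0 : ∀ i, q (LambdaRing.LambdaOps.lam i 0) = LambdaRing.LambdaOps.lam i (q 0) := fun i => by
      rw [map_zero]
      cases i with
      | zero => rw [LambdaRing.LambdaOps.lam_zero, LambdaRing.LambdaOps.lam_zero, map_one]
      | succ i => rw [LambdaSpLib.lam_zero_arg _ (by omega), LambdaSpLib.lam_zero_arg _ (by omega), map_zero]
    intro i y
    have hgood : good y := by
      refine model_induction hKY (motive := good) (fun E hE => ⟨φY (KRR.cl Y E), 0, add_zero _, base E hE, h0⟩)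
        ⟨0, 0, add_zero _, h0, h0⟩ ?_ ?_ y
      · rintro a b ⟨A, B, h, hA, hB⟩ ⟨A', B', h', hA', hB'⟩
        exact ⟨A + A', B + B', by rw [← h, ← h']; abel, hadd _ _ hA hA', hadd _ _ hB hB'⟩
      · rintro a ⟨A, B, h, hA, hB⟩
        exact ⟨B, A, by rw [← h]; abel, hB, hA⟩
    obtain ⟨A, B, h, hA, hB⟩ := hgood
    induction i using Nat.strong_induction_on with
    | _ i ih =>
      have hh := hA i
      rw [← h, map_add, LambdaRing.LambdaOps.lam_add, LambdaRing.LambdaOps.lam_add, map_sum, Finset.sum_range_succ,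
        Finset.sum_range_succ, Nat.sub_self, LambdaRing.LambdaOps.lam_zero, LambdaRing.LambdaOps.lam_zero, mul_one,
        mul_one, Finset.sum_congr rfl fun l hl => by rw [map_mul, ih l (Finset.mem_range.1 hl), hB]] at hh
      exact add_left_cancel hh
  refine ⟨q, hq, hlam, fun y => ?_⟩
  obtain ⟨e, e', he, he', rfl⟩ := PY.exists_sub y
  have haug : ∀ e ∈ PY.pos, PX.aug (q e) = PY.aug e := by
    intro e he
    obtain ⟨r, E, hr, hE, rfl⟩ := (hKY.mem_pos_iff e).1 he
    rw [hKY.aug_cl r E hE]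
    show PX.aug (q₀ _) = _
    rw [hq E (SeesawLib.isFinLocFree_of_rank hE), hKX.aug_cl r _ (SeesawLib.isFinLocFreeOfRank_pullback f hE)]
  rw [map_sub, map_sub, map_sub, haug e he, haug e' he']

end Pull

end KRRRegLib

end
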