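import Mathlib.Algebra.BigOperators.Intervals
import Mathlib.Tactic

/-!
# The relation satisfied by a root
-/

set_option autoImplicit false

open Finset

namespace KRRRegLib

/-- If `E(t) = k(t) (1 + l t)` and `k` has degree at most `r`, then `l` is a root of the polynomial of `E`. -/
theorem root_relation {K : Type*} [CommRing K] (E k : ℕ → K) (l : K) (r : ℕ) (hE : E 0 = 1) (hk : k 0 = 1)
    (h : ∀ i, E (i + 1) = k (i + 1) + k i * l) (hr : k (r + 1) = 0) :
    ∑ i ∈ range (r + 2), (-1 : K) ^ i * E i * l ^ (r + 1 - i) = 0 := by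
  let a : ℕ → K := fun i => (-1) ^ i * k i * l ^ (r + 1 - i)
  have e : ∀ i ∈ range (r + 1), (-1 : K) ^ (i + 1) * E (i + 1) * l ^ (r + 1 - (i + 1)) = a (i + 1) - a i := by
    intro i hi
    have hi' : i ≤ r := by have := mem_range.1 hi; omega
    have hp : l ^ (r + 1 - i) = l ^ (r + 1 - (i + 1)) * l := by
      rw [← pow_succ]; congr 1; omega
    simp only [a, h, hp, pow_succ]
    ring
  rw [sum_range_succ', sum_congr rfl e, sum_range_sub]
  simp [a, hE, hk, hr]

end KRRRegLib

namespace KRRRegLib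

/-- The general form of the relation. -/
theorem root_relation' {K : Type*} [CommRing K] (E k : ℕ → K) (l : K) (r : ℕ) (hE : E 0 = 1) (hk : k 0 = 1)
    (h : ∀ i, E (i + 1) = k (i + 1) + k i * l) :
    ∑ i ∈ Finset.range (r + 2), (-1 : K) ^ i * E i * l ^ (r + 1 - i) = (-1) ^ (r + 1) * k (r + 1) := by
  let a : ℕ → K := fun i => (-1) ^ i * k i * l ^ (r + 1 - i)
  have e : ∀ i ∈ Finset.range (r + 1), (-1 : K) ^ (i + 1) * E (i + 1) * l ^ (r + 1 - (i + 1)) = a (i + 1) - a i := by
    intro i hi
    have hi' : i ≤ r := by have := Finset.mem_range.1 hi; omega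
    have hp : l ^ (r + 1 - i) = l ^ (r + 1 - (i + 1)) * l := by
      rw [← pow_succ]; congr 1; omega
    simp only [a, h, hp, pow_succ]
    ring
  rw [Finset.sum_range_succ', Finset.sum_congr rfl e, Finset.sum_range_sub]
  simp [a, hE, hk]

end KRRRegLib
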