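import Groth.Agent.KRRRegLib.K0
import Groth.Agent.KRRRegLib.Unit
import Mathlib.Algebra.Group.ForwardDiff

/-!
# The push-forward on `K₀` along projective space
-/

set_option autoImplicit false
set_option linter.all false
set_option maxHeartbeats 1000000

universe u w

open CategoryTheory CategoryTheory.Limits AlgebraicGeometry HomologicalComplex
open Groth.Agent.KHeartLib
open scoped ZeroObject

noncomputable section

namespace KRRRegLib

open Groth.Agent

variable {n : ℕ} {Y : Scheme.{u}} [IsNoetherian Y]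

instance vbY_zero : (KRR.vbP Y).ContainsZero := ⟨⟨0, isZero_zero _, VBResLib.vb_of_isZero (isZero_zero _)⟩⟩

variable (n Y) in
/-- Bundles all of whose nonnegative twists are acyclic. -/
abbrev QP : ObjectProperty (KRR.PY n Y).Modules := fun M =>
  FlatMod.IsFinLocFree M ∧ ∀ d q : ℕ, 1 ≤ q → V q (d : ℤ) M

instance QP_iso : (QP n Y).IsClosedUnderIsomorphisms :=
  ⟨fun e h => ⟨vb_iso e h.1, fun d q hq => V.of_iso (h.2 d q hq) e.symm⟩⟩

instance QP_zero : (QP n Y).ContainsZero := by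
  obtain ⟨Z, hZ, hP⟩ := (KRR.vbP (KRR.PY n Y)).exists_prop_of_containsZero
  exact ⟨⟨Z, hZ, hP, fun d q _ => V.of_isZero q d hZ⟩⟩

theorem QP_of_RP {F : (KRR.PY n Y).Modules} (hF : RP n Y F) : QP n Y F :=
  ⟨hF.1, fun d q hq => (V_shift hF.2 (d + q) q hq).congr (by push_cast; ring)⟩

theorem QP_biprod {A B : (KRR.PY n Y).Modules} (hA : QP n Y A) (hB : QP n Y B) : QP n Y (A ⊞ B) :=
  ⟨Groth.Agent.PerfLib.isFinLocFree_biprod hA.1 hB.1, fun d q hq => V.biprod (hA.2 d q hq) (hB.2 d q hq)⟩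

theorem QP_twist {F : (KRR.PY n Y).Modules} (hF : QP n Y F) (j : ℕ) : QP n Y (KRR.twF n Y (j : ℤ) F) :=
  haveI := isLocallyNoetherian_PY n Y
  ⟨vb_twF hF.1 _, fun d q hq => (V_twF_iff q _ _ F).2 ((hF.2 (d + j) q hq).congr (by push_cast; ring))⟩

theorem QP_cycles {F : (KRR.PY n Y).Modules} (hF : QP n Y F) (k : ℤ) :
    QP n Y ((Kz F (coordList n Y)).cycles k) := by
  refine ⟨vb_cycles hF.1 k, ?_⟩
  let K := Kz F (coordList n Y)
  have hK : K.Acyclic := acyclic (isInvertible_O1 n Y) F (coordList n Y) exists_genAt_coordList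
  have hX : ∀ k (d q : ℕ), 1 ≤ q → V q (d : ℤ) (K.X k) := fun k d q hq => by
    refine V.of_iso (G := KRR.twF n Y 0 (K.X k)) ?_ (nonempty_twF_zero _).some.symm
    have h := ((term_class (QP n Y) (fun A B => QP_biprod) (QP_twist hF) (coordList n Y) 0).1 k).2 d q hq
    simpa using h
  have hlow : ∀ k : ℤ, k ≤ -((n + 1 : ℕ) : ℤ) → ∀ d q : ℕ, 1 ≤ q → V q (d : ℤ) (K.cycles k) := fun k hk d q _ => by
    have hse := cycles_shortExact K hK (k - 1) k (by ring)
    haveI : Epi (K.toCycles (k - 1) k) := hse.epi_g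
    refine V.of_isZero q d (IsZero.of_epi (K.toCycles (k - 1) k) (isZero_X F _ _ (Or.inr ?_)))
    rw [length_coordList]; omega
  have main : ∀ (t d q : ℕ), 1 ≤ q → V q (d : ℤ) (K.cycles (-((n + 1 : ℕ) : ℤ) + t)) := by
    intro t
    induction t with
    | zero => exact hlow _ (by simp)
    | succ t ih =>
      intro d q hq
      have hse := cycles_shortExact K hK (-((n + 1 : ℕ) : ℤ) + t) (-((n + 1 : ℕ) : ℤ) + (t + 1 : ℕ))
        (by push_cast; ring)
      exact RDerLib.isZero_X₃ (F := Coh.pushAb (KRR.pr n Y)) (shortExact_ab n Y (d : ℤ) hse) q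
        (ih d (q + 1) (by omega)) (hX _ d q hq)
  rcases le_or_gt k (-((n + 1 : ℕ) : ℤ)) with h | h
  · exact hlow k h
  · obtain ⟨t, rfl⟩ : ∃ t : ℕ, k = -((n + 1 : ℕ) : ℤ) + t := ⟨(k + (n + 1 : ℕ)).toNat, by omega⟩
    exact main t

theorem QP_acyclic {F : (KRR.PY n Y).Modules} (hF : QP n Y F) (q : ℕ) (hq : 1 ≤ q) :
    IsZero ((Coh.RpushAb (KRR.pr n Y) q).obj (Coh.toAb F)) :=
  IsZero.of_iso (hF.2 0 q hq) ((vFun q ((0 : ℕ) : ℤ)).mapIso (Iso.refl F) ≪≫
    (Coh.RpushAb (KRR.pr n Y) q).mapIso ((QCohLib.toAbF (KRR.PY n Y)).mapIso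
      (eqToIso (congrArg (fun d => KRR.twF n Y d F) (Nat.cast_zero)) ≪≫ (nonempty_twF_zero F).some))).symm

theorem vb_push_QP {F : (KRR.PY n Y).Modules} (hF : QP n Y F) :
    FlatMod.IsFinLocFree ((Scheme.Modules.pushforward (KRR.pr n Y)).obj F) := by
  haveI : IsProper (KRR.pr n Y) := ChowLib.isProper_toBase n Y
  haveI : Smooth (KRR.pr n Y) := RTrivLib.smooth_toBase n Y
  haveI := isLocallyNoetherian_PY n Y
  exact isFinLocFree_push (KRR.pr n Y) F (LocSuppLib.isCoh_of_isFinLocFree hF.1)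
    (isFlatOver_of_vb (KRR.pr n Y) hF.1) (QP_acyclic hF)

theorem push_add {S : ShortComplex (KRR.PY n Y).Modules} (hS : S.ShortExact) (h₁ : QP n Y S.X₁)
    (h₂ : QP n Y S.X₂) (h₃ : QP n Y S.X₃) :
    KRR.cl Y ((Scheme.Modules.pushforward (KRR.pr n Y)).obj S.X₂) =
      KRR.cl Y ((Scheme.Modules.pushforward (KRR.pr n Y)).obj S.X₁) +
        KRR.cl Y ((Scheme.Modules.pushforward (KRR.pr n Y)).obj S.X₃) := by
  let P := Scheme.Modules.pushforward (KRR.pr n Y)
  haveI : PreservesFiniteLimits P := by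
    haveI : P.IsRightAdjoint := (Scheme.Modules.pullbackPushforwardAdjunction (KRR.pr n Y)).isRightAdjoint
    infer_instance
  haveI he : Epi (P.map S.g) := by
    haveI : Epi ((QCohLib.toAbF Y).map (P.map S.g)) :=
      (RDerLib.epi_map_g_iff (F := Coh.pushAb (KRR.pr n Y)) _).1
        (RDerLib.epi_map_g (hS.map_of_exact (QCohLib.toAbF (KRR.PY n Y))) 0 (QP_acyclic h₁ 1 le_rfl))
    exact (QCohLib.toAbF Y).epi_of_epi_map this
  obtain ⟨hex, hm⟩ := ((Functor.preservesFiniteLimits_tfae P).out 3 0 : PreservesFiniteLimits P ↔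
      ∀ S : ShortComplex (KRR.PY n Y).Modules, S.ShortExact → (S.map P).Exact ∧ Mono (P.map S.f)).1 ‹_› S hS
  exact clSub_add (KRR.vbP Y) (S.map P) { exact := hex, mono_f := hm, epi_g := he }
    (vb_push_QP h₁) (vb_push_QP h₂) (vb_push_QP h₃)

variable (n Y) in
/-- The push-forward on `K₀` of regular bundles, extended to all bundles. -/
theorem exists_kPush : ∃ π : SGA6.Kvb (KRR.PY n Y) →+ SGA6.Kvb Y, ∀ F, RP n Y F →
    π (KRR.cl (KRR.PY n Y) F) = KRR.cl Y ((Scheme.Modules.pushforward (KRR.pr n Y)).obj F) := by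
  obtain ⟨φ, hφ⟩ := exists_lift_sub (RP n Y) (fun F => KRR.cl Y ((Scheme.Modules.pushforward (KRR.pr n Y)).obj F))
    fun S hS h₁ h₂ h₃ => push_add hS (QP_of_RP h₁) (QP_of_RP h₂) (QP_of_RP h₃)
  let e := AddEquiv.ofBijective _ (bijective_mapSub (n := n) (Y := Y) fun M hM => hM.1)
  refine ⟨φ.comp e.symm.toAddMonoidHom, fun F hF => ?_⟩
  have h := VBResLib.mapSub_clSub (𝟭 (KRR.PY n Y).Modules) (RP n Y) (KRR.vbP (KRR.PY n Y)) (fun M hM => hM.1) hF
  have : e.symm (KRR.cl (KRR.PY n Y) F) = KZero.clSub (RP n Y) F := by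
    rw [AddEquiv.symm_apply_eq]
    exact h.symm
  simp only [AddMonoidHom.coe_comp, AddEquiv.coe_toAddMonoidHom, Function.comp_apply, this]
  exact hφ F hF

/-- Homomorphisms agreeing on regular bundles are equal. -/
theorem hom_ext_RP {M : Type w} [AddCommGroup M] {a b : SGA6.Kvb (KRR.PY n Y) →+ M}
    (h : ∀ F, RP n Y F → a (KRR.cl (KRR.PY n Y) F) = b (KRR.cl (KRR.PY n Y) F)) : a = b := by
  let i := SGA6.mapSub (𝟭 (KRR.PY n Y).Modules) (RP n Y) (KRR.vbP (KRR.PY n Y)) fun M hM => hM.1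
  have hi : a.comp i = b.comp i := by
    refine AddMonoidHom.eq_of_eqOn_dense (clSub_closure_eq_top (RP n Y)) ?_
    rintro _ ⟨F, hF, rfl⟩
    simp only [AddMonoidHom.coe_comp, Function.comp_apply, i,
      VBResLib.mapSub_clSub (𝟭 (KRR.PY n Y).Modules) (RP n Y) (KRR.vbP (KRR.PY n Y)) (fun M hM => hM.1) hF]
    exact h F hF
  refine AddMonoidHom.ext fun z => ?_
  obtain ⟨y, rfl⟩ := (bijective_mapSub (n := n) (Y := Y) fun M hM => hM.1).2 z
  exact DFunLike.congr_fun hi y

/-- A push-forward takes the expected value on acyclic bundles. -/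
theorem eq_of_QP {M : Type w} [AddCommGroup M] (a : SGA6.Kvb (KRR.PY n Y) →+ M) (t : SGA6.Kvb Y →+ M)
    (h : ∀ F, RP n Y F → a (KRR.cl (KRR.PY n Y) F) = t (KRR.cl Y ((Scheme.Modules.pushforward (KRR.pr n Y)).obj F))) :
    ∀ F, QP n Y F → a (KRR.cl (KRR.PY n Y) F) = t (KRR.cl Y ((Scheme.Modules.pushforward (KRR.pr n Y)).obj F)) := by
  obtain ⟨φ, hφ⟩ := exists_lift_sub (QP n Y)
    (fun F => a (KRR.cl (KRR.PY n Y) F) - t (KRR.cl Y ((Scheme.Modules.pushforward (KRR.pr n Y)).obj F)))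
    fun S hS h₁ h₂ h₃ => by
      have hP : KRR.cl (KRR.PY n Y) S.X₂ = KRR.cl (KRR.PY n Y) S.X₁ + KRR.cl (KRR.PY n Y) S.X₃ :=
        clSub_add (KRR.vbP (KRR.PY n Y)) S hS h₁.1 h₂.1 h₃.1
      simp only [hP, push_add hS h₁ h₂ h₃, map_add]
      abel
  suffices key : ∀ (m : ℕ) (F : (KRR.PY n Y).Modules), QP n Y F → PM n Y m F → φ (KZero.clSub (QP n Y) F) = 0 by
    intro F hF
    obtain ⟨m, hm⟩ := exists_PM hF.1
    exact sub_eq_zero.1 ((hφ F hF).symm.trans (key m F hF hm))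
  intro m
  induction m with
  | zero =>
    intro F hF hm
    exact (hφ F hF).trans (sub_eq_zero.2 (h F (PM_zero_iff.1 hm)))
  | succ m ih =>
    intro F hF hm
    have hk := congrArg φ (koszul_relation (QP n Y) (fun A B => QP_biprod) (QP_twist hF) (QP_cycles hF))
    rw [Finset.sum_range_succ', map_add, map_sum, map_zero] at hk
    rw [Finset.sum_eq_zero fun j _ => by rw [map_zsmul, ih _ (QP_twist hF (j + 1)) (PM_twist hm j), smul_zero],
      zero_add] at hk
    simp only [pow_zero, Nat.choose_zero_right, Nat.cast_one, one_mul, one_smul] at hk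
    refine Eq.trans (congrArg φ ?_) hk
    exact (clSub_congr (QP n Y) (eqToIso (congrArg (fun d => KRR.twF n Y d F) Nat.cast_zero) ≪≫ (nonempty_twF_zero F).some)).symm

section Values

/-- `O(d)`. -/
abbrev Od (n : ℕ) (Y : Scheme.{u}) (d : ℤ) : (KRR.PY n Y).Modules :=
  KRR.twF n Y d (Coh.structureModule (KRR.PY n Y))

theorem V_structure (q : ℕ) (d : ℤ)
    (h : ∀ (A : Type u) [CommRing A] (k : ℕ), q ≤ k →
      Subsingleton (Coh.HH (CohB1.ProjSpace n A) (Twist.twistProjSpace n A d) k)) :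
    V q d (Coh.structureModule (KRR.PY n Y)) := by
  haveI : Coh.IsQCoh (Coh.structureModule Y) := QCohLib.isQCoh_unit
  exact V.of_iso (V_pullback (Coh.structureModule Y) q d h) (KFlatLib.pullUnitIso (KRR.pr n Y)).symm

theorem vb_structure (X : Scheme.{u}) : FlatMod.IsFinLocFree (Coh.structureModule X) :=
  AmpleDevLib.isFinLocFree_of_isInvertible CurvLib.isInvertible_structureModule

theorem RP_structure : RP n Y (Coh.structureModule (KRR.PY n Y)) := by
  haveI : Coh.IsQCoh (Coh.structureModule Y) := QCohLib.isQCoh_unit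
  exact ⟨vb_structure _, isRegSheaf_of_iso (isRegSheaf_pullback (Coh.structureModule Y))
    (KFlatLib.pullUnitIso (KRR.pr n Y)).symm⟩

theorem QP_Od (i : ℕ) (hi : i ≤ n) : QP n Y (Od n Y (-(i : ℤ))) := by
  haveI := isLocallyNoetherian_PY n Y
  refine ⟨vb_twF (vb_structure _) _, fun d q hq => (V_twF_iff q _ _ _).2 ?_⟩
  exact V_structure q _ fun A _ k hk => PnCohLib.subsingleton_HH_twist _ k (fun h => by omega) (fun h => by omega)

theorem isZero_push_Od (i : ℕ) (h1 : 1 ≤ i) (hi : i ≤ n) :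
    IsZero ((Scheme.Modules.pushforward (KRR.pr n Y)).obj (Od n Y (-(i : ℤ)))) :=
  isZero_push_of_V_zero ((V_twF_iff 0 _ _ _).2
    (V_structure 0 _ fun A _ k hk => PnCohLib.subsingleton_HH_twist _ k (fun h => by omega) (fun h => by omega)))

theorem push_structure :
    KRR.cl Y ((Scheme.Modules.pushforward (KRR.pr n Y)).obj (Coh.structureModule (KRR.PY n Y))) =
      KRR.cl Y (Coh.structureModule Y) := by
  haveI : Coh.IsQCoh (Coh.structureModule Y) := QCohLib.isQCoh_unit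
  haveI := isIso_unit (n := n) (Coh.structureModule Y)
  exact (clSub_congr (KRR.vbP Y) (asIso ((Scheme.Modules.pullbackPushforwardAdjunction (KRR.pr n Y)).unit.app _) ≪≫
    (Scheme.Modules.pushforward (KRR.pr n Y)).mapIso (KFlatLib.pullUnitIso (KRR.pr n Y)))).symm

theorem sum_choose_shift (n t : ℕ) :
    ∑ j ∈ Finset.range (n + 2), (-1 : ℤ) ^ j * ((n + 1).choose j : ℤ) * ((t + j).choose n : ℤ) = 0 := by
  let f : ℕ → ℤ := fun x => (x.choose n : ℤ)
  have h0 : (fwdDiff 1)^[n + 1] f = fun _ => 0 := by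
    rw [Function.iterate_succ_apply']
    have h := fwdDiff_iter_choose 0 n
    simp only [add_zero, Nat.choose_zero_right, Nat.cast_one] at h
    rw [show (fwdDiff 1)^[n] f = fun _ => (1 : ℤ) from h, fwdDiff_const]
  have h1 := congrFun h0 t
  rw [fwdDiff_iter_eq_sum_shift] at h1
  have h2 := congrArg (((-1 : ℤ) ^ (n + 1)) * ·) h1
  simp only [mul_zero] at h2
  refine Eq.trans ?_ h2
  rw [Finset.mul_sum]
  refine Finset.sum_congr rfl fun j hj => ?_
  have hj' : j ≤ n + 1 := by simpa [Nat.lt_succ_iff] using Finset.mem_range.1 hj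
  obtain ⟨c, hc⟩ := Nat.exists_eq_add_of_le hj'
  simp only [smul_eq_mul, nsmul_eq_mul, mul_one, f]
  rw [show n + 1 - j = c by omega, hc, pow_add]
  have h2 : (-1 : ℤ) ^ c * (-1) ^ c = 1 := by rw [← pow_add, ← two_mul, pow_mul]; norm_num
  rw [← hc]
  linear_combination -((n + 1).choose j : ℤ) * ((t + j).choose n : ℤ) * (-1 : ℤ) ^ j * h2

variable {M : Type w} [AddCommGroup M] (a : SGA6.Kvb (KRR.PY n Y) →+ M) (t : SGA6.Kvb Y →+ M)
  (h : ∀ F, RP n Y F → a (KRR.cl (KRR.PY n Y) F) = t (KRR.cl Y ((Scheme.Modules.pushforward (KRR.pr n Y)).obj F)))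

include h in
theorem value_zero : a (KRR.cl (KRR.PY n Y) (Coh.structureModule (KRR.PY n Y))) = t (KRR.cl Y (Coh.structureModule Y)) :=
  (h _ RP_structure).trans (congrArg t push_structure)

include h in
theorem value_neg (i : ℕ) (h1 : 1 ≤ i) (hi : i ≤ n) : a (KRR.cl (KRR.PY n Y) (Od n Y (-(i : ℤ)))) = 0 := by
  rw [eq_of_QP a t h _ (QP_Od i hi)]
  exact (congrArg t (clSub_eq_zero (KRR.vbP Y) (vb_push_QP (QP_Od i hi)) (isZero_push_Od i h1 hi))).trans (map_zero t)

include h in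
theorem value_twist (s : ℕ) : a (KRR.cl (KRR.PY n Y) (Od n Y ((s : ℤ) - n))) =
    (s.choose n : ℤ) • t (KRR.cl Y (Coh.structureModule Y)) := by
  induction s using Nat.strong_induction_on with
  | _ s ih =>
    rcases lt_trichotomy s n with hs | rfl | hs
    · rw [show (s : ℤ) - n = -((n - s : ℕ) : ℤ) by omega, value_neg a t h (n - s) (by omega) (Nat.sub_le n s),
        Nat.choose_eq_zero_of_lt hs, Nat.cast_zero, zero_smul]
    · rw [sub_self, Nat.choose_self, Nat.cast_one, one_smul, ← value_zero a t h]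
      exact congrArg a (clSub_congr (KRR.vbP _) (nonempty_twF_zero _).some)
    · obtain ⟨r, rfl⟩ : ∃ r, s = r + (n + 1) := ⟨s - (n + 1), by omega⟩
      haveI := isLocallyNoetherian_PY n Y
      have hO : FlatMod.IsFinLocFree (Od n Y ((r : ℤ) - n)) := vb_twF (vb_structure _) _
      have hk := congrArg a (koszul_relation (KRR.vbP (KRR.PY n Y))
        (fun A B hA hB => Groth.Agent.PerfLib.isFinLocFree_biprod hA hB) (fun j => vb_twF hO _) (vb_cycles hO))
      rw [map_sum, map_zero] at hk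
      have hterm : ∀ j : ℕ, KZero.clSub (KRR.vbP (KRR.PY n Y)) (KRR.twF n Y (j : ℤ) (Od n Y ((r : ℤ) - n))) =
          KRR.cl (KRR.PY n Y) (Od n Y (((r + j : ℕ) : ℤ) - n)) := fun j => by
        obtain ⟨e⟩ := nonempty_twF_add n Y (j : ℤ) ((r : ℤ) - n) (Coh.structureModule (KRR.PY n Y))
        exact clSub_congr (KRR.vbP _) (e ≪≫ eqToIso (congrArg (fun d => Od n Y d) (by push_cast; ring)))
      rw [Finset.sum_range_succ] at hk
      simp only [map_zsmul, hterm] at hk
      rw [Finset.sum_congr rfl fun j hj => by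
        rw [ih (r + j) (by have := Finset.mem_range.1 hj; omega), ← mul_smul], ← Finset.sum_smul] at hk
      have hs' := sum_choose_shift n r
      rw [Finset.sum_range_succ, Nat.choose_self, Nat.cast_one, mul_one] at hs'
      rw [eq_neg_of_add_eq_zero_left hs', neg_smul, mul_smul, Nat.choose_self, Nat.cast_one, mul_one,
        neg_add_eq_zero] at hk
      have hu : IsUnit ((-1 : ℤ) ^ (n + 1)) := (isUnit_one.neg).pow _
      exact (hu.smul_left_cancel.1 hk).symm

end Values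

end KRRRegLib

end
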