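import Groth.Agent.KRRRegLib.PushK
import Groth.Agent.S4654
import Groth.Agent.PnCohLib.FlatTensor
import Groth.Agent.RichLib.ModFlatGlobal

/-!
# Resolutions of flat regular coherent modules
-/

set_option autoImplicit false
set_option linter.all false
set_option maxHeartbeats 1000000

universe u w

open CategoryTheory CategoryTheory.Limits AlgebraicGeometry HomologicalComplex
open Groth.Agent.KHeartLib

noncomputable section

namespace KRRRegLib

open Groth.Agent

variable {n : ℕ}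

section

variable {T : Scheme.{u}}

/-- The resolution of a regular sheaf by its syzygies. -/
theorem exists_resolution_syz (F : (KRR.PY n T).Modules) (hF : Coh.IsQCoh F) (hreg : KRR.IsRegSheaf n T F) :
    ∃ (L : ChainComplex (KRR.PY n T).Modules ℕ)
      (π : L ⟶ (ChainComplex.single₀ (KRR.PY n T).Modules).obj F),
      (∀ i, Nonempty (L.X i ≅ KRR.twF n T (-(i : ℤ)) (cover0 (syz ⟨F, hF, hreg⟩ i).1))) ∧
      (∀ i, n < i → IsZero (L.X i)) ∧ QuasiIso π := by
  let G : ℕ → QR n T := syz ⟨F, hF, hreg⟩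
  let adj := Scheme.Modules.pullbackPushforwardAdjunction (KRR.pr n T)
  let K : ℕ → (KRR.PY n T).Modules := fun i => KRR.twF n T (-(i : ℤ)) (G i).1
  let A : ℕ → (KRR.PY n T).Modules := fun i => KRR.twF n T (-(i : ℤ)) (cover0 (G i).1)
  let π : ∀ i, A i ⟶ K i := fun i => (twFun n T (-(i : ℤ))).map (adj.counit.app (G i).1)
  let e : ∀ i, K (i + 1) ≅ KRR.twF n T (-(i : ℤ)) (kernel (adj.counit.app (G i).1)) := fun i =>
    (nonempty_twF_add n T (-((i + 1 : ℕ) : ℤ)) 1 _).some ≪≫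
      eqToIso (congrArg (fun d => KRR.twF n T d (kernel (adj.counit.app (G i).1))) (by push_cast; ring))
  let ι : ∀ i, K (i + 1) ⟶ A i := fun i => (e i).hom ≫ (twFun n T (-(i : ℤ))).map (kernel.ι _)
  have hw : ∀ i, ι i ≫ π i = 0 := fun i =>
    (Category.assoc _ _ _).trans ((congrArg ((e i).hom ≫ ·) (((Functor.map_comp _ _ _).symm.trans
      (congrArg (twFun n T (-(i : ℤ))).map (kernel.condition (adj.counit.app (G i).1)))).trans
        (Functor.map_zero _ _ _))).trans comp_zero)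
  have hex : ∀ i, (ShortComplex.mk (ι i) (π i) (hw i)).ShortExact := fun i => by
    refine ShortComplex.shortExact_of_iso ?_ (shortExact_twF n T (-(i : ℤ)) (ses_counit (G i)))
    exact ShortComplex.isoMk (e i).symm (Iso.refl _) (Iso.refl _)
      (by simp only [ShortComplex.map_f, Iso.symm_hom, Iso.refl_hom, ι]
          exact (Iso.inv_hom_id_assoc _ _).trans (Category.comp_id _).symm)
      (by simp only [ShortComplex.map_g, Iso.refl_hom, π]
          exact (Category.id_comp _).trans (Category.comp_id _).symm)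
  obtain ⟨L, aug, hL, hq⟩ := exists_splice K A π ι hw hex
  obtain ⟨e0⟩ := nonempty_twF_zero (n := n) (T := T) F
  let e0' : K 0 ≅ F := eqToIso (congrArg (fun d => KRR.twF n T d F) (by simp)) ≪≫ e0
  refine ⟨L, aug ≫ (ChainComplex.single₀ (KRR.PY n T).Modules).map e0'.hom, hL, fun i hi => ?_, ?_⟩
  · obtain ⟨ei⟩ := hL i
    refine IsZero.of_iso ((twFun n T (-(i : ℤ))).map_isZero ((Scheme.Modules.pullback (KRR.pr n T)).map_isZero
      ((Scheme.Modules.pushforward (KRR.pr n T)).map_isZero (isZero_syz _ hi)))) ei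
  · haveI := hq
    haveI : IsIso ((ChainComplex.single₀ (KRR.PY n T).Modules).map e0'.hom) := inferInstance
    infer_instance

end

variable {Y : Scheme.{u}} [IsNoetherian Y]

theorem vb_push_of_flat {G : (KRR.PY n Y).Modules} (hc : Coh.IsCoh G)
    (hfl : FlatMod.IsFlatOver (KRR.pr n Y) G) (hreg : KRR.IsRegSheaf n Y G) :
    FlatMod.IsFinLocFree ((Scheme.Modules.pushforward (KRR.pr n Y)).obj G) := by
  haveI : IsProper (KRR.pr n Y) := ChowLib.isProper_toBase n Y
  exact isFinLocFree_push (KRR.pr n Y) G hc hfl (isZero_Rpush hreg)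

theorem syz_flat (G : QR n Y) (hc : Coh.IsCoh G.1) (hfl : FlatMod.IsFlatOver (KRR.pr n Y) G.1) :
    ∀ i, Coh.IsCoh (syz G i).1 ∧ FlatMod.IsFlatOver (KRR.pr n Y) (syz G i).1
  | 0 => ⟨hc, hfl⟩
  | i + 1 => by
    haveI := isLocallyNoetherian_PY n Y
    haveI : Smooth (KRR.pr n Y) := RTrivLib.smooth_toBase n Y
    obtain ⟨h3, f3⟩ := syz_flat G hc hfl i
    have h2 : FlatMod.IsFinLocFree (cover0 (syz G i).1) :=
      KFlatLib.isFinLocFree_pull (KRR.pr n Y) (vb_push_of_flat h3 f3 (syz G i).2.2)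
    have c2 := LocSuppLib.isCoh_of_isFinLocFree h2
    have hS := ses_counit (syz G i)
    have c1 := VBResLib.isCoh_X₁ hS c2 h3
    have f1 := (Groth.Agent.S4654.result (KRR.pr n Y) _ hS c1.1 c2.1 h3.1 f3).1
      (isFlatOver_of_vb (KRR.pr n Y) h2)
    have hL := PicPnLib.twistOver_inv n Y 1
    let e : CohB1.tensorMod (kernel ((Scheme.Modules.pullbackPushforwardAdjunction (KRR.pr n Y)).counit.app (syz G i).1))
        (Twist.twistOver n Y 1) ≅ (syz G (i + 1)).1 := HilbPolyLib.swapIso _ _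
    exact ⟨QCohLib.isCoh_of_iso e (SerreVanLib.isCoh_tensor c1 hL),
      fun x => (RichLib.ModFlat.isFlatOverAt_iso _ e x).1 (PnCohLib.isFlatOver_tensor _ f1 hL x)⟩

theorem QP_twist_pullback {E : Y.Modules} (hE : FlatMod.IsFinLocFree E) (i : ℕ) (hi : i ≤ n) :
    QP n Y (KRR.twF n Y (-(i : ℤ)) ((Scheme.Modules.pullback (KRR.pr n Y)).obj E)) := by
  haveI := isLocallyNoetherian_PY n Y
  haveI : Coh.IsQCoh E := FinLFAnn.isQCoh_of_isFinLocFree hE
  refine ⟨vb_twF (KFlatLib.isFinLocFree_pull _ hE) _, fun d q hq => (V_twF_iff q _ _ _).2 ?_⟩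
  exact V_pullback E q _ fun A _ k hk => PnCohLib.subsingleton_HH_twist _ k (fun h => by omega) (fun h => by omega)

/-- Flat regular coherent modules have finite resolutions by bundles with the expected Euler class. -/
theorem exists_lfRes_of_flat (F : (KRR.PY n Y).Modules) (hc : Coh.IsCoh F)
    (hfl : FlatMod.IsFlatOver (KRR.pr n Y) F) (hreg : KRR.IsRegSheaf n Y F) :
    ∃ (L : ChainComplex (KRR.PY n Y).Modules ℕ) (π : L ⟶ (ChainComplex.single₀ (KRR.PY n Y).Modules).obj F),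
      KRR.IsLFRes F n L π ∧ ∀ {M : Type w} [AddCommGroup M] (a : SGA6.Kvb (KRR.PY n Y) →+ M) (t : SGA6.Kvb Y →+ M),
        (∀ G, RP n Y G → a (KRR.cl (KRR.PY n Y) G) = t (KRR.cl Y ((Scheme.Modules.pushforward (KRR.pr n Y)).obj G))) →
        ∑ k ∈ Finset.range (n + 1), (-1 : ℤ) ^ k • a (KRR.cl (KRR.PY n Y) (L.X k)) =
          t (KRR.cl Y ((Scheme.Modules.pushforward (KRR.pr n Y)).obj F)) := by
  haveI := isLocallyNoetherian_PY n Y
  obtain ⟨L, π, hL, hz, hq⟩ := exists_resolution_syz F hc.1 hreg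
  let G : ℕ → QR n Y := syz ⟨F, hc.1, hreg⟩
  have hT : ∀ i, FlatMod.IsFinLocFree ((Scheme.Modules.pushforward (KRR.pr n Y)).obj (G i).1) := fun i =>
    vb_push_of_flat (syz_flat ⟨F, hc.1, hreg⟩ hc hfl i).1 (syz_flat ⟨F, hc.1, hreg⟩ hc hfl i).2 (G i).2.2
  refine ⟨L, π, ⟨fun i => vb_iso (hL i).some.symm (vb_twF (KFlatLib.isFinLocFree_pull _ (hT i)) _), hz, hq⟩,
    fun {M} _ a t ha => ?_⟩
  have hk : ∀ k, k ≤ n → a (KRR.cl (KRR.PY n Y) (L.X k)) = t (KRR.cl Y ((Scheme.Modules.pushforward (KRR.pr n Y)).obj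
      (KRR.twF n Y (-(k : ℤ)) (cover0 (G k).1)))) := fun k hk => by
    rw [show KRR.cl (KRR.PY n Y) (L.X k) = _ from clSub_congr (KRR.vbP _) (hL k).some]
    exact eq_of_QP a t ha _ (QP_twist_pullback (hT k) k hk)
  have h0 : ∀ k, 1 ≤ k → k ≤ n → a (KRR.cl (KRR.PY n Y) (L.X k)) = 0 := fun k h1 hkn => by
    haveI : Coh.IsQCoh ((Scheme.Modules.pushforward (KRR.pr n Y)).obj (G k).1) := FinLFAnn.isQCoh_of_isFinLocFree (hT k)
    rw [hk k hkn]
    refine (congrArg t ?_).trans (map_zero t)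
    refine clSub_eq_zero (KRR.vbP Y) (vb_push_QP (QP_twist_pullback (hT k) k hkn)) ?_
    refine isZero_push_of_V_zero ((V_twF_iff 0 _ _ _).2 ?_)
    exact V_pullback _ 0 _ fun A _ q hq => PnCohLib.subsingleton_HH_twist _ q (fun h => by omega) (fun h => by omega)
  rw [Finset.sum_eq_single 0 (fun k hk' hne => by
      rw [h0 k (Nat.pos_of_ne_zero hne) (by have := Finset.mem_range.1 hk'; omega), smul_zero])
    (fun h => absurd (Finset.mem_range.2 (Nat.succ_pos n)) h)]
  rw [pow_zero, one_smul, hk 0 (Nat.zero_le n)]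
  haveI : Coh.IsQCoh ((Scheme.Modules.pushforward (KRR.pr n Y)).obj (G 0).1) := FinLFAnn.isQCoh_of_isFinLocFree (hT 0)
  have hI := isIso_unit (n := n) ((Scheme.Modules.pushforward (KRR.pr n Y)).obj (G 0).1)
  refine congrArg t (clSub_congr (KRR.vbP Y) ?_).symm
  exact @asIso _ _ _ _ _ hI ≪≫
    (Scheme.Modules.pushforward (KRR.pr n Y)).mapIso ((nonempty_twF_zero (cover0 (G 0).1)).some.symm ≪≫
      eqToIso (congrArg (fun d => KRR.twF n Y d (cover0 (G 0).1)) (by simp)))

end KRRRegLib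

end
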