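import Mathlib.RingTheory.PowerSeries.Derivative
import Mathlib.RingTheory.PowerSeries.Inverse
import Mathlib.RingTheory.PowerSeries.Trunc
import Mathlib.RingTheory.PowerSeries.WellKnown
import Mathlib.RingTheory.Polynomial.Basic

/-!
# The residue identity behind Adams Riemann–Roch for projective space
-/

set_option autoImplicit false
set_option linter.all false

open PowerSeries Finset

noncomputable section

namespace KRRRegLib

universe v w

variable {R : Type v} [CommRing R]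

/-- `θ(t) = 1 + (1-t) + ⋯ + (1-t)^(j-1)`. -/
def thetaSer (R : Type v) [CommRing R] (j : ℕ) : R⟦X⟧ := ∑ k ∈ range j, (1 - X) ^ k

theorem constantCoeff_thetaSer (j : ℕ) : constantCoeff (thetaSer R j) = (j : R) := by
  simp [thetaSer]

theorem X_mul_thetaSer (j : ℕ) : (X : R⟦X⟧) * thetaSer R j = 1 - (1 - X) ^ j := by
  rw [thetaSer]
  nth_rw 1 [show (X : R⟦X⟧) = 1 - (1 - X) by ring]
  exact mul_neg_geom_sum _ _

theorem derivative_phi (j : ℕ) :
    d⁄dX R ((X : R⟦X⟧) * thetaSer R j) = (j : R⟦X⟧) * (1 - X) ^ (j - 1) := by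
  rw [X_mul_thetaSer, map_sub, Derivation.leibniz_pow, map_sub, Derivation.map_one_eq_zero, derivative_X]
  simp

variable [IsDomain R] [CharZero R] {j : ℕ} {ti : R⟦X⟧}

theorem coeff_residue (hti : thetaSer R j * ti = 1) {i n : ℕ} (hi : i ≤ n) :
    coeff n (d⁄dX R ((X : R⟦X⟧) * thetaSer R j) * ((X : R⟦X⟧) * thetaSer R j) ^ i * ti ^ (n + 1)) =
      if i = n then 1 else 0 := by
  obtain ⟨d, rfl⟩ := Nat.exists_eq_add_of_le hi
  set θ := thetaSer R j with hθ
  have hpow : θ ^ i * ti ^ (i + d + 1) = ti ^ (d + 1) := by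
    rw [show i + d + 1 = i + (d + 1) by omega, pow_add, ← mul_assoc, ← mul_pow, hti, one_pow, one_mul]
  have e : d⁄dX R (X * θ) * (X * θ) ^ i * ti ^ (i + d + 1) =
      X ^ i * (ti ^ d + X * (d⁄dX R θ * ti ^ (d + 1))) := by
    rw [Derivation.leibniz, derivative_X, smul_eq_mul, smul_eq_mul, mul_one, mul_pow,
      show (X * d⁄dX R θ + θ) * (X ^ i * θ ^ i) * ti ^ (i + d + 1) =
        X ^ i * ((θ + X * d⁄dX R θ) * (θ ^ i * ti ^ (i + d + 1))) by ring, hpow, add_mul,
      show θ * ti ^ (d + 1) = ti ^ d by rw [pow_succ', ← mul_assoc, hti, one_mul]]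
    ring
  rw [e, coeff_X_pow_mul', if_pos (by omega), Nat.add_sub_cancel_left, map_add]
  rcases d with _ | c
  · simp [coeff_zero_eq_constantCoeff]
  · rw [if_neg (by omega), coeff_succ_X_mul]
    have hD : d⁄dX R ti = - (ti * ti * d⁄dX R θ) := by
      have h := congrArg (d⁄dX R) hti
      rw [Derivation.leibniz, Derivation.map_one_eq_zero, smul_eq_mul, smul_eq_mul] at h
      linear_combination ti * h - (d⁄dX R ti) * hti
    have h := coeff_derivative (ti ^ (c + 1)) c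
    rw [Derivation.leibniz_pow, Nat.add_sub_cancel, hD, map_nsmul, nsmul_eq_mul, smul_eq_mul,
      show ti ^ c * -(ti * ti * d⁄dX R θ) = -(d⁄dX R θ * ti ^ (c + 1 + 1)) by ring, map_neg] at h
    push_cast at h
    have h2 : ((c : R) + 1) * (coeff (c + 1) (ti ^ (c + 1)) + coeff c (d⁄dX R θ * ti ^ (c + 1 + 1))) = 0 := by
      linear_combination -h
    exact (mul_eq_zero.1 h2).resolve_left (Nat.cast_add_one_ne_zero c)

/-- The residue identity. -/
theorem coeff_adams_residue (hj : 1 ≤ j) (hti : thetaSer R j * ti = 1) {k n : ℕ} (hk : k ≤ n) :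
    coeff n ((j : R⟦X⟧) * (1 - X) ^ (j * k) * ti ^ (n + 1) * PowerSeries.mk 1) =
      if k = 0 then 1 else 0 := by
  have hU : (PowerSeries.mk 1 : R⟦X⟧) * (1 - X) = 1 := mk_one_mul_one_sub_eq_one R
  set U : R⟦X⟧ := PowerSeries.mk 1
  set φ : R⟦X⟧ := X * thetaSer R j with hφ
  obtain ⟨j', rfl⟩ : ∃ j', j = j' + 1 := ⟨j - 1, by omega⟩
  have hφ' : d⁄dX R φ = ((j' + 1 : ℕ) : R⟦X⟧) * (1 - X) ^ j' := by
    rw [hφ, derivative_phi]; rfl
  have hφ1 : (1 - X : R⟦X⟧) ^ (j' + 1) = 1 - φ := by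
    rw [hφ, X_mul_thetaSer]; ring
  rcases k with _ | k
  · rw [if_pos rfl, Nat.mul_zero, pow_zero, mul_one]
    have hV : U ^ (j' + 1) * (1 - φ) = 1 := by rw [← hφ1, ← mul_pow, hU, one_pow]
    have hg : (1 - φ) * ∑ i ∈ range (n + 1), φ ^ i = 1 - φ ^ (n + 1) := mul_neg_geom_sum _ _
    have e : ((j' + 1 : ℕ) : R⟦X⟧) * ti ^ (n + 1) * U =
        (∑ i ∈ range (n + 1), d⁄dX R φ * φ ^ i * ti ^ (n + 1)) +
          X ^ (n + 1) * (thetaSer R (j' + 1) ^ (n + 1) * (d⁄dX R φ * U ^ (j' + 1) * ti ^ (n + 1))) := by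
      rw [← mul_assoc (X ^ (n + 1)), ← mul_pow, ← hφ, ← Finset.sum_mul, ← Finset.mul_sum]
      have h1 : U ^ (j' + 1) = (∑ i ∈ range (n + 1), φ ^ i) + U ^ (j' + 1) * φ ^ (n + 1) := by
        linear_combination (∑ i ∈ range (n + 1), φ ^ i) * hV - (U ^ (j' + 1)) * hg
      have h2 : d⁄dX R φ * U ^ (j' + 1) = ((j' + 1 : ℕ) : R⟦X⟧) * U := by
        rw [hφ', pow_succ, mul_assoc, ← mul_assoc ((1 - X) ^ j'), ← mul_pow, mul_comm (1 - X) U, hU,
          one_pow, one_mul]
      linear_combination (d⁄dX R φ * ti ^ (n + 1)) * h1 - ti ^ (n + 1) * h2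
    rw [e, map_add, coeff_X_pow_mul', if_neg (by omega), add_zero, map_sum]
    rw [Finset.sum_congr rfl fun i hi => coeff_residue hti (Nat.lt_succ_iff.1 (Finset.mem_range.1 hi))]
    simp
  · rw [if_neg (Nat.succ_ne_zero k)]
    have e : ((j' + 1 : ℕ) : R⟦X⟧) * (1 - X) ^ ((j' + 1) * (k + 1)) * ti ^ (n + 1) * U =
        ∑ i ∈ range (k + 1), C ((-1 : R) ^ i * (k.choose i : R)) * (d⁄dX R φ * φ ^ i * ti ^ (n + 1)) := by
      have h1 : (1 - X : R⟦X⟧) ^ ((j' + 1) * (k + 1)) * U = (1 - X) ^ j' * (1 - φ) ^ k := by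
        rw [← hφ1, ← pow_mul, show (j' + 1) * (k + 1) = j' + (j' + 1) * k + 1 by ring, pow_succ, mul_assoc,
          mul_comm (1 - X) U, hU, mul_one, pow_add]
      calc _ = ((j' + 1 : ℕ) : R⟦X⟧) * ((1 - X) ^ ((j' + 1) * (k + 1)) * U) * ti ^ (n + 1) := by ring
        _ = d⁄dX R φ * (-φ + 1) ^ k * ti ^ (n + 1) := by rw [h1, hφ']; ring
        _ = _ := by
          rw [add_pow, Finset.mul_sum, Finset.sum_mul]
          refine Finset.sum_congr rfl fun i _ => ?_
          rw [one_pow, show C ((-1 : R) ^ i * (k.choose i : R)) = ((-1) ^ i * (k.choose i : R⟦X⟧)) by simp, neg_pow]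
          ring
    rw [e, map_sum]
    refine Finset.sum_eq_zero fun i hi => ?_
    have : i < n := by have := Finset.mem_range.1 hi; omega
    rw [coeff_C_mul, coeff_residue hti this.le, if_neg this.ne, mul_zero]

section Eval

variable {T : Type w} [CommRing T] [Algebra R T]

omit [IsDomain R] [CharZero R] in
theorem aeval_eq_of_coeff_eq {v : T} {m : ℕ} (hv : v ^ m = 0) {p q : Polynomial R}
    (h : ∀ i < m, p.coeff i = q.coeff i) : Polynomial.aeval v p = Polynomial.aeval v q := by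
  obtain ⟨r, hr⟩ : Polynomial.X ^ m ∣ p - q :=
    Polynomial.X_pow_dvd_iff.2 fun i hi => by rw [Polynomial.coeff_sub, h i hi, sub_self]
  rw [← sub_eq_zero, ← map_sub, hr, map_mul, map_pow, Polynomial.aeval_X, hv, zero_mul]

omit [IsDomain R] [CharZero R] in
theorem aeval_trunc_mul {v : T} {m : ℕ} (hv : v ^ m = 0) (P Q : R⟦X⟧) :
    Polynomial.aeval v (trunc m (P * Q)) = Polynomial.aeval v (trunc m P) * Polynomial.aeval v (trunc m Q) := by
  rw [← map_mul]
  refine aeval_eq_of_coeff_eq hv fun i hi => ?_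
  rw [← trunc_trunc_mul_trunc, coeff_trunc, if_pos hi, ← Polynomial.coe_mul, Polynomial.coeff_coe]

/-- Evaluation of a power series at a nilpotent element. -/
def evalNil (v : T) (m : ℕ) (hv : v ^ m = 0) (hm : 1 ≤ m) : R⟦X⟧ →+* T where
  toFun P := Polynomial.aeval v (trunc m P)
  map_one' := by
    obtain ⟨c, rfl⟩ : ∃ c, m = c + 1 := ⟨m - 1, by omega⟩
    rw [trunc_one, map_one]
  map_mul' := aeval_trunc_mul hv
  map_zero' := by simp
  map_add' P Q := by simp

end Eval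

end KRRRegLib
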