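import Groth.Agent.KRRRegLib.Resolution
import Groth.Agent.KRRRegLib.PullLow
import Groth.Agent.KRRRegLib.Push
import Groth.Agent.VBResLib.KFunct
import Groth.Agent.VBResLib.Hyp
import Groth.Agent.VBResLib.KPull
import Groth.Agent.KFlatLib.PullTensor

/-!
# Base change of regular bundles
-/

set_option autoImplicit false
set_option linter.all false
set_option maxHeartbeats 1000000

universe u

open CategoryTheory CategoryTheory.Limits AlgebraicGeometry TopologicalSpace

noncomputable section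

namespace KRRRegLib

open Groth.Agent

variable {n : ℕ}

theorem isRegSheaf_of_iso {T : Scheme.{u}} {G G' : (KRR.PY n T).Modules} (h : KRR.IsRegSheaf n T G) (e : G' ≅ G) :
    KRR.IsRegSheaf n T G' := fun i hi => V.of_iso (h i hi) e

theorem isRegSheaf_of_isZero {T : Scheme.{u}} {G : (KRR.PY n T).Modules} (h : IsZero G) :
    KRR.IsRegSheaf n T G := fun i _ => V.of_isZero i _ h

theorem vb_twF {T : Scheme.{u}} [IsLocallyNoetherian (KRR.PY n T)] {F : (KRR.PY n T).Modules}
    (hF : FlatMod.IsFinLocFree F) (d : ℤ) : FlatMod.IsFinLocFree (KRR.twF n T d F) :=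
  VBResLib.vb_tensor F (AmpleDevLib.isFinLocFree_of_isInvertible (PicPnLib.twistOver_inv n T d)) hF

theorem isLocallyNoetherian_PY (n : ℕ) (Y : Scheme.{u}) [IsNoetherian Y] : IsLocallyNoetherian (KRR.PY n Y) := by
  haveI : IsProper (KRR.pr n Y) := ChowLib.isProper_toBase n Y
  exact LocallyOfFiniteType.isLocallyNoetherian (KRR.pr n Y)

variable {Y Y₁ : Scheme.{u}}

theorem vb_cover0 [IsNoetherian Y] {G : (KRR.PY n Y).Modules} (hG : FlatMod.IsFinLocFree G)
    (hreg : KRR.IsRegSheaf n Y G) : FlatMod.IsFinLocFree (cover0 G) :=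
  KFlatLib.isFinLocFree_pull (KRR.pr n Y) (isFinLocFree_push_of_isRegSheaf hG hreg)

theorem vb_syz [IsNoetherian Y] (G : QR n Y) (hG : FlatMod.IsFinLocFree G.1) :
    ∀ i, FlatMod.IsFinLocFree (syz G i).1
  | 0 => hG
  | i + 1 => by
    haveI := isLocallyNoetherian_PY n Y
    have h3 := vb_syz G hG i
    have h2 := vb_cover0 h3 (syz G i).2.2
    have hS := ses_counit (syz G i)
    have hc := VBResLib.isCoh_X₁ hS (LocSuppLib.isCoh_of_isFinLocFree h2) (LocSuppLib.isCoh_of_isFinLocFree h3)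
    refine vb_twF (VBResLib.vb_of_pd_zero hc fun x => ?_) 1
    exact VBResLib.PdAt.ker hS (d := 0) (VBResLib.pdAt_of_vb h2 x 0) (VBResLib.pdAt_of_vb h3 x 0)

variable (n) in
/-- Twists commute with base change. -/
theorem nonempty_pull_twF (φ : Y₁ ⟶ Y) (d : ℤ) (G : (KRR.PY n Y).Modules) :
    Nonempty ((Scheme.Modules.pullback (KRR.projSpaceMap n φ)).obj (KRR.twF n Y d G) ≅
      KRR.twF n Y₁ d ((Scheme.Modules.pullback (KRR.projSpaceMap n φ)).obj G)) := by
  let ψ := KRR.projSpaceMap n φ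
  have h : ψ ≫ pullback.fst (CohB1.ProjSpace.toSpec n (ULift.{u} ℤ)) (specULiftZIsTerminal.from Y) =
      pullback.fst (CohB1.ProjSpace.toSpec n (ULift.{u} ℤ)) (specULiftZIsTerminal.from Y₁) :=
    (pullback.lift_fst _ _ _).trans (Category.comp_id _)
  let e : (Scheme.Modules.pullback ψ).obj (Twist.twistOver n Y d) ≅ Twist.twistOver n Y₁ d :=
    (Scheme.Modules.pullbackComp ψ _).app _ ≪≫ (Scheme.Modules.pullbackCongr h).app _
  exact ⟨@asIso _ _ _ _ (KFlatLib.pullθ ψ (Twist.twistOver n Y d) G) (KFlatLib.isIso_pullθ _ _ _) ≪≫ HilbPolyLib.congrLeft e _⟩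

variable (φ : Y₁ ⟶ Y) (hsq : KRR.projSpaceMap n φ ≫ KRR.pr n Y = KRR.pr n Y₁ ≫ φ)

/-- The pullback of the cover. -/
def covIso (G : (KRR.PY n Y).Modules) :
    (Scheme.Modules.pullback (KRR.pr n Y₁)).obj
      ((Scheme.Modules.pullback φ).obj ((Scheme.Modules.pushforward (KRR.pr n Y)).obj G)) ≅
    (Scheme.Modules.pullback (KRR.projSpaceMap n φ)).obj (cover0 G) :=
  (Scheme.Modules.pullbackComp (KRR.pr n Y₁) φ).app _ ≪≫ (Scheme.Modules.pullbackCongr hsq.symm).app _ ≪≫
    ((Scheme.Modules.pullbackComp (KRR.projSpaceMap n φ) (KRR.pr n Y)).app _).symm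

include hsq in
theorem pull_cover_facts (G : (KRR.PY n Y).Modules) (hG : Coh.IsQCoh G) :
    KRR.IsRegSheaf n Y₁ ((Scheme.Modules.pullback (KRR.projSpaceMap n φ)).obj (cover0 G)) ∧
      ∀ s : ℕ, s + 1 ≤ n → V s (-1 - (s : ℤ))
        ((Scheme.Modules.pullback (KRR.projSpaceMap n φ)).obj (cover0 G)) := by
  haveI := hG
  haveI : IsProper (KRR.pr n Y) := ChowLib.isProper_toBase n Y
  haveI := QCohLib.isQCoh_pushforward (KRR.pr n Y) G
  haveI := KFlatLib.isQCoh_pullback φ ((Scheme.Modules.pushforward (KRR.pr n Y)).obj G)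
  exact ⟨isRegSheaf_of_iso (isRegSheaf_pullback _) (covIso φ hsq G).symm,
    fun s hs => (V_pullback_low _ s hs).of_iso (covIso φ hsq G).symm⟩

section Syz

variable [IsNoetherian Y] (G : QR n Y) (hG : FlatMod.IsFinLocFree G.1)

/-- The pulled back sequence. -/
abbrev pS (j : ℕ) : ShortComplex (KRR.PY n Y₁).Modules :=
  (ShortComplex.mk (kernel.ι ((Scheme.Modules.pullbackPushforwardAdjunction (KRR.pr n Y)).counit.app (syz G j).1))
    ((Scheme.Modules.pullbackPushforwardAdjunction (KRR.pr n Y)).counit.app (syz G j).1)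
    (kernel.condition _)).map (Scheme.Modules.pullback (KRR.projSpaceMap n φ))

include hG in
theorem shortExact_pS (j : ℕ) : (pS φ G j).ShortExact :=
  VBResLib.shortExact_pullback_of_vb _ (ses_counit (syz G j)) (vb_syz G hG j)

theorem isRegSheaf_X3' {T : Scheme.{u}} {A B C : (KRR.PY n T).Modules} {a : A ⟶ B} {b : B ⟶ C} {w : a ≫ b = 0}
    (h : (ShortComplex.mk a b w).ShortExact) (hB : KRR.IsRegSheaf n T B)
    (hA : KRR.IsRegSheaf n T (KRR.twF n T 1 A)) : KRR.IsRegSheaf n T C :=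
  @isRegSheaf_X3 n T (ShortComplex.mk a b w) h hB hA

include hG hsq in
theorem isRegSheaf_pull_syz : ∀ t j : ℕ, n + 1 ≤ j + t →
    KRR.IsRegSheaf n Y₁ ((Scheme.Modules.pullback (KRR.projSpaceMap n φ)).obj (syz G j).1) := by
  intro t
  induction t with
  | zero =>
    intro j h
    exact isRegSheaf_of_isZero ((Scheme.Modules.pullback _).map_isZero (isZero_syz G (N := j) (by omega)))
  | succ t IH =>
    intro j h
    have ih := IH (j + 1) (by omega)
    obtain ⟨e⟩ := nonempty_pull_twF n φ 1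
      (kernel ((Scheme.Modules.pullbackPushforwardAdjunction (KRR.pr n Y)).counit.app (syz G j).1))
    have hA := isRegSheaf_of_iso ih e.symm
    have hB := (pull_cover_facts φ hsq _ (syz G j).2.1).1
    exact isRegSheaf_X3' (shortExact_pS φ G hG j) hB hA

include hG hsq in
theorem V_pull_syz : ∀ t j s : ℕ, n + 1 ≤ j + t → s + 1 ≤ j →
    V s (-1 - (s : ℤ)) ((Scheme.Modules.pullback (KRR.projSpaceMap n φ)).obj (syz G j).1) := by
  intro t
  induction t with
  | zero =>
    intro j s h _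
    exact V.of_isZero _ _ ((Scheme.Modules.pullback _).map_isZero (isZero_syz G (N := j) (by omega)))
  | succ t IH =>
    intro j s h hs
    rcases Nat.lt_or_ge n j with hj | hj
    · exact V.of_isZero _ _ ((Scheme.Modules.pullback _).map_isZero (isZero_syz G hj))
    have ih := IH (j + 1) (s + 1) (by omega) (by omega)
    refine RDerLib.isZero_X₃ (F := Coh.pushAb (KRR.pr n Y₁))
      (shortExact_ab n Y₁ (-1 - (s : ℤ)) (shortExact_pS φ G hG j)) s ?_
      ((pull_cover_facts φ hsq _ (syz G j).2.1).2 s (by omega))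
    obtain ⟨e⟩ := nonempty_pull_twF n φ 1
      (kernel ((Scheme.Modules.pullbackPushforwardAdjunction (KRR.pr n Y)).counit.app (syz G j).1))
    exact ((V_twF_iff (s + 1) _ 1 _).1 (ih.of_iso e.symm)).congr (by push_cast; ring)

end Syz

theorem isIso_push_g {T : Scheme.{u}} {S : ShortComplex (KRR.PY n T).Modules} (hS : S.ShortExact)
    (h0 : V 0 0 S.X₁) (h1 : V 1 0 S.X₁) :
    IsIso ((Scheme.Modules.pushforward (KRR.pr n T)).map S.g) := by
  let P := Scheme.Modules.pushforward (KRR.pr n T)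
  haveI hm : Mono (P.map S.g) := by
    haveI : PreservesFiniteLimits P := by
      haveI : P.IsRightAdjoint := (Scheme.Modules.pullbackPushforwardAdjunction (KRR.pr n T)).isRightAdjoint
      infer_instance
    obtain ⟨hex, -⟩ := ((Functor.preservesFiniteLimits_tfae P).out 3 0 : PreservesFiniteLimits P ↔
      ∀ S : ShortComplex (KRR.PY n T).Modules, S.ShortExact → (S.map P).Exact ∧ Mono (P.map S.f)).1 ‹_› S hS
    exact hex.mono_g ((isZero_push_of_V_zero h0).eq_of_src _ _)
  haveI he : Epi (P.map S.g) := by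
    have hse := hS.map_of_exact (QCohLib.toAbF (KRR.PY n T))
    obtain ⟨e⟩ := nonempty_twF_zero S.X₁
    have hz : IsZero (((Coh.pushAb (KRR.pr n T)).rightDerived 1).obj ((QCohLib.toAbF (KRR.PY n T)).obj S.X₁)) :=
      IsZero.of_iso h1 (((Coh.pushAb (KRR.pr n T)).rightDerived 1).mapIso
        ((QCohLib.toAbF (KRR.PY n T)).mapIso e)).symm
    haveI : Epi ((QCohLib.toAbF T).map (P.map S.g)) :=
      (RDerLib.epi_map_g_iff (F := Coh.pushAb (KRR.pr n T)) _).1 (RDerLib.epi_map_g hse 0 hz)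
    exact (QCohLib.toAbF T).epi_of_epi_map this
  exact isIso_of_mono_of_epi _

/-- Base change for regular bundles. -/
theorem baseChange_regular [IsNoetherian Y] (F : (KRR.PY n Y).Modules) (hF : FlatMod.IsFinLocFree F)
    (hreg : KRR.IsRegSheaf n Y F) :
    KRR.IsRegSheaf n Y₁ ((Scheme.Modules.pullback (KRR.projSpaceMap n φ)).obj F) ∧
      IsIso (KRR.bcMap n φ hsq F) := by
  haveI : Coh.IsQCoh F := FinLFAnn.isQCoh_of_isFinLocFree hF
  haveI : IsProper (KRR.pr n Y) := ChowLib.isProper_toBase n Y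
  let G : QR n Y := ⟨F, inferInstance, hreg⟩
  refine ⟨isRegSheaf_pull_syz φ hsq G hF (n + 1) 0 (by omega), ?_⟩
  haveI := QCohLib.isQCoh_pushforward (KRR.pr n Y) F
  haveI := KFlatLib.isQCoh_pullback φ ((Scheme.Modules.pushforward (KRR.pr n Y)).obj F)
  have hS := shortExact_pS φ G hF 0
  obtain ⟨e⟩ := nonempty_pull_twF n φ 1
    (kernel ((Scheme.Modules.pullbackPushforwardAdjunction (KRR.pr n Y)).counit.app F))
  have h0 : V 0 0 (pS φ G 0).X₁ := by
    have h := V_pull_syz φ hsq G hF n 1 0 (by omega) le_rfl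
    exact ((V_twF_iff 0 _ 1 _).1 (h.of_iso e.symm)).congr (by simp)
  have h1 : V 1 0 (pS φ G 0).X₁ := by
    have h : V 1 (-((1 : ℕ) : ℤ)) _ := isRegSheaf_pull_syz φ hsq G hF n 1 (by omega) 1 le_rfl
    exact ((V_twF_iff 1 _ 1 _).1 (h.of_iso e.symm)).congr (by simp)
  have hi := isIso_push_g hS h0 h1
  haveI : IsIso ((Scheme.Modules.pushforward (KRR.pr n Y₁)).map
      ((Scheme.Modules.pullback (KRR.projSpaceMap n φ)).map
        ((Scheme.Modules.pullbackPushforwardAdjunction (KRR.pr n Y)).counit.app F))) := hi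
  haveI := isIso_unit (n := n) ((Scheme.Modules.pullback φ).obj ((Scheme.Modules.pushforward (KRR.pr n Y)).obj F))
  rw [KRR.bcMap, Adjunction.homEquiv_unit]
  simp only [Functor.map_comp]
  infer_instance

end KRRRegLib

end
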