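import Groth.Agent.KGrLib.Sigma
import Groth.Agent.LambdaSpL.PosFil
import Mathlib.RingTheory.OrzechProperty
import Mathlib.LinearAlgebra.TensorProduct.Basic
import Mathlib.RingTheory.TensorProduct.Maps

/-!
# Ingredients of Adams Riemann–Roch for elementary extensions
-/

set_option autoImplicit false
set_option linter.all false
set_option maxHeartbeats 1000000

universe v w

open LambdaRing LambdaSpLib Finset
open scoped TensorProduct

noncomputable section

namespace KRRRegLib

section Multiset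

variable {B : Type v} [CommRing B] {C : Type v} [CommRing C]

theorem esymm_map_hom (φ : B →+* C) (s : Multiset B) : ∀ n, (s.map φ).esymm n = φ (s.esymm n) := by
  induction s using Multiset.induction_on with
  | empty =>
    intro n
    cases n with
    | zero => simp [esymm_zero']
    | succ m => simp [esymm_eq_zero_of_card_lt]
  | cons a s ih =>
    intro n
    cases n with
    | zero => simp [esymm_zero']
    | succ m => rw [Multiset.map_cons, esymm_cons_succ, esymm_cons_succ, ih, ih, map_add, map_mul]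

theorem esymm_map_smul (c : B) (s : Multiset B) : ∀ n, (s.map fun u => c * u).esymm n = c ^ n * s.esymm n := by
  induction s using Multiset.induction_on with
  | empty =>
    intro n
    cases n with
    | zero => simp [esymm_zero']
    | succ m => simp [esymm_eq_zero_of_card_lt]
  | cons a s ih =>
    intro n
    cases n with
    | zero => simp [esymm_zero']
    | succ m =>
      rw [Multiset.map_cons, esymm_cons_succ, esymm_cons_succ, ih, ih]
      ring

/-- The universal Bott polynomial at the elementary symmetric functions of a multiset. -/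
theorem aeval_bottPoly [Algebra ℤ B] (s : Multiset B) (m : ℕ) (hm : s.card = m) (j : ℕ) :
    MvPolynomial.aeval (fun i : Fin m => s.esymm (i.1 + 1)) (KRR.bottPoly j m) =
      (s.map fun u => ∑ k ∈ range j, u ^ k).prod := by
  obtain ⟨u, rfl⟩ : ∃ u : Fin m → B, s = Finset.univ.val.map u := by
    have hl : s.toList.length = m := by rw [Multiset.length_toList, hm]
    refine ⟨fun i => s.toList.get (i.cast hl.symm), ?_⟩
    rw [Fin.univ_val_map]
    conv_lhs => rw [← s.coe_toList]
    congr 1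
    exact List.ext_getElem (by simp [hl]) (fun i h1 h2 => by simp)
  have hb : MvPolynomial.aeval (fun i : Fin m =>
      MvPolynomial.esymm (Fin m) ℤ (i.1 + 1)) (KRR.bottPoly j m) = KRR.bottSym j m := by
    rw [← MvPolynomial.esymmAlgHom_apply]
    exact congrArg Subtype.val ((MvPolynomial.esymmAlgEquiv (Fin m) ℤ
      (Fintype.card_fin _)).apply_symm_apply ⟨_, KRR.bottSym_isSymmetric j _⟩)
  have h5 := congrArg (MvPolynomial.aeval u) hb
  rw [← AlgHom.comp_apply, MvPolynomial.comp_aeval] at h5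
  convert h5 using 1
  · congr 1
    congr 1
    funext i
    rw [← MvPolynomial.aeval_esymm_eq_multiset_esymm (Fin m) ℤ]
  · rw [KRR.bottSym, map_prod, Multiset.map_map, ← Finset.prod_eq_multiset_prod]
    exact prod_congr rfl fun i _ => by simp

theorem map_aeval_int [Algebra ℤ B] [Algebra ℤ C] (φ : B →+* C) {σ : Type} (x : σ → B) (p : MvPolynomial σ ℤ) :
    φ (MvPolynomial.aeval x p) = MvPolynomial.aeval (fun i => φ (x i)) p := by
  rw [MvPolynomial.aeval_def, MvPolynomial.aeval_def, MvPolynomial.eval₂_comp_left φ,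
    RingHom.ext_int (φ.comp (algebraMap ℤ B)) (algebraMap ℤ C)]
  rfl

end Multiset

section Delta

variable {A : Type v} [CommRing A] [LambdaOps A] {P : PosStructure A}

/-- The multiplier `θ^j` in a variable. -/
def thetaPoly (c : A) (j r : ℕ) : Polynomial A :=
  MvPolynomial.aeval (fun i : Fin r => Polynomial.X ^ (i.1 + 1) * Polynomial.C (LambdaOps.lam (i.1 + 1) c))
    (KRR.bottPoly j r)

variable {L : PosLambdaRing.{v}} {g : A →+* L.carrier} (hg : IsExtension P L.posStr g)
  {s : Multiset L.carrier} (hs : ∀ u ∈ s, L.posStr.IsLine u) {c : A} (hc : s.sum = g c)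

include hg hs hc

theorem lam_split (i : ℕ) : g (LambdaOps.lam i c) = s.esymm i := by
  rw [hg.isLambdaHom, ← hc, lam_sum_lines fun u hu => line_lam (hs u hu)]

theorem adams_lam_split (hL : HasSplitting L.carrier L.posStr) (j i : ℕ) :
    g (adams P j (LambdaOps.lam i c)) = (s.map fun u => u ^ j).esymm i := by
  rw [adams_map hg, lam_split hg hs hc, ← adamsRingHom_apply L.posStr hL, ← esymm_map_hom]
  have e : s.map (adamsRingHom L.posStr hL j) = s.map fun u => u ^ j :=
    Multiset.map_congr rfl fun u hu => by rw [adamsRingHom_apply, adams_line (hs u hu)]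
  rw [e]

theorem map_thetaPoly (j r : ℕ) (hr : s.card = r) :
    (thetaPoly c j r).map g = (s.map fun u => ∑ k ∈ range j, (Polynomial.X * Polynomial.C u) ^ k).prod := by
  have h : (s.map fun u => Polynomial.X * Polynomial.C u).card = r := by rw [Multiset.card_map, hr]
  rw [thetaPoly, ← Polynomial.coe_mapRingHom, map_aeval_int]
  refine Eq.trans ?_ ((aeval_bottPoly _ r h j).trans (by rw [Multiset.map_map]; rfl))
  congr 1
  congr 1
  funext i
  rw [Polynomial.coe_mapRingHom, Polynomial.map_mul, Polynomial.map_pow, Polynomial.map_X, Polynomial.map_C,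
    lam_split hg hs hc, ← esymm_map_hom Polynomial.C, ← esymm_map_smul, Multiset.map_map]
  rfl

/-- `ψ^j` of the diagonal class in a variable. -/
theorem adams_delta (hL : HasSplitting L.carrier L.posStr) (j r : ℕ) (hr : s.card = r) :
    ∑ a ∈ range (r + 1), Polynomial.C ((-1) ^ a * adams P j (LambdaOps.lam a c)) * Polynomial.X ^ (j * a) =
      (∑ a ∈ range (r + 1), Polynomial.C ((-1) ^ a * LambdaOps.lam a c) * Polynomial.X ^ a) * thetaPoly c j r := by
  apply Polynomial.map_injective g hg.injective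
  rw [Polynomial.map_mul, map_thetaPoly hg hs hc j r hr, Polynomial.map_sum, Polynomial.map_sum]
  have h1 : ∀ (t : Multiset L.carrier) (b : ℕ), t.card = r →
      ∑ a ∈ range (r + 1), (Polynomial.C ((-1) ^ a * t.esymm a) * Polynomial.X ^ (b * a) : Polynomial L.carrier) =
        (t.map fun u => 1 - Polynomial.X ^ b * Polynomial.C u).prod := by
    intro t b ht
    have := sum_alt_esymm (t.map fun u => Polynomial.X ^ b * Polynomial.C u)
    rw [Multiset.card_map, ht, Multiset.map_map] at this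
    refine Eq.trans (sum_congr rfl fun a _ => ?_) this
    rw [show (t.map fun u => Polynomial.X ^ b * Polynomial.C u) =
      (t.map Polynomial.C).map (fun u => Polynomial.X ^ b * u) by rw [Multiset.map_map]; rfl,
      esymm_map_smul, esymm_map_hom, map_mul, map_pow, map_neg, map_one, pow_mul]
    ring
  have hl : ∀ a, g ((-1) ^ a * adams P j (LambdaOps.lam a c)) = (-1) ^ a * (s.map fun u => u ^ j).esymm a :=
    fun a => by rw [map_mul, map_pow, map_neg, map_one, adams_lam_split hg hs hc hL]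
  have hr' : ∀ a, g ((-1) ^ a * LambdaOps.lam a c) = (-1) ^ a * s.esymm a :=
    fun a => by rw [map_mul, map_pow, map_neg, map_one, lam_split hg hs hc]
  simp only [Polynomial.map_mul, Polynomial.map_pow, Polynomial.map_X, Polynomial.map_C, hl, hr']
  rw [h1 _ j (by rw [Multiset.card_map, hr]), show ∑ a ∈ range (r + 1),
      (Polynomial.C ((-1) ^ a * s.esymm a) * Polynomial.X ^ a : Polynomial L.carrier) = _ from
    (sum_congr rfl fun a _ => by rw [one_mul]).trans (h1 s 1 hr), Multiset.map_map, ← Multiset.prod_map_mul]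
  congr 1
  refine Multiset.map_congr rfl fun u _ => ?_
  rw [Function.comp_apply, pow_one, mul_neg_geom_sum, mul_pow, Polynomial.C_pow]

end Delta

section Formula

variable {K : Type v} [CommRing K] {E : Type v} [CommRing E]

/-- The projection formula, reproducing formula and duality make up the elementary projection. -/
theorem arr_formula (q : K →+* E) (f : E →+ K) (hfq : ∀ k y, f (q k * y) = k * f y)
    (r : ℕ) (l li : E) (d : ℕ → E)
    (hrep : ∀ y, y = ∑ a ∈ range (r + 1), d a * q (f (li ^ a * y)))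
    (hdual : ∀ a b, a ≤ r → b ≤ r → f (li ^ b * d a) = if a = b then 1 else 0)
    (hdec : ∀ y, ∃ k y', y = q k + (l - 1) * y') {N : ℕ} (hN : (l - 1) ^ N = 0)
    (ψ : E →+* E) (ψ₀ : K →+* K) (hψq : ∀ k, ψ (q k) = q (ψ₀ k)) (j : ℕ) (hψl : ψ l = l ^ j) (hψli : ψ li = li ^ j)
    (Θ : Polynomial E)
    (hΘ : ∑ a ∈ range (r + 1), Polynomial.C (ψ (d a)) * Polynomial.X ^ (j * a) =
      (∑ a ∈ range (r + 1), Polynomial.C (d a) * Polynomial.X ^ a) * Θ)
    (b : E) (hb : b = (j : E) * Θ.eval li)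
    (R : Type) [CommRing R] (u : Rˣ) (hu : (u : R) = (j : R))
    (w : R ⊗[ℤ] E) (hw : w * ((1 : R) ⊗ₜ[ℤ] b) = 1) (x : E) :
    (1 : R) ⊗ₜ[ℤ] ψ₀ (f x) =
      LinearMap.lTensor R f.toIntLinearMap ((j : R ⊗[ℤ] E) * w * ((1 : R) ⊗ₜ[ℤ] ψ x)) := by
  let ι : E →+* R ⊗[ℤ] E := (Algebra.TensorProduct.includeRight (R := ℤ) (A := R) (B := E)).toRingHom
  let QR : R ⊗[ℤ] K →+* R ⊗[ℤ] E := (Algebra.TensorProduct.map (AlgHom.id ℤ R) q.toIntAlgHom).toRingHom
  let G := LinearMap.lTensor R f.toIntLinearMap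
  have hι : ∀ y : E, ι y = (1 : R) ⊗ₜ[ℤ] y := fun y => rfl
  have hGt : ∀ (c : R) (y : E), G (c ⊗ₜ[ℤ] y) = c ⊗ₜ[ℤ] f y := fun c y => rfl
  have hQR : ∀ (a : R) (k : K), QR (a ⊗ₜ[ℤ] k) = a ⊗ₜ[ℤ] q k := fun a k => rfl
  have hG : ∀ a t, G (QR a * t) = a * G t := by
    intro a t
    induction a using TensorProduct.induction_on with
    | zero => rw [map_zero, zero_mul, map_zero, zero_mul]
    | add a a' ha ha' => rw [map_add, add_mul, map_add, ha, ha', add_mul]
    | tmul a k =>
      induction t using TensorProduct.induction_on with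
      | zero => rw [mul_zero, map_zero, mul_zero]
      | add t t' ht ht' => rw [mul_add, map_add, ht, ht', map_add, mul_add]
      | tmul c y =>
        rw [hQR, Algebra.TensorProduct.tmul_mul_tmul]
        show _ ⊗ₜ[ℤ] f (q k * y) = (a ⊗ₜ[ℤ] k) * (c ⊗ₜ[ℤ] f y)
        rw [Algebra.TensorProduct.tmul_mul_tmul, hfq]
        rfl
  have hrepT : ∀ Y : R ⊗[ℤ] E, Y = ∑ a ∈ range (r + 1), ι (d a) * QR (G (ι (li ^ a) * Y)) := by
    intro Y
    induction Y using TensorProduct.induction_on with
    | zero => simp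
    | add Y Y' hY hY' =>
      simp only [mul_add, map_add, sum_add_distrib]
      rw [← hY, ← hY']
    | tmul c y =>
      conv_lhs => rw [hrep y, TensorProduct.tmul_sum]
      refine sum_congr rfl fun a _ => ?_
      rw [hι, hι, Algebra.TensorProduct.tmul_mul_tmul, one_mul, hGt, hQR, Algebra.TensorProduct.tmul_mul_tmul, one_mul]
  -- the diagonal classes after `ψ` are a free family
  let Z : (Fin (r + 1) → R ⊗[ℤ] K) → R ⊗[ℤ] E := fun α => ∑ a, ι (ψ (d a.1)) * QR (α a)
  let M : (Fin (r + 1) → R ⊗[ℤ] K) →ₗ[R ⊗[ℤ] K] (Fin (r + 1) → R ⊗[ℤ] K) :=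
    { toFun := fun α c => G (ι (li ^ c.1) * Z α)
      map_add' := fun α β => by
        funext c
        simp only [Z, Pi.add_apply, map_add, mul_add, sum_add_distrib]
      map_smul' := fun a α => by
        funext c
        rw [Pi.smul_apply, RingHom.id_apply, smul_eq_mul, ← hG]
        simp only [Z, Pi.smul_apply, smul_eq_mul, map_mul, mul_sum]
        exact congrArg G (sum_congr rfl fun i _ => by ring) }
  let S : AddSubgroup (R ⊗[ℤ] E) := (AddMonoidHom.mk' Z fun α β => by
    simp only [Z, Pi.add_apply, map_add, mul_add, sum_add_distrib]).range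
  have hY : ∀ (n : ℕ) (a : R ⊗[ℤ] K), ι (l ^ j) ^ n * QR a ∈ S := by
    intro n a
    refine ⟨fun c => ((1 : R) ⊗ₜ[ℤ] ψ₀ (f (li ^ c.1 * l ^ n))) * a, ?_⟩
    show ∑ c : Fin (r + 1), ι (ψ (d c.1)) * QR (((1 : R) ⊗ₜ[ℤ] ψ₀ (f (li ^ c.1 * l ^ n))) * a) = _
    rw [Fin.sum_univ_eq_sum_range (fun c => ι (ψ (d c)) * QR (((1 : R) ⊗ₜ[ℤ] ψ₀ (f (li ^ c * l ^ n))) * a))]
    conv_rhs => rw [← map_pow, ← hψl, ← map_pow, hrep (l ^ n), map_sum, map_sum, sum_mul]
    refine sum_congr rfl fun c _ => ?_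
    rw [map_mul QR, hQR, map_mul ψ, map_mul ι, hψq, mul_assoc]
    rfl
  have hY' : ∀ (m n : ℕ) (a : R ⊗[ℤ] K), (ι (l ^ j) - 1) ^ m * ι (l ^ j) ^ n * QR a ∈ S := by
    intro m
    induction m with
    | zero => intro n a; rw [pow_zero, one_mul]; exact hY n a
    | succ m ih =>
      intro n a
      rw [show (ι (l ^ j) - 1) ^ (m + 1) * ι (l ^ j) ^ n * QR a =
        (ι (l ^ j) - 1) ^ m * ι (l ^ j) ^ (n + 1) * QR a - (ι (l ^ j) - 1) ^ m * ι (l ^ j) ^ n * QR a by ring]
      exact sub_mem (ih _ a) (ih _ a)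
  have hdecT : ∀ t : R ⊗[ℤ] E, ∃ a t', t = QR a + ι (l - 1) * t' := by
    intro t
    induction t using TensorProduct.induction_on with
    | zero => exact ⟨0, 0, by simp⟩
    | add t t' ht ht' =>
      obtain ⟨a, s, rfl⟩ := ht
      obtain ⟨a', s', rfl⟩ := ht'
      exact ⟨a + a', s + s', by rw [map_add]; ring⟩
    | tmul c y =>
      obtain ⟨k, y', hy⟩ := hdec y
      refine ⟨c ⊗ₜ[ℤ] k, c ⊗ₜ[ℤ] y', ?_⟩
      show _ = _ + ((1 : R) ⊗ₜ[ℤ] (l - 1)) * _
      rw [hQR, Algebra.TensorProduct.tmul_mul_tmul, one_mul, ← TensorProduct.tmul_add, ← hy]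
  obtain ⟨c, hc⟩ : ∃ c, ∑ k ∈ range j, l ^ k = (j : E) + (l - 1) * c := by
    obtain ⟨c, hc⟩ : (l - 1) ∣ ∑ k ∈ range j, (l ^ k - 1) :=
      dvd_sum fun k _ => sub_one_dvd_pow_sub_one l k
    refine ⟨c, ?_⟩
    rw [← hc, sum_sub_distrib, sum_const, card_range, nsmul_one]
    ring
  have hall : ∀ t n, t * ι (l ^ j) ^ n ∈ S := by
    suffices h : ∀ (k m : ℕ), N ≤ m + k → ∀ t n, t * ι (l - 1) ^ m * ι (l ^ j) ^ n ∈ S by
      intro t n
      simpa using h N 0 (by omega) t n
    intro k
    induction k with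
    | zero =>
      intro m hm t n
      rw [← map_pow, pow_eq_zero_of_le (by omega) hN, map_zero, mul_zero, zero_mul]
      exact zero_mem _
    | succ k ih =>
      intro m hm t n
      obtain ⟨a, t', rfl⟩ := hdecT t
      obtain ⟨e, he⟩ := sub_dvd_pow_sub_pow ((j : E) + (l - 1) * c) (j : E) m
      rw [add_sub_cancel_left] at he
      have hv : (ι (l ^ j) - 1) ^ m = ι (l - 1) ^ m * ((j : R ⊗[ℤ] E) ^ m + ι (l - 1) * ι (c * e)) := by
        rw [← map_one ι, ← map_sub, ← map_pow, ← map_pow ι (l - 1), ← map_natCast ι j, ← map_pow, ← map_mul ι (l - 1),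
          ← map_add, ← map_mul, ← mul_geom_sum, mul_pow, hc]
        congr 1
        linear_combination (l - 1) ^ m * he
      let a' := a * ((↑(u⁻¹) : R) ⊗ₜ[ℤ] (1 : K)) ^ m
      have hj1 : QR a' * (j : R ⊗[ℤ] E) ^ m = QR a := by
        rw [← map_natCast QR, ← map_pow, ← map_mul]
        congr 1
        simp only [a']
        rw [mul_assoc, ← mul_pow, show (j : R ⊗[ℤ] K) = (j : R) ⊗ₜ[ℤ] (1 : K) from
            (map_natCast (Algebra.TensorProduct.includeLeftRingHom : R →+* R ⊗[ℤ] K) j).symm,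
          Algebra.TensorProduct.tmul_mul_tmul, mul_one, ← hu, Units.inv_mul, ← Algebra.TensorProduct.one_def,
          one_pow, mul_one]
      rw [show (QR a + ι (l - 1) * t') * ι (l - 1) ^ m * ι (l ^ j) ^ n =
        (ι (l ^ j) - 1) ^ m * ι (l ^ j) ^ n * QR a' +
          (t' - QR a' * ι (c * e)) * ι (l - 1) ^ (m + 1) * ι (l ^ j) ^ n by
        rw [hv, ← hj1]; ring]
      exact add_mem (hY' m n a') (ih (m + 1) (by omega) _ n)
  have hMs : Function.Surjective M := by
    intro β
    obtain ⟨α, hα⟩ := hall (∑ a : Fin (r + 1), ι (d a.1) * QR (β a)) 0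
    refine ⟨α, funext fun cc => ?_⟩
    show G (ι (li ^ cc.1) * Z α) = β cc
    rw [show Z α = _ from hα, pow_zero, mul_one, mul_sum, map_sum, Finset.sum_eq_single cc]
    · rw [← mul_assoc, mul_comm, hG, ← map_mul]
      show β cc * ((1 : R) ⊗ₜ[ℤ] f (li ^ cc.1 * d cc.1)) = β cc
      rw [hdual _ _ (Nat.lt_succ_iff.1 cc.2) (Nat.lt_succ_iff.1 cc.2), if_pos rfl,
        ← Algebra.TensorProduct.one_def, mul_one]
    · intro a _ ha
      rw [← mul_assoc, mul_comm, hG, ← map_mul]
      show β a * ((1 : R) ⊗ₜ[ℤ] f (li ^ cc.1 * d a.1)) = 0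
      rw [hdual _ _ (Nat.lt_succ_iff.1 a.2) (Nat.lt_succ_iff.1 cc.2), if_neg (fun h => ha (Fin.ext h)),
        TensorProduct.tmul_zero, mul_zero]
    · exact fun h => absurd (Finset.mem_univ _) h
  have hMi : Function.Injective M := OrzechProperty.injective_of_surjective_endomorphism M hMs
  -- evaluation of polynomials against the functional
  let F : R ⊗[ℤ] E := (j : R ⊗[ℤ] E) * w * ι (ψ x)
  let Ev : Polynomial E →ₗ[ℤ] R ⊗[ℤ] E := Polynomial.lsum fun n =>
    ((AddMonoidHom.mulRight (QR (G (ι (li ^ n) * F)))).comp ι.toAddMonoidHom).toIntLinearMap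
  have hEv : ∀ n p, Ev (Polynomial.monomial n p) = ι p * QR (G (ι (li ^ n) * F)) := fun n p => by
    rw [Polynomial.lsum_apply, Polynomial.sum_monomial_index _ _ (by simp)]
    rfl
  have hEvδ : ∀ p : Polynomial E,
      Ev ((∑ a ∈ range (r + 1), Polynomial.C (d a) * Polynomial.X ^ a) * p) = ι (p.eval li) * F := by
    intro p
    induction p using Polynomial.induction_on' with
    | add p p' hp hp' => rw [mul_add, map_add, hp, hp', Polynomial.eval_add, map_add, add_mul]
    | monomial n p =>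
      rw [sum_mul, map_sum, Polynomial.eval_monomial, map_mul ι, mul_assoc, hrepT (ι (li ^ n) * F), mul_sum]
      refine sum_congr rfl fun a _ => ?_
      rw [Polynomial.C_mul_X_pow_eq_monomial, Polynomial.monomial_mul_monomial, hEv, pow_add, map_mul ι, map_mul ι]
      ring_nf
  have hjw : (j : R ⊗[ℤ] E) * w * ι (Θ.eval li) = 1 := by
    rw [← hw]
    show _ = w * ι b
    rw [hb, map_mul, map_natCast]
    ring
  have h1 : ∑ a ∈ range (r + 1), ι (ψ (d a)) *
      QR (G ((j : R ⊗[ℤ] E) * w * ι (ψ (li ^ a * x)))) = ι (ψ x) := by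
    have h := congrArg Ev hΘ
    rw [hEvδ, map_sum] at h
    simp only [Polynomial.C_mul_X_pow_eq_monomial, hEv, F] at h
    rw [show ι (Θ.eval li) * ((j : R ⊗[ℤ] E) * w * ι (ψ x)) = ι (ψ x) by
      rw [← mul_assoc, mul_comm (ι (Θ.eval li)), hjw, one_mul]] at h
    refine Eq.trans (sum_congr rfl fun a _ => ?_) h
    congr 3
    rw [map_mul ψ, map_pow ψ, hψli, ← pow_mul, map_mul ι]
    ring
  have h2 : ∑ a ∈ range (r + 1), ι (ψ (d a)) * QR ((1 : R) ⊗ₜ[ℤ] ψ₀ (f (li ^ a * x))) = ι (ψ x) := by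
    conv_rhs => rw [hrep x, map_sum, map_sum]
    refine sum_congr rfl fun a _ => ?_
    rw [map_mul ψ, map_mul ι, hψq, hQR]
    rfl
  let D : ℕ → R ⊗[ℤ] K := fun a =>
    G ((j : R ⊗[ℤ] E) * w * ι (ψ (li ^ a * x))) - (1 : R) ⊗ₜ[ℤ] ψ₀ (f (li ^ a * x))
  have hZD : Z (fun a => D a.1) = 0 := by
    show ∑ a : Fin (r + 1), ι (ψ (d a.1)) * QR (D a.1) = 0
    rw [Fin.sum_univ_eq_sum_range (fun a => ι (ψ (d a)) * QR (D a))]
    simp only [D, map_sub, mul_sub, sum_sub_distrib]
    rw [h1, h2, sub_self]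
  have hD : (fun a : Fin (r + 1) => D a.1) = 0 := hMi (by
    rw [map_zero]
    funext cc
    show G (ι (li ^ cc.1) * Z (fun a => D a.1)) = 0
    rw [hZD, mul_zero, map_zero])
  have h0 := congrFun hD 0
  simp only [D, Fin.val_zero, pow_zero, one_mul, Pi.zero_apply, sub_eq_zero] at h0
  exact h0.symm

end Formula

end KRRRegLib

end
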