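import Groth.Agent.KGrLib.Sigma
import Groth.Agent.KRRRegLib.ElemARR
import Mathlib.RingTheory.PowerSeries.Inverse
import Mathlib.RingTheory.Polynomial.Vieta
import Mathlib.Algebra.MvPolynomial.CommRing

/-!
# `λ`-operations on a polynomial ring in a line element, and on its quotients
-/

set_option autoImplicit false
set_option linter.all false
set_option maxHeartbeats 1000000

universe v w

open LambdaRing Finset

noncomputable section

namespace ElemExt

section Low

variable {R : Type v} [CommRing R]

/-- A series with no terms above degree `d`. -/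
def Low (d : ℕ) (F : PowerSeries R) : Prop := ∀ n, d < n → PowerSeries.coeff n F = 0

theorem low_one : Low 0 (1 : PowerSeries R) := fun n hn => by
  rw [PowerSeries.coeff_one, if_neg (by omega)]

theorem Low.mul {a b : ℕ} {F G : PowerSeries R} (hF : Low a F) (hG : Low b G) :
    Low (a + b) (F * G) ∧ PowerSeries.coeff (a + b) (F * G) = PowerSeries.coeff a F * PowerSeries.coeff b G := by
  refine ⟨fun n hn => ?_, ?_⟩
  · rw [PowerSeries.coeff_mul]
    refine sum_eq_zero fun p hp => ?_
    rw [Finset.HasAntidiagonal.mem_antidiagonal] at hp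
    rcases lt_or_ge a p.1 with h | h
    · rw [hF _ h, zero_mul]
    · rw [hG _ (by omega), mul_zero]
  · rw [PowerSeries.coeff_mul, sum_eq_single (a, b) (fun p hp hne => ?_)
      (fun h => absurd (Finset.HasAntidiagonal.mem_antidiagonal.2 rfl) h)]
    rw [Finset.HasAntidiagonal.mem_antidiagonal] at hp
    rcases lt_trichotomy a p.1 with h | h | h
    · rw [hF _ h, zero_mul]
    · exact absurd (Prod.ext h.symm (by omega)) hne
    · rw [hG _ (by omega), mul_zero]

theorem Low.prod {ι : Type w} (s : Finset ι) (d : ι → ℕ) (F : ι → PowerSeries R) (h : ∀ i ∈ s, Low (d i) (F i)) :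
    Low (∑ i ∈ s, d i) (∏ i ∈ s, F i) ∧
      PowerSeries.coeff (∑ i ∈ s, d i) (∏ i ∈ s, F i) = ∏ i ∈ s, PowerSeries.coeff (d i) (F i) := by
  classical
  induction s using Finset.induction_on with
  | empty => simpa using low_one
  | insert a s ha ih =>
    obtain ⟨h1, h2⟩ := ih fun i hi => h i (mem_insert_of_mem hi)
    obtain ⟨h3, h4⟩ := (h a (mem_insert_self a s)).mul h1
    rw [sum_insert ha, prod_insert ha, prod_insert ha]
    exact ⟨h3, by rw [h4, h2]⟩

theorem Low.rescale {d : ℕ} {F : PowerSeries R} (h : Low d F) (c : R) : Low d (PowerSeries.rescale c F) :=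
  fun n hn => by rw [PowerSeries.coeff_rescale, h n hn, mul_zero]

theorem Low.map {S : Type w} [CommRing S] {d : ℕ} {F : PowerSeries R} (h : Low d F) (f : R →+* S) :
    Low d (PowerSeries.map f F) := fun n hn => by rw [PowerSeries.coeff_map, h n hn, map_zero]

theorem isUnit_of_constantCoeff {F : PowerSeries R} (h : PowerSeries.coeff 0 F = 1) : IsUnit F := by
  rw [PowerSeries.isUnit_iff_constantCoeff, ← PowerSeries.coeff_zero_eq_constantCoeff, h]
  exact isUnit_one

end Low

/-- A polynomial over a domain vanishing at distinct points is divisible by the product. -/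
theorem prod_X_sub_C_dvd {R : Type v} [CommRing R] [IsDomain R] {ι : Type w} (s : Finset ι) (a : ι → R)
    (ha : Function.Injective a) :
    ∀ f : Polynomial R, (∀ i ∈ s, f.eval (a i) = 0) → (∏ i ∈ s, (Polynomial.X - Polynomial.C (a i))) ∣ f := by
  classical
  induction s using Finset.induction_on with
  | empty => intro f _; simp
  | insert b s hb ih =>
    intro f hf
    obtain ⟨g, rfl⟩ := Polynomial.dvd_iff_isRoot.2 (hf b (mem_insert_self b s))
    rw [prod_insert hb]
    refine mul_dvd_mul_left _ (ih g fun i hi => ?_)
    have h := hf i (mem_insert_of_mem hi)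
    rw [Polynomial.eval_mul, Polynomial.eval_sub, Polynomial.eval_X, Polynomial.eval_C] at h
    exact (mul_eq_zero.1 h).resolve_left (sub_ne_zero.2 fun e => hb (ha e ▸ hi))

section Ser

variable {A : Type v} [CommRing A] [LambdaOps A]

theorem lamSeries_add (a b : A) : lamSeries (a + b) = lamSeries a * lamSeries b := by
  ext n
  rw [lamSeries, PowerSeries.coeff_mk, LambdaOps.lam_add, PowerSeries.coeff_mul,
    Finset.Nat.sum_antidiagonal_eq_sum_range_succ_mk]
  simp [lamSeries]

theorem lamSeries_zero : lamSeries (0 : A) = 1 := by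
  ext n
  rw [lamSeries, PowerSeries.coeff_mk, PowerSeries.coeff_one]
  cases n with
  | zero => rw [if_pos rfl, LambdaOps.lam_zero]
  | succ n => rw [if_neg (Nat.succ_ne_zero n), LambdaSpLib.lam_zero_arg _ (Nat.succ_pos n)]

/-- `λ_t(a T^i)`, as a unit. -/
def serUnit (i : ℕ) (a : A) : (PowerSeries (Polynomial A))ˣ :=
  (isUnit_of_constantCoeff (F := PowerSeries.rescale ((Polynomial.X : Polynomial A) ^ i)
    (PowerSeries.map (Polynomial.C : A →+* Polynomial A) (lamSeries a))) (by
      rw [PowerSeries.coeff_rescale, PowerSeries.coeff_map, lamSeries, PowerSeries.coeff_mk, LambdaOps.lam_zero,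
        map_one, pow_zero, one_mul])).unit

/-- `serUnit` as an additive map. -/
def serHom (i : ℕ) : A →+ Additive (PowerSeries (Polynomial A))ˣ where
  toFun a := Additive.ofMul (serUnit i a)
  map_zero' := by
    refine congrArg Additive.ofMul (Units.ext ?_)
    simp [serUnit, lamSeries_zero]
  map_add' a b := by
    refine congrArg Additive.ofMul (Units.ext ?_)
    simp [serUnit, lamSeries_add]

/-- `λ_t` on `A[T]`, `T` a line element. -/
def polyHom : Polynomial A →+ Additive (PowerSeries (Polynomial A))ˣ where
  toFun f := f.sum fun i a => serHom i a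
  map_zero' := Polynomial.sum_zero_index _
  map_add' f g := Polynomial.sum_add_index f g _ (fun i => map_zero _) fun i => map_add _

/-- `λ_t` on `A[T]`. -/
def polySer (f : Polynomial A) : PowerSeries (Polynomial A) := ((Additive.toMul (polyHom f) : (PowerSeries (Polynomial A))ˣ) : PowerSeries (Polynomial A))

theorem polySer_add (f g : Polynomial A) : polySer (f + g) = polySer f * polySer g := by
  simp [polySer]

theorem polySer_zero : polySer (0 : Polynomial A) = 1 := by
  simp [polySer]

theorem isUnit_polySer (f : Polynomial A) : IsUnit (polySer f) := Units.isUnit _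

theorem polySer_monomial (i : ℕ) (a : A) : polySer (Polynomial.monomial i a) =
    PowerSeries.rescale ((Polynomial.X : Polynomial A) ^ i) (PowerSeries.map (Polynomial.C : A →+* Polynomial A) (lamSeries a)) := by
  simp only [polySer, polyHom, AddMonoidHom.coe_mk, ZeroHom.coe_mk]
  rw [Polynomial.sum_monomial_index _ _ (map_zero (serHom i))]
  rfl

theorem coeff_polySer (f : Polynomial A) :
    PowerSeries.coeff 0 (polySer f) = 1 ∧ PowerSeries.coeff 1 (polySer f) = f := by
  induction f using Polynomial.induction_on' with
  | add f g hf hg =>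
    rw [polySer_add, PowerSeries.coeff_mul, PowerSeries.coeff_mul, Finset.Nat.sum_antidiagonal_eq_sum_range_succ_mk,
      Finset.Nat.sum_antidiagonal_eq_sum_range_succ_mk]
    simp [sum_range_succ, hf.1, hf.2, hg.1, hg.2, add_comm]
  | monomial i a =>
    rw [polySer_monomial]
    simp only [PowerSeries.coeff_rescale, PowerSeries.coeff_map, lamSeries, PowerSeries.coeff_mk,
      LambdaOps.lam_zero, LambdaOps.lam_one, map_one, pow_zero, pow_one, one_mul, true_and]
    rw [← Polynomial.C_mul_X_pow_eq_monomial, mul_comm]

theorem polySer_X_mul (f : Polynomial A) :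
    polySer (Polynomial.X * f) = PowerSeries.rescale Polynomial.X (polySer f) := by
  induction f using Polynomial.induction_on' with
  | add f g hf hg => rw [mul_add, polySer_add, polySer_add, hf, hg, map_mul]
  | monomial i a =>
    rw [Polynomial.X_mul_monomial, polySer_monomial, polySer_monomial, PowerSeries.rescale_rescale, pow_succ]

theorem polySer_C_mul {u : A} (hu : ∀ n x, LambdaOps.lam n (u * x) = u ^ n * LambdaOps.lam n x) (f : Polynomial A) :
    polySer (Polynomial.C u * f) = PowerSeries.rescale (Polynomial.C u) (polySer f) := by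
  induction f using Polynomial.induction_on' with
  | add f g hf hg => rw [mul_add, polySer_add, polySer_add, hf, hg, map_mul]
  | monomial i a =>
    rw [Polynomial.C_mul_monomial, polySer_monomial, polySer_monomial, PowerSeries.rescale_rescale]
    ext n : 1
    simp only [PowerSeries.coeff_rescale, PowerSeries.coeff_map, lamSeries, PowerSeries.coeff_mk, hu, map_mul,
      map_pow, mul_pow]
    ring

theorem polySer_map {B : Type v} [CommRing B] [LambdaOps B] {g : A →+* B} (hg : IsLambdaHom g) (f : Polynomial A) :
    polySer (f.map g) = PowerSeries.map (Polynomial.mapRingHom g) (polySer f) := by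
  induction f using Polynomial.induction_on' with
  | add f h hf hh => rw [Polynomial.map_add, polySer_add, polySer_add, hf, hh, map_mul]
  | monomial i a =>
    rw [Polynomial.map_monomial, polySer_monomial, polySer_monomial, ← PowerSeries.rescale_map, map_pow,
      Polynomial.coe_mapRingHom, Polynomial.map_X]
    ext n : 1
    simp [lamSeries, hg n a]

/-- The multiples of a product of linear forms with line roots have trivial `λ_t`. -/
theorem polySer_prod_mul (l : List A) (hl : ∀ u ∈ l, ∀ n x, LambdaOps.lam n (u * x) = u ^ n * LambdaOps.lam n x)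
    (y : Polynomial A) :
    PowerSeries.map (Ideal.Quotient.mk (Ideal.span {(l.map fun u => Polynomial.X - Polynomial.C u).prod}))
      (polySer ((l.map fun u => Polynomial.X - Polynomial.C u).prod * y)) = 1 := by
  induction l generalizing y with
  | nil =>
    ext n
    rw [Ideal.Quotient.mk_surjective (PowerSeries.coeff n (1 : PowerSeries _)) |>.choose_spec.symm,
      PowerSeries.coeff_map, Ideal.Quotient.eq]
    simp
  | cons u l ih =>
    simp only [List.map_cons, List.prod_cons]
    set P := (l.map fun u => Polynomial.X - Polynomial.C u).prod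
    have hΦ := ih (fun w hw => hl w (List.mem_cons_of_mem _ hw)) y
    set mk' := Ideal.Quotient.mk (Ideal.span {(Polynomial.X - Polynomial.C u) * P})
    have hX := polySer_X_mul (P * y)
    rw [show Polynomial.X * (P * y) = (Polynomial.X - Polynomial.C u) * P * y + Polynomial.C u * (P * y) by ring,
      polySer_add, polySer_C_mul (hl u (List.mem_cons_self ..))] at hX
    have heq : PowerSeries.map mk' (PowerSeries.rescale Polynomial.X (polySer (P * y))) =
        PowerSeries.map mk' (PowerSeries.rescale (Polynomial.C u) (polySer (P * y))) := by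
      ext n
      simp only [PowerSeries.coeff_map, PowerSeries.coeff_rescale]
      rcases Nat.eq_zero_or_pos n with rfl | hn
      · simp
      rw [Ideal.Quotient.eq, Ideal.mem_span_singleton, ← sub_mul]
      refine mul_dvd_mul (sub_dvd_pow_sub_pow _ _ n) ?_
      rw [← Ideal.mem_span_singleton, ← Ideal.Quotient.eq_zero_iff_mem, ← PowerSeries.coeff_map, hΦ,
        PowerSeries.coeff_one, if_neg (by omega)]
    rw [← hX, map_mul] at heq
    exact (IsUnit.mul_left_inj (((isUnit_polySer (P * y)).map (PowerSeries.rescale (Polynomial.C u))).map (PowerSeries.map mk'))).1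
      (heq.trans (one_mul _).symm)

end Ser

section Univ

variable (m : ℕ) (i D : ℕ)

/-- Coefficients for the universal identities. -/
abbrev B0 : Type := MvPolynomial (Fin m ⊕ ℕ) ℤ

/-- The initial series. -/
def F0 : PowerSeries (Polynomial (B0 m)) := PowerSeries.mk fun n =>
  if n = 0 then 1 else if n ≤ D then Polynomial.C (MvPolynomial.X (Sum.inr n)) * Polynomial.X ^ (i * n) else 0

/-- The series of the products with powers of the complement of `T`. -/
def FS : ℕ → PowerSeries (Polynomial (B0 m))
  | 0 => F0 m i D
  | k + 1 => (∏ l : Fin m, PowerSeries.rescale (Polynomial.C (MvPolynomial.X (Sum.inl l))) (FS k)) *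
      (PowerSeries.rescale Polynomial.X (FS k)).invOfUnit 1

theorem coeff_zero_FS : ∀ k, PowerSeries.coeff 0 (FS m i D k) = 1
  | 0 => by simp [FS, F0]
  | k + 1 => by
    have h := coeff_zero_FS k
    simp only [PowerSeries.coeff_zero_eq_constantCoeff] at h ⊢
    rw [FS, map_mul, map_prod, PowerSeries.constantCoeff_invOfUnit]
    simp [← PowerSeries.coeff_zero_eq_constantCoeff_apply, PowerSeries.coeff_rescale,
      (PowerSeries.coeff_zero_eq_constantCoeff_apply (FS m i D k)).trans h]

theorem FS_succ_mul (k : ℕ) :
    FS m i D (k + 1) * PowerSeries.rescale Polynomial.X (FS m i D k) =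
      ∏ l : Fin m, PowerSeries.rescale (Polynomial.C (MvPolynomial.X (Sum.inl l))) (FS m i D k) := by
  rw [FS, mul_assoc, mul_comm _ (PowerSeries.rescale Polynomial.X (FS m i D k)), PowerSeries.mul_invOfUnit _ 1 (by
    rw [← PowerSeries.coeff_zero_eq_constantCoeff_apply, PowerSeries.coeff_rescale, coeff_zero_FS, pow_zero,
      one_mul, Units.val_one]), mul_one]

/-- The degree of `FS`. -/
abbrev DS (k : ℕ) : ℕ := D * (m - 1) ^ k

/-- The series at `T = U_j`. -/
abbrev evS (j : Fin m) (F : PowerSeries (Polynomial (B0 m))) : PowerSeries (B0 m) :=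
  PowerSeries.map (Polynomial.evalRingHom (MvPolynomial.X (Sum.inl j))) F

theorem evS_succ (j : Fin m) (k : ℕ) :
    evS m j (FS m i D (k + 1)) =
      ∏ l ∈ Finset.univ.erase j, PowerSeries.rescale (MvPolynomial.X (Sum.inl l)) (evS m j (FS m i D k)) := by
  have h := congrArg (evS m j) (FS_succ_mul m i D k)
  simp only [evS, map_mul, map_prod, ← PowerSeries.rescale_map, Polynomial.coe_evalRingHom, Polynomial.eval_X,
    Polynomial.eval_C] at h
  rw [← Finset.mul_prod_erase Finset.univ _ (Finset.mem_univ j), mul_comm] at h
  exact (IsUnit.mul_right_inj (isUnit_of_constantCoeff (by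
    rw [PowerSeries.coeff_rescale, PowerSeries.coeff_map, coeff_zero_FS, map_one, pow_zero, one_mul]))).1 h

theorem low_evS (j : Fin m) : ∀ k, Low (DS m D k) (evS m j (FS m i D k))
  | 0 => fun n hn => by
    have hn' : D < n := by simpa [DS] using hn
    simp [FS, F0, show n ≠ 0 by omega, show ¬ n ≤ D by omega]
  | k + 1 => by
    rw [evS_succ]
    have h := (Low.prod (Finset.univ.erase j) (fun _ => DS m D k) _
      fun l _ => (low_evS j k).rescale (MvPolynomial.X (Sum.inl l))).1
    rwa [sum_const, Finset.card_erase_of_mem (Finset.mem_univ j), Finset.card_univ, Fintype.card_fin,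
      smul_eq_mul, show (m - 1) * DS m D k = DS m D (k + 1) by simp only [DS, pow_succ]; ring] at h

/-- The product of the `U_j`. -/
def PU : B0 m := ∏ l : Fin m, MvPolynomial.X (Sum.inl l)

theorem top_evS (j : Fin m) (k : ℕ) :
    PowerSeries.coeff (DS m D (k + 1)) (evS m j (FS m i D (k + 1))) * MvPolynomial.X (Sum.inl j) ^ DS m D k =
      PU m ^ DS m D k * PowerSeries.coeff (DS m D k) (evS m j (FS m i D k)) ^ (m - 1) := by
  have h := (Low.prod (Finset.univ.erase j) (fun _ => DS m D k) _
    fun l _ => (low_evS m i D j k).rescale (MvPolynomial.X (Sum.inl l))).2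
  rw [sum_const, Finset.card_erase_of_mem (Finset.mem_univ j), Finset.card_univ, Fintype.card_fin,
    smul_eq_mul, show (m - 1) * DS m D k = DS m D (k + 1) by simp only [DS, pow_succ]; ring, ← evS_succ] at h
  rw [h]
  simp only [PowerSeries.coeff_rescale, prod_mul_distrib, prod_const, Finset.card_erase_of_mem (Finset.mem_univ j),
    Finset.card_univ, Fintype.card_fin, prod_pow]
  rw [PU, ← Finset.mul_prod_erase Finset.univ _ (Finset.mem_univ j), mul_pow]
  ring

/-- The universal polynomial. -/
def PPoly : Polynomial (B0 m) := ∏ l : Fin m, (Polynomial.X - Polynomial.C (MvPolynomial.X (Sum.inl l)))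

theorem PPoly_dvd {f : Polynomial (B0 m)} (h : ∀ j : Fin m, f.eval (MvPolynomial.X (Sum.inl j)) = 0) : PPoly m ∣ f :=
  prod_X_sub_C_dvd Finset.univ (fun l : Fin m => (MvPolynomial.X (Sum.inl l) : B0 m))
    (fun a b e => Sum.inl_injective (MvPolynomial.X_injective e)) f fun j _ => h j

/-- **The universal identities**: vanishing above the degree and the top term. -/
theorem univ_identities {E : Type w} [CommRing E] (ψ : Polynomial (B0 m) →+* E) (hψ : ψ (PPoly m) = 0) (k : ℕ) :
    Low (DS m D k) (PowerSeries.map ψ (FS m i D k)) ∧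
      PowerSeries.coeff (DS m D (k + 1)) (PowerSeries.map ψ (FS m i D (k + 1))) * ψ Polynomial.X ^ DS m D k =
        ψ (Polynomial.C (PU m)) ^ DS m D k * PowerSeries.coeff (DS m D k) (PowerSeries.map ψ (FS m i D k)) ^ (m - 1) := by
  have hz : ∀ f : Polynomial (B0 m), (∀ j : Fin m, f.eval (MvPolynomial.X (Sum.inl j)) = 0) → ψ f = 0 := fun f hf => by
    obtain ⟨g, hg⟩ := PPoly_dvd m hf
    rw [hg, map_mul, hψ, zero_mul]
  refine ⟨fun n hn => ?_, ?_⟩
  · rw [PowerSeries.coeff_map]
    refine hz _ fun j => ?_
    have := low_evS m i D j k n hn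
    rwa [PowerSeries.coeff_map, Polynomial.coe_evalRingHom] at this
  · rw [← sub_eq_zero]
    simp only [PowerSeries.coeff_map, ← map_pow, ← map_mul, ← map_sub]
    refine hz _ fun j => ?_
    have := top_evS m i D j k
    simp only [evS, PowerSeries.coeff_map, Polynomial.coe_evalRingHom] at this
    simp only [Polynomial.eval_sub, Polynomial.eval_mul, Polynomial.eval_pow, Polynomial.eval_X, Polynomial.eval_C]
    rw [this, sub_self]

end Univ

end ElemExt

end
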