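import Groth.Agent.KRRRegLib.BaseChange
import Groth.Agent.KRRRegLib.Bound
import Groth.Agent.KHeartLib.Classes
import Groth.Agent.VBResLib.Euler
import Groth.Agent.PerfLib.Strict
import Mathlib.Data.Nat.Choose.Basic

/-!
# `K₀` of regular bundles is `K₀` of all bundles
-/

set_option autoImplicit false
set_option linter.all false
set_option maxHeartbeats 1000000

universe u

open CategoryTheory CategoryTheory.Limits AlgebraicGeometry HomologicalComplex
open Groth.Agent.KHeartLib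
open scoped ZeroObject

noncomputable section

namespace KRRRegLib

open Groth.Agent

variable {n : ℕ} {Y : Scheme.{u}}

section Rel

variable (P : ObjectProperty (KRR.PY n Y).Modules) [P.IsClosedUnderIsomorphisms] [P.ContainsZero]
  (hbip : ∀ A B, P A → P B → P (A ⊞ B))

theorem clSub_biprod {A B : (KRR.PY n Y).Modules} (hA : P A) (hB : P B) (hAB : P (A ⊞ B)) :
    KZero.clSub P (A ⊞ B) = KZero.clSub P A + KZero.clSub P B :=
  clSub_add P (ShortComplex.mk (biprod.inl : A ⟶ A ⊞ B) biprod.snd (by simp))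
    (ShortComplex.Splitting.ofHasBinaryBiproduct A B).shortExact hA hAB hB

variable {F : (KRR.PY n Y).Modules}

include hbip in
/-- Membership and classes of the terms of the Koszul complex. -/
theorem term_class (hF : ∀ j : ℕ, P (KRR.twF n Y (j : ℤ) F)) :
    ∀ (l : List Γ(O1 n Y, ⊤)) (d : ℕ),
      (∀ k : ℤ, P (KRR.twF n Y (d : ℤ) ((Kz F l).X k))) ∧
      ∀ (j : ℕ) (k : ℤ), k = -(l.length : ℤ) + j → KZero.clSub P (KRR.twF n Y (d : ℤ) ((Kz F l).X k)) =
        (l.length.choose j : ℤ) • KZero.clSub P (KRR.twF n Y ((d + j : ℕ) : ℤ) F) := by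
  have hzero : ∀ (d : ℕ) {Z : (KRR.PY n Y).Modules}, IsZero Z → P (KRR.twF n Y (d : ℤ) Z) := fun d Z hZ => by
    obtain ⟨Z', hZ', hP⟩ := P.exists_prop_of_containsZero
    exact P.prop_of_iso (hZ'.iso ((twFun n Y (d : ℤ)).map_isZero hZ)) hP
  intro l
  induction l with
  | nil =>
    intro d
    have e : KRR.twF n Y (d : ℤ) ((Kz (L := O1 n Y) F []).X 0) ≅ KRR.twF n Y (d : ℤ) F :=
      (twFun n Y (d : ℤ)).mapIso (HomologicalComplex.singleObjXSelf _ 0 F)
    refine ⟨fun k => ?_, fun j k hk => ?_⟩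
    · rcases eq_or_ne k 0 with rfl | hk
      · exact P.prop_of_iso e.symm (hF d)
      · exact hzero d (HomologicalComplex.isZero_single_obj_X _ _ _ _ hk)
    · simp only [List.length_nil, Nat.cast_zero, neg_zero, zero_add] at hk
      subst hk
      cases j with
      | zero =>
        simp only [List.length_nil, Nat.choose_zero_right, Nat.cast_one, one_smul, add_zero]
        exact clSub_congr P e
      | succ j =>
        have hz : IsZero ((Kz (L := O1 n Y) F []).X ((j + 1 : ℕ) : ℤ)) :=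
          HomologicalComplex.isZero_single_obj_X _ _ _ _ (by omega)
        rw [clSub_eq_zero P (hzero d hz) ((twFun n Y (d : ℤ)).map_isZero hz)]
        simp
  | cons σ l ih =>
    intro d
    let T : ∀ k : ℤ, KRR.twF n Y (d : ℤ) ((DCoh.tensorRightMod (O1 n Y)).obj ((Kz F l).X k)) ≅
        KRR.twF n Y ((d + 1 : ℕ) : ℤ) ((Kz F l).X k) := fun k =>
      (twFun n Y (d : ℤ)).mapIso (nonempty_tensorRight _).some ≪≫ (nonempty_twF_add n Y (d : ℤ) 1 _).some ≪≫
        eqToIso (congrArg (fun e => KRR.twF n Y e ((Kz F l).X k)) (by push_cast; ring))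
    haveI := preservesBinaryBiproducts_of_preservesBiproducts (twFun n Y (d : ℤ))
    let B : ∀ k : ℤ, KRR.twF n Y (d : ℤ) ((Kz F (σ :: l)).X k) ≅
        KRR.twF n Y (d : ℤ) ((Kz F l).X (k + 1)) ⊞
          KRR.twF n Y (d : ℤ) ((DCoh.tensorRightMod (O1 n Y)).obj ((Kz F l).X k)) := fun k =>
      (twFun n Y (d : ℤ)).mapIso (homotopyCofiber.XIsoBiprod ((secC σ).app (Kz F l)) k (k + 1) rfl) ≪≫
        (twFun n Y (d : ℤ)).mapBiprod _ _
    have h1 : ∀ k : ℤ, P (KRR.twF n Y (d : ℤ) ((DCoh.tensorRightMod (O1 n Y)).obj ((Kz F l).X k))) := fun k =>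
      P.prop_of_iso (T k).symm ((ih (d + 1)).1 k)
    refine ⟨fun k => P.prop_of_iso (B k).symm (hbip _ _ ((ih d).1 (k + 1)) (h1 k)), fun j k hk => ?_⟩
    simp only [List.length_cons, Nat.cast_succ] at hk ⊢
    rw [clSub_congr P (B k), clSub_biprod P ((ih d).1 (k + 1)) (h1 k) (hbip _ _ ((ih d).1 (k + 1)) (h1 k)),
      (ih d).2 j (k + 1) (by omega), clSub_congr P (T k)]
    cases j with
    | zero =>
      have hz : IsZero ((Kz F l).X k) := isZero_X F l k (Or.inr (by omega))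
      rw [clSub_eq_zero P ((ih (d + 1)).1 k) ((twFun n Y _).map_isZero hz)]
      simp
    | succ j =>
      rw [(ih (d + 1)).2 j k (by omega), show d + 1 + j = d + (j + 1) by omega, Nat.choose_succ_succ,
        Nat.cast_add (l.length.choose j), add_zsmul]
      simp only [Nat.succ_eq_add_one]
      abel

include hbip in
/-- The Koszul relation. -/
theorem koszul_relation (hF : ∀ j : ℕ, P (KRR.twF n Y (j : ℤ) F))
    (hcyc : ∀ k : ℤ, P ((Kz F (coordList n Y)).cycles k)) :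
    ∑ j ∈ Finset.range (n + 2), ((-1 : ℤ) ^ j * ((n + 1).choose j : ℤ)) • KZero.clSub P (KRR.twF n Y (j : ℤ) F) = 0 := by
  let K := Kz F (coordList n Y)
  have hK : K.Acyclic := acyclic (isInvertible_O1 n Y) F (coordList n Y) exists_genAt_coordList
  have hlen := length_coordList (n := n) (T := Y)
  have hterm : ∀ k, P (K.X k) := fun k =>
    P.prop_of_iso (nonempty_twF_zero _).some (show P (KRR.twF n Y 0 (K.X k)) from by
      have := (term_class P hbip hF (coordList n Y) 0).1 k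
      simpa using this)
  have hcl : ∀ j : ℕ, KZero.clSub P (K.X (-((n + 1 : ℕ) : ℤ) + j)) =
      ((n + 1).choose j : ℤ) • KZero.clSub P (KRR.twF n Y (j : ℤ) F) := fun j => by
    have h := (term_class P hbip hF (coordList n Y) 0).2 j (-((n + 1 : ℕ) : ℤ) + j) (by rw [hlen])
    rw [hlen] at h
    simp only [Nat.cast_zero, zero_add] at h
    rw [← h]
    exact (clSub_congr P (nonempty_twF_zero _).some).symm
  have hsum : ∀ t : ℕ, ∑ j ∈ Finset.range t, (-1 : ℤ) ^ j • KZero.clSub P (K.X (-((n + 1 : ℕ) : ℤ) + j)) =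
      (-1 : ℤ) ^ (t + 1) • KZero.clSub P (K.cycles (-((n + 1 : ℕ) : ℤ) + t)) := by
    intro t
    induction t with
    | zero =>
      have hz : IsZero (K.cycles (-((n + 1 : ℕ) : ℤ) + (0 : ℕ))) := by
        have hse := cycles_shortExact K hK (-((n + 1 : ℕ) : ℤ) + (0 : ℕ) - 1) (-((n + 1 : ℕ) : ℤ) + (0 : ℕ)) (by ring)
        haveI : Epi (K.toCycles (-((n + 1 : ℕ) : ℤ) + (0 : ℕ) - 1) (-((n + 1 : ℕ) : ℤ) + (0 : ℕ))) := hse.epi_g
        refine IsZero.of_epi (K.toCycles (-((n + 1 : ℕ) : ℤ) + (0 : ℕ) - 1) _) (isZero_X F _ _ (Or.inr ?_))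
        rw [hlen]; omega
      rw [Finset.sum_range_zero, clSub_eq_zero P (hcyc _) hz, smul_zero]
    | succ t ih =>
      have hse := cycles_shortExact K hK (-((n + 1 : ℕ) : ℤ) + t) (-((n + 1 : ℕ) : ℤ) + (t + 1 : ℕ))
        (by push_cast; ring)
      have hadd := clSub_add P _ hse (hcyc _) (hterm _) (hcyc _)
      rw [Finset.sum_range_succ, ih, hadd, zsmul_add, pow_succ, mul_neg_one, neg_zsmul]
      simp only [pow_succ, mul_neg_one, neg_neg]
      abel
  have hz1 : IsZero (K.cycles (-((n + 1 : ℕ) : ℤ) + ((n + 2 : ℕ) : ℤ))) :=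
    IsZero.of_mono (K.iCycles _) (isZero_X F _ _ (Or.inl (by push_cast; omega)))
  have h := hsum (n + 2)
  rw [clSub_eq_zero P (hcyc _) hz1, smul_zero] at h
  rw [← h]
  refine Finset.sum_congr rfl fun j _ => ?_
  rw [hcl j, smul_smul]

end Rel

variable [IsNoetherian Y]

variable (n Y) in
/-- Regular bundles. -/
abbrev RP : ObjectProperty (KRR.PY n Y).Modules := fun M => FlatMod.IsFinLocFree M ∧ KRR.IsRegSheaf n Y M

theorem vb_zero {M : (KRR.PY n Y).Modules} (h : IsZero M) : FlatMod.IsFinLocFree M :=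
  haveI := isLocallyNoetherian_PY n Y
  VBResLib.vb_of_isZero h

theorem vb_iso {M N : (KRR.PY n Y).Modules} (e : M ≅ N) (h : FlatMod.IsFinLocFree M) : FlatMod.IsFinLocFree N :=
  haveI := isLocallyNoetherian_PY n Y
  VBResLib.vb_of_iso e (LocSuppLib.isCoh_of_isFinLocFree h) h

instance vbP_iso : (KRR.vbP (KRR.PY n Y)).IsClosedUnderIsomorphisms := ⟨fun e h => vb_iso e h⟩

instance vbP_zero : (KRR.vbP (KRR.PY n Y)).ContainsZero :=
  ⟨⟨0, isZero_zero _, vb_zero (isZero_zero _)⟩⟩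

instance RP_iso : (RP n Y).IsClosedUnderIsomorphisms :=
  ⟨fun e h => ⟨vb_iso e h.1, isRegSheaf_of_iso h.2 e.symm⟩⟩

instance RP_zero : (RP n Y).ContainsZero := by
  obtain ⟨Z, hZ, hP⟩ := (KRR.vbP (KRR.PY n Y)).exists_prop_of_containsZero
  exact ⟨⟨Z, hZ, hP, isRegSheaf_of_isZero hZ⟩⟩

theorem vb_cycles {F : (KRR.PY n Y).Modules} (hF : FlatMod.IsFinLocFree F) (k : ℤ) :
    FlatMod.IsFinLocFree ((Kz F (coordList n Y)).cycles k) := by
  haveI := isLocallyNoetherian_PY n Y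
  let K := Kz F (coordList n Y)
  have hK : K.Acyclic := acyclic (isInvertible_O1 n Y) F (coordList n Y) exists_genAt_coordList
  have hX : ∀ k, FlatMod.IsFinLocFree (K.X k) := fun k => by
    refine vb_iso (nonempty_twF_zero _).some ?_
    have := (term_class (KRR.vbP (KRR.PY n Y)) (fun A B hA hB => Groth.Agent.PerfLib.isFinLocFree_biprod hA hB)
      (fun j => vb_twF hF _) (coordList n Y) 0).1 k
    simpa using this
  have main : ∀ t : ℕ, FlatMod.IsFinLocFree (K.cycles (1 - (t : ℤ))) := by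
    intro t
    induction t with
    | zero => exact vb_zero (IsZero.of_mono (K.iCycles _) (isZero_X F _ _ (Or.inl (by simp))))
    | succ t ih =>
      have hse := cycles_shortExact K hK (1 - ((t + 1 : ℕ) : ℤ)) (1 - (t : ℤ)) (by push_cast; ring)
      have hc := VBResLib.isCoh_X₁ hse (LocSuppLib.isCoh_of_isFinLocFree (hX _)) (LocSuppLib.isCoh_of_isFinLocFree ih)
      exact VBResLib.vb_of_pd_zero hc fun x =>
        VBResLib.PdAt.ker hse (d := 0) (VBResLib.pdAt_of_vb (hX _) x 0) (VBResLib.pdAt_of_vb ih x 0)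
  rcases le_or_gt k 1 with h | h
  · obtain ⟨t, rfl⟩ : ∃ t : ℕ, k = 1 - (t : ℤ) := ⟨(1 - k).toNat, by omega⟩
    exact main t
  · exact vb_zero (IsZero.of_mono (K.iCycles _) (isZero_X F _ _ (Or.inl (by omega))))

theorem RP_biprod {A B : (KRR.PY n Y).Modules} (hA : RP n Y A) (hB : RP n Y B) : RP n Y (A ⊞ B) :=
  ⟨Groth.Agent.PerfLib.isFinLocFree_biprod hA.1 hB.1, fun i hi => V.biprod (hA.2 i hi) (hB.2 i hi)⟩

theorem RP_twist {F : (KRR.PY n Y).Modules} (hF : RP n Y F) (j : ℕ) : RP n Y (KRR.twF n Y (j : ℤ) F) :=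
  haveI := isLocallyNoetherian_PY n Y
  ⟨vb_twF hF.1 _, isRegSheaf_twF hF.2 j⟩

theorem RP_cycles {F : (KRR.PY n Y).Modules} (hF : RP n Y F) (k : ℤ) :
    RP n Y ((Kz F (coordList n Y)).cycles k) := by
  refine ⟨vb_cycles hF.1 k, ?_⟩
  let K := Kz F (coordList n Y)
  have hK : K.Acyclic := acyclic (isInvertible_O1 n Y) F (coordList n Y) exists_genAt_coordList
  have hX : ∀ k, KRR.IsRegSheaf n Y (K.X k) := fun k => by
    refine isRegSheaf_of_iso (G := KRR.twF n Y 0 (K.X k)) ?_ (nonempty_twF_zero _).some.symm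
    have := ((term_class (RP n Y) (fun A B => RP_biprod) (RP_twist hF) (coordList n Y) 0).1 k).2
    simpa using this
  have hlow : ∀ k : ℤ, k ≤ -((n + 1 : ℕ) : ℤ) → KRR.IsRegSheaf n Y (K.cycles k) := fun k hk => by
    have hse := cycles_shortExact K hK (k - 1) k (by ring)
    haveI : Epi (K.toCycles (k - 1) k) := hse.epi_g
    refine isRegSheaf_of_isZero (IsZero.of_epi (K.toCycles (k - 1) k) (isZero_X F _ _ (Or.inr ?_)))
    rw [length_coordList]; omega
  have main : ∀ t : ℕ, KRR.IsRegSheaf n Y (K.cycles (-((n + 1 : ℕ) : ℤ) + t)) := by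
    intro t
    induction t with
    | zero => exact hlow _ (by simp)
    | succ t ih =>
      have hse := cycles_shortExact K hK (-((n + 1 : ℕ) : ℤ) + t) (-((n + 1 : ℕ) : ℤ) + (t + 1 : ℕ))
        (by push_cast; ring)
      have h1 := isRegSheaf_twF ih 1
      rw [Nat.cast_one] at h1
      exact isRegSheaf_X3' hse (hX _) h1
  rcases le_or_gt k (-((n + 1 : ℕ) : ℤ)) with h | h
  · exact hlow k h
  · obtain ⟨t, rfl⟩ : ∃ t : ℕ, k = -((n + 1 : ℕ) : ℤ) + t := ⟨(k + (n + 1 : ℕ)).toNat, by omega⟩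
    exact main t

variable (n Y) in
/-- Bundles whose `m`-th twist is regular. -/
def PM (m : ℕ) (F : (KRR.PY n Y).Modules) : Prop :=
  FlatMod.IsFinLocFree F ∧ KRR.IsRegSheaf n Y (KRR.twF n Y (m : ℤ) F)

theorem PM_zero_iff {F : (KRR.PY n Y).Modules} : PM n Y 0 F ↔ RP n Y F := by
  obtain ⟨e⟩ := nonempty_twF_zero F
  exact ⟨fun h => ⟨h.1, isRegSheaf_of_iso (by simpa using h.2) e.symm⟩,
    fun h => ⟨h.1, by simpa using isRegSheaf_of_iso h.2 e⟩⟩

theorem PM_mono {m m' : ℕ} (h : m ≤ m') {F : (KRR.PY n Y).Modules} (hF : PM n Y m F) : PM n Y m' F := by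
  obtain ⟨e⟩ := nonempty_twF_add n Y ((m' - m : ℕ) : ℤ) (m : ℤ) F
  refine ⟨hF.1, isRegSheaf_of_iso (isRegSheaf_twF hF.2 (m' - m)) ?_⟩
  exact (e ≪≫ eqToIso (congrArg (fun d => KRR.twF n Y d F) (by omega))).symm

theorem PM_twist {m : ℕ} {F : (KRR.PY n Y).Modules} (hF : PM n Y (m + 1) F) (j : ℕ) :
    PM n Y m (KRR.twF n Y ((j + 1 : ℕ) : ℤ) F) := by
  haveI := isLocallyNoetherian_PY n Y
  obtain ⟨e₁⟩ := nonempty_twF_add n Y (m : ℤ) ((j + 1 : ℕ) : ℤ) F
  obtain ⟨e₂⟩ := nonempty_twF_add n Y (j : ℤ) ((m + 1 : ℕ) : ℤ) F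
  refine ⟨vb_twF hF.1 _, isRegSheaf_of_iso (isRegSheaf_twF hF.2 j) ?_⟩
  exact e₁ ≪≫ eqToIso (congrArg (fun d => KRR.twF n Y d F) (by push_cast; ring)) ≪≫ e₂.symm

theorem exists_PM {F : (KRR.PY n Y).Modules} (hF : FlatMod.IsFinLocFree F) : ∃ m, PM n Y m F := by
  obtain ⟨N, hN⟩ := exists_V_shift hF
  refine ⟨N, hF, fun i hi => (V_twF_iff i _ _ F).2 ((hN i hi).congr (by ring))⟩

variable (n Y) in
/-- The Koszul coefficients. -/
abbrev cf (j : ℕ) : ℤ := (-1 : ℤ) ^ j * ((n + 1).choose j : ℤ)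

variable (n Y) in
/-- The candidate inverse on bundles of bounded regularity. -/
def psi : ℕ → (KRR.PY n Y).Modules → KZero.K0sub (RP n Y)
  | 0, F => KZero.clSub (RP n Y) F
  | m + 1, F => -∑ j ∈ Finset.range (n + 1), cf n (j + 1) • psi m (KRR.twF n Y ((j + 1 : ℕ) : ℤ) F)

theorem psi_add : ∀ (m : ℕ) (S : ShortComplex (KRR.PY n Y).Modules), S.ShortExact →
    PM n Y m S.X₁ → PM n Y m S.X₂ → PM n Y m S.X₃ → psi n Y m S.X₂ = psi n Y m S.X₁ + psi n Y m S.X₃ := by
  intro m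
  induction m with
  | zero =>
    intro S hS h₁ h₂ h₃
    exact clSub_add (RP n Y) S hS (PM_zero_iff.1 h₁) (PM_zero_iff.1 h₂) (PM_zero_iff.1 h₃)
  | succ m ih =>
    intro S hS h₁ h₂ h₃
    simp only [psi]
    rw [← neg_add, ← Finset.sum_add_distrib]
    refine congrArg Neg.neg (Finset.sum_congr rfl fun j _ => ?_)
    rw [← zsmul_add]
    exact congrArg (cf n (j + 1) • ·)
      (ih _ (shortExact_twF n Y ((j + 1 : ℕ) : ℤ) hS) (PM_twist h₁ j) (PM_twist h₂ j) (PM_twist h₃ j))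

theorem psi_succ : ∀ (m : ℕ) (F : (KRR.PY n Y).Modules), PM n Y m F → psi n Y (m + 1) F = psi n Y m F := by
  intro m
  induction m with
  | zero =>
    intro F hF
    have h := koszul_relation (RP n Y) (fun A B => RP_biprod) (RP_twist (PM_zero_iff.1 hF))
      (RP_cycles (PM_zero_iff.1 hF))
    rw [Finset.sum_range_succ'] at h
    simp only [psi]
    rw [eq_comm, eq_neg_iff_add_eq_zero]
    refine Eq.trans ?_ h
    rw [add_comm]
    simp only [cf, pow_zero, Nat.choose_zero_right, Nat.cast_one, one_mul, one_smul]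
    exact congrArg (_ + ·) (clSub_congr (RP n Y) (nonempty_twF_zero F).some).symm
  | succ m ih =>
    intro F hF
    simp only [psi]
    refine congrArg Neg.neg (Finset.sum_congr rfl fun j _ => congrArg (cf n (j + 1) • ·) ?_)
    exact ih _ (PM_twist hF j)

theorem psi_stable {m m' : ℕ} (h : m ≤ m') {F : (KRR.PY n Y).Modules} (hF : PM n Y m F) :
    psi n Y m' F = psi n Y m F := by
  induction m', h using Nat.le_induction with
  | base => rfl
  | succ k hk ih => rw [psi_succ k F (PM_mono hk hF), ih]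

theorem mapSub_psi (h : ∀ M, RP n Y M → FlatMod.IsFinLocFree M) : ∀ (m : ℕ) (F : (KRR.PY n Y).Modules),
    PM n Y m F → SGA6.mapSub (𝟭 (KRR.PY n Y).Modules) (RP n Y) (KRR.vbP (KRR.PY n Y)) h (psi n Y m F) =
      KZero.clSub (KRR.vbP (KRR.PY n Y)) F := by
  intro m
  induction m with
  | zero =>
    intro F hF
    exact VBResLib.mapSub_clSub (𝟭 (KRR.PY n Y).Modules) (RP n Y) (KRR.vbP (KRR.PY n Y)) h (PM_zero_iff.1 hF)
  | succ m ih =>
    intro F hF
    haveI := isLocallyNoetherian_PY n Y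
    simp only [psi, map_neg, map_sum, map_zsmul]
    rw [Finset.sum_congr rfl fun j _ => congrArg (cf n (j + 1) • ·) (ih _ (PM_twist hF j))]
    have hk := koszul_relation (KRR.vbP (KRR.PY n Y)) (fun A B hA hB => Groth.Agent.PerfLib.isFinLocFree_biprod hA hB)
      (fun j => vb_twF hF.1 _) (vb_cycles hF.1)
    rw [Finset.sum_range_succ'] at hk
    rw [neg_eq_iff_add_eq_zero]
    refine Eq.trans ?_ hk
    simp only [cf, pow_zero, Nat.choose_zero_right, Nat.cast_one, one_mul, one_smul]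
    exact congrArg (_ + ·) (clSub_congr (KRR.vbP (KRR.PY n Y)) (nonempty_twF_zero F).some).symm

/-- `K₀` of regular bundles is `K₀` of bundles. -/
theorem bijective_mapSub (h : ∀ M, RP n Y M → FlatMod.IsFinLocFree M) :
    Function.Bijective (SGA6.mapSub (𝟭 (KRR.PY n Y).Modules) (RP n Y) (KRR.vbP (KRR.PY n Y)) h) := by
  classical
  let ι := SGA6.mapSub (𝟭 (KRR.PY n Y).Modules) (RP n Y) (KRR.vbP (KRR.PY n Y)) h
  let f : (KRR.PY n Y).Modules → KZero.K0sub (RP n Y) := fun F =>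
    if hF : FlatMod.IsFinLocFree F then psi n Y (Classical.choose (exists_PM hF)) F else 0
  have hf : ∀ {F : (KRR.PY n Y).Modules} (hF : FlatMod.IsFinLocFree F) {m : ℕ}, PM n Y m F → f F = psi n Y m F := by
    intro F hF m hm
    simp only [f, dif_pos hF]
    have h0 := Classical.choose_spec (exists_PM hF)
    rw [← psi_stable (le_max_left _ m) h0, ← psi_stable (le_max_right _ m) hm]
  obtain ⟨Φ, hΦ⟩ := exists_lift_sub (KRR.vbP (KRR.PY n Y)) f fun S hS h₁ h₂ h₃ => by
    obtain ⟨m₁, hm₁⟩ := exists_PM h₁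
    obtain ⟨m₂, hm₂⟩ := exists_PM h₂
    obtain ⟨m₃, hm₃⟩ := exists_PM h₃
    let M := m₁ + m₂ + m₃
    have k₁ := PM_mono (show m₁ ≤ M by omega) hm₁
    have k₂ := PM_mono (show m₂ ≤ M by omega) hm₂
    have k₃ := PM_mono (show m₃ ≤ M by omega) hm₃
    rw [hf h₁ k₁, hf h₂ k₂, hf h₃ k₃]
    exact psi_add M S hS k₁ k₂ k₃
  have hleft : ∀ x, Φ (ι x) = x := by
    intro x
    have hx : x ∈ AddSubgroup.closure {x | ∃ X, RP n Y X ∧ KZero.clSub (RP n Y) X = x} := by
      rw [clSub_closure_eq_top]; trivial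
    induction hx using AddSubgroup.closure_induction with
    | mem y hy =>
      obtain ⟨X, hX, rfl⟩ := hy
      rw [VBResLib.mapSub_clSub (𝟭 (KRR.PY n Y).Modules) (RP n Y) (KRR.vbP (KRR.PY n Y)) h hX]
      refine (hΦ X (h X hX)).trans ?_
      rw [hf (h X hX) (PM_zero_iff.2 hX)]
      rfl
    | zero => simp
    | add a b _ _ ha hb => rw [map_add, map_add, ha, hb]
    | neg a _ ha => rw [map_neg, map_neg, ha]
  refine ⟨fun a b hab => by rw [← hleft a, ← hleft b]; exact congrArg Φ hab, fun y => ⟨Φ y, ?_⟩⟩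
  have hy : y ∈ AddSubgroup.closure {y | ∃ X, KRR.vbP (KRR.PY n Y) X ∧ KZero.clSub (KRR.vbP (KRR.PY n Y)) X = y} := by
    rw [clSub_closure_eq_top]; trivial
  induction hy using AddSubgroup.closure_induction with
  | mem y hy =>
    obtain ⟨X, hX, rfl⟩ := hy
    obtain ⟨m, hm⟩ := exists_PM hX
    rw [hΦ X hX, hf hX hm]
    exact mapSub_psi h m X hm
  | zero => simp
  | add a b _ _ ha hb => rw [map_add, map_add, ha, hb]
  | neg a _ ha => rw [map_neg, map_neg, ha]

end KRRRegLib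

end
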