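import Groth.Agent.KRRRegLib.Chase
import Groth.Agent.ColimQsLib.Main
import Groth.Agent.RpushLib.Vanish
import Groth.Agent.PnCohLib.Twist
import Groth.Agent.CohGenLib.Pro
import Groth.Agent.KoszOrthLib.PnVan
import Groth.Agent.MiscFlat6.TensorGG
import Groth.Agent.QCohLib.BoundUniform
import Groth.Agent.AmpleDevLib.Devissage
import Groth.Agent.QCohLib.OpenRestr
import Groth.Agent.AnLib.FibBaseChange
import Groth.Agent.AmpleFinGenLib.Regular
import Groth.Agent.KFlatLib.PullTensor
import Groth.Agent.KFlatLib.QCohPull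
import Groth.Agent.S9498
import Mathlib.CategoryTheory.Limits.Constructions.Filtered

/-!
# Pullbacks from the base to projective space are regular
-/

set_option autoImplicit false
set_option linter.all false
set_option backward.isDefEq.respectTransparency false
set_option backward.isDefEq.respectTransparency.types false
set_option maxHeartbeats 1000000

universe u

open CategoryTheory CategoryTheory.Limits AlgebraicGeometry TopologicalSpace

noncomputable section

namespace KRRRegLib

open Groth.Agent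

theorem subsingleton_HU_finite {X : TopCat.{u}} {α : Type u} [Finite α] (f : α → QCohLib.AbSh X) [HasCoproduct f]
    {q : ℕ} {U : Opens X} (h : ∀ a, Subsingleton (QCohLib.HU (f a) q U)) :
    Subsingleton (QCohLib.HU (∐ f) q U) := by
  classical
  haveI := Fintype.ofFinite α
  haveI : HasFiniteBiproducts (QCohLib.AbSh X) := Abelian.hasFiniteBiproducts
  haveI : HasBiproduct f := HasBiproductsOfShape.has_biproduct f
  haveI : Subsingleton (QCohLib.HU (⨁ f) q U) := by
    refine subsingleton_of_forall_eq 0 fun x => ?_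
    have htot : ∑ j, biproduct.π f j ≫ biproduct.ι f j = 𝟙 (⨁ f) := by
      refine biproduct.hom_ext _ _ fun k => ?_
      simp [Preadditive.sum_comp, biproduct.ι_π, comp_dite, Finset.sum_dite_eq']
    have h1 : x.comp (Abelian.Ext.mk₀ (∑ j, biproduct.π f j ≫ biproduct.ι f j)) (add_zero q) =
        x.comp (Abelian.Ext.mk₀ (𝟙 (⨁ f))) (add_zero q) := by rw [htot]
    simp only [Abelian.Ext.mk₀_sum, Abelian.Ext.comp_sum, Abelian.Ext.comp_mk₀_id] at h1
    rw [← h1]
    refine Finset.sum_eq_zero fun a _ => ?_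
    haveI := h a
    rw [← Abelian.Ext.mk₀_comp_mk₀, ← Abelian.Ext.comp_assoc_of_third_deg_zero,
      Subsingleton.elim (x.comp (Abelian.Ext.mk₀ (biproduct.π f a)) (add_zero q)) 0, Abelian.Ext.zero_comp]
  exact QCohLib.subsingleton_of_iso (biproduct.isoCoproduct f)

theorem subsingleton_HU_sigma {X : TopCat.{u}} [PrespectralSpace X] {I : Type u} (f : I → QCohLib.AbSh X)
    {q : ℕ} {U : Opens X} (hU : IsCompact (U : Set X)) (hqs : ColimQsLib.QsIn U)
    (h : ∀ i, Subsingleton (QCohLib.HU (f i) q U)) : Subsingleton (QCohLib.HU (∐ f) q U) := by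
  classical
  refine subsingleton_of_forall_eq 0 fun x => ?_
  obtain ⟨s, y, hy⟩ := (ColimQsLib.prop₁ U hU hqs q _ _
    (CoproductsFromFiniteFiltered.isColimitFiniteSubproductsCocone f)).1 x
  haveI : Subsingleton (QCohLib.HU ((CoproductsFromFiniteFiltered.liftToFinsetObj (Discrete.functor f)).obj s) q U) :=
    subsingleton_HU_finite (fun a : s => (Discrete.functor f).obj a) fun a => h _
  rw [← hy, Subsingleton.elim y 0, Abelian.Ext.zero_comp]

/-- Cohomology of twisted pullbacks from an affine base. -/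
theorem subsingleton_HH_twist_pullback (n : ℕ) (A : Type u) [CommRing A] (d : ℤ) (i₀ : ℕ)
    (h : ∀ i, i₀ ≤ i → Subsingleton (Coh.HH (CohB1.ProjSpace n A) (Twist.twistProjSpace n A d) i)) :
    ∀ (N : ModuleCat.{u} (CommRingCat.of A)) (i : ℕ), i₀ ≤ i → Subsingleton (Coh.HH (CohB1.ProjSpace n A)
      ((CurvLib.tensorLeft' (Twist.twistProjSpace n A d)).obj
        ((Scheme.Modules.pullback (CohB1.ProjSpace.toSpec n A)).obj ((tilde.functor (CommRingCat.of A)).obj N))) i) := by
  classical
  obtain ⟨hp, hf, -⟩ := KoszOrthLib.projSpace_hyps n A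
  haveI := hp
  haveI := hf
  let P := CohB1.ProjSpace n A
  let p := CohB1.ProjSpace.toSpec n A
  haveI : CompactSpace P := QuasiCompact.compactSpace_of_compactSpace p
  haveI : QuasiSeparatedSpace P := quasiSeparatedSpace_of_quasiSeparated p
  let L := Twist.twistProjSpace n A d
  have hL : PicF.IsInvertible L := PicPnLib.twist_inv n A d
  haveI : (CurvLib.tensorLeft' L).IsEquivalence := by
    obtain ⟨c, hc⟩ := CubeConsLib.exists_inverse hL
    obtain ⟨L', rfl⟩ := Quotient.exists_rep c
    obtain ⟨e⟩ := CubeConsLib.cl_eq_one_iff.1 hc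
    exact VBP1Lib.isEquivalence_tensor e
  let G : ModuleCat.{u} (CommRingCat.of A) ⥤ P.Modules :=
    tilde.functor (CommRingCat.of A) ⋙ Scheme.Modules.pullback p ⋙ CurvLib.tensorLeft' L
  haveI := CohGenLib.preservesFiniteLimits_pullback_flat p
  haveI : PreservesFiniteLimits (tilde.functor (CommRingCat.of A)) := (S9498.result A).1
  haveI : PreservesFiniteColimits (tilde.functor (CommRingCat.of A)) := (S9498.result A).2
  haveI : (Scheme.Modules.pullback p).IsLeftAdjoint :=
    (Scheme.Modules.pullbackPushforwardAdjunction p).isLeftAdjoint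
  haveI : PreservesFiniteColimits (Scheme.Modules.pullback p) := inferInstance
  haveI : (tilde.functor (CommRingCat.of A)).IsLeftAdjoint := (tilde.adjunction).isLeftAdjoint
  let eA : G.obj (ModuleCat.of A A) ≅ L :=
    (CurvLib.tensorLeft' L).mapIso ((Scheme.Modules.pullback p).mapIso tildeSelf ≪≫ KFlatLib.pullUnitIso p) ≪≫
      PicPnLib.unitRight L
  have hqcG : ∀ N, Coh.IsQCoh (G.obj N) := fun N => by
    haveI : Coh.IsQCoh ((tilde.functor (CommRingCat.of A)).obj N) :=
      inferInstanceAs ((tilde (R := CommRingCat.of A) N).IsQuasicoherent)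
    haveI := KFlatLib.isQCoh_pullback p ((tilde.functor (CommRingCat.of A)).obj N)
    exact @QCohLib.isQCoh_of_iso _ _ _ (HilbPolyLib.swapIso _ L) (MiscFlat6.isQCoh_tensor hL)
  have hqs : ColimQsLib.QsIn (⊤ : Opens (P : Scheme.{u}).toTopCat) := fun V W _ _ hV hW =>
    (quasiSeparatedSpace_iff P).mp inferInstance _ _ V.2 hV W.2 hW
  haveI : PrespectralSpace ↥P.toTopCat := inferInstanceAs (PrespectralSpace P)
  haveI : CompactSpace ↥P.toTopCat := inferInstanceAs (CompactSpace P)
  obtain ⟨D, hD⟩ := QCohLib.uBounded_of_isCompact (⊤ : P.Opens) (by simpa using isQuasiSeparated_univ)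
    (⊤ : P.Opens) (by simpa using isCompact_univ) le_rfl
  have main : ∀ k : ℕ, ∀ (N : ModuleCat.{u} (CommRingCat.of A)) (i : ℕ), i₀ ≤ i → D ≤ i + k →
      Subsingleton (QCohLib.HU ((QCohLib.toAbF P).obj (G.obj N)) i ⊤) := by
    intro k
    induction k with
    | zero =>
      intro N i _ hi
      have := hD (1 : Γ(P, ⊤)) (G.obj N) (hqcG N) i hi
      have e : (⊤ : P.Opens) ⊓ P.basicOpen (1 : Γ(P, ⊤)) = ⊤ := by
        rw [top_inf_eq]; exact P.basicOpen_of_isUnit isUnit_one
      rwa [e] at this
    | succ k ih =>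
      intro N i hi hk
      let f : N → ModuleCat.{u} (CommRingCat.of A) := fun _ => ModuleCat.of A A
      let π : (∐ f) ⟶ N := Sigma.desc fun x => ModuleCat.ofHom (LinearMap.toSpanSingleton A N x)
      haveI : Epi π := by
        rw [ModuleCat.epi_iff_surjective]
        intro x
        refine ⟨(Sigma.ι f x).hom (1 : A), ?_⟩
        show (Sigma.ι f x ≫ π).hom (1 : A) = x
        rw [Sigma.ι_desc]
        exact one_smul A x
      have hS : (ShortComplex.mk (kernel.ι π) π (kernel.condition π)).ShortExact :=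
        ShortComplex.ShortExact.mk (ShortComplex.exact_kernel π)
      haveI : PreservesFiniteLimits G := inferInstance
      haveI : PreservesFiniteColimits G := inferInstance
      have hS' := (hS.map_of_exact G).map_of_exact (QCohLib.toAbF P)
      haveI := ih (kernel π) (i + 1) (by omega) (by omega)
      haveI : PreservesColimitsOfSize.{u, u} G := inferInstance
      let e : (QCohLib.toAbF P).obj (G.obj (∐ f)) ≅ ∐ fun x => (QCohLib.toAbF P).obj (G.obj (f x)) :=
        PreservesCoproduct.iso (G ⋙ QCohLib.toAbF P) f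
      haveI : Subsingleton (QCohLib.HU (∐ fun x => (QCohLib.toAbF P).obj (G.obj (f x))) i ⊤) :=
        subsingleton_HU_sigma _ (by simpa using isCompact_univ) hqs fun x => by
          haveI := AmpleDevLib.hu_of_hh (h i hi)
          exact QCohLib.subsingleton_of_iso ((QCohLib.toAbF P).mapIso eA).symm
      haveI : Subsingleton (QCohLib.HU (((ShortComplex.mk (kernel.ι π) π (kernel.condition π)).map G).map
          (QCohLib.toAbF P)).X₂ i ⊤) := QCohLib.subsingleton_of_iso e.symm
      haveI : Subsingleton (QCohLib.HU (((ShortComplex.mk (kernel.ι π) π (kernel.condition π)).map G).map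
          (QCohLib.toAbF P)).X₁ (i + 1) ⊤) := ‹Subsingleton (QCohLib.HU ((QCohLib.toAbF P).obj (G.obj (kernel π))) (i + 1) ⊤)›
      exact QCohLib.subsingleton_X₃ hS'
  intro N i hi
  exact AmpleDevLib.hh_of_hu (main D N i hi (Nat.le_add_left D i))

variable {n : ℕ} {T : Scheme.{u}}

/-- The pullback of a quasi-coherent module is regular. -/
theorem isRegSheaf_pullback (E : T.Modules) [Coh.IsQCoh E] :
    KRR.IsRegSheaf n T ((Scheme.Modules.pullback (KRR.pr n T)).obj E) := by
  intro i hi
  let f := KRR.pr n T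
  haveI : IsProper f := ChowLib.isProper_toBase n T
  let O' := Twist.twistOver n T (-(i : ℤ))
  let M := KRR.twF n T (-(i : ℤ)) ((Scheme.Modules.pullback f).obj E)
  haveI := KFlatLib.isQCoh_pullback f E
  haveI : Coh.IsQCoh M :=
    @QCohLib.isQCoh_of_iso _ _ _ (HilbPolyLib.swapIso _ O') (MiscFlat6.isQCoh_tensor (PicPnLib.twistOver_inv n T _))
  refine RpushLib.isZero_rpushAb f M i fun y => ⟨⊤, trivial, fun W hW _ => ?_⟩
  obtain ⟨j, hj, hd⟩ := PicPnLib.exists_square n Γ(T, W) hW.fromSpec
  haveI : IsOpenImmersion j := MorphismProperty.of_isPullback hj.flip (inferInstance : IsOpenImmersion hW.fromSpec)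
  obtain ⟨e⟩ := hd (-(i : ℤ))
  have hr : j ''ᵁ ⊤ = f ⁻¹ᵁ W := by
    rw [Scheme.Hom.image_top_eq_opensRange]
    apply TopologicalSpace.Opens.ext
    rw [Scheme.Hom.coe_opensRange, AnLib.range_eq_preimage_of_isPullback hj.flip, hW.range_fromSpec]
    rfl
  obtain ⟨e₁⟩ := QCohLib.nonempty_HU_restrict j M i ⊤
  obtain ⟨e₂⟩ := QCohLib.nonempty_HU_restrict (f ⁻¹ᵁ W).ι M i ⊤
  haveI : Subsingleton (QCohLib.HU ((QCohLib.toAbF _).obj M) i (j ''ᵁ ⊤)) := by
    let E' := (Scheme.Modules.pullback hW.fromSpec).obj E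
    haveI : Coh.IsQCoh E' := KFlatLib.isQCoh_pullback hW.fromSpec E
    haveI := KFlatLib.isIso_counit_of_qcoh E' inferInstance
    let c : (Scheme.Modules.pullback j).obj ((Scheme.Modules.pullback f).obj E) ≅
        (Scheme.Modules.pullback (CohB1.ProjSpace.toSpec n Γ(T, W))).obj E' :=
      (Scheme.Modules.pullbackComp j f).app E ≪≫ (Scheme.Modules.pullbackCongr hj.w).app E ≪≫
        ((Scheme.Modules.pullbackComp _ hW.fromSpec).app E).symm
    let t := asIso ((tilde.adjunction (R := CommRingCat.of Γ(T, W))).counit.app E')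
    haveI := KFlatLib.isIso_pullθ j O' ((Scheme.Modules.pullback f).obj E)
    let a : M.restrict j ≅ (CurvLib.tensorLeft' (Twist.twistProjSpace n Γ(T, W) (-(i : ℤ)))).obj
        ((Scheme.Modules.pullback (CohB1.ProjSpace.toSpec n Γ(T, W))).obj ((tilde.functor _).obj _)) :=
      (Scheme.Modules.restrictFunctorIsoPullback j).app M ≪≫
        asIso (KFlatLib.pullθ j O' ((Scheme.Modules.pullback f).obj E)) ≪≫
        HilbPolyLib.congrLeft e _ ≪≫
        (CurvLib.tensorLeft' (Twist.twistProjSpace n Γ(T, W) (-(i : ℤ)))).mapIso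
          (c ≪≫ (Scheme.Modules.pullback _).mapIso t.symm)
    have h1 : Subsingleton (Coh.HH _ (M.restrict j) i) :=
      SerreVanLib.subsingleton_HH_of_iso a i (subsingleton_HH_twist_pullback n Γ(T, W) (-(i : ℤ)) i
        (fun k hk => PnCohLib.subsingleton_HH_twist _ k (fun h => by omega) (fun h => by omega)) _ i le_rfl)
    haveI := AmpleDevLib.hu_of_hh h1
    exact e₁.symm.injective.subsingleton
  refine AmpleDevLib.hh_of_hu ?_
  haveI : Subsingleton (QCohLib.HU ((QCohLib.toAbF _).obj M) i ((f ⁻¹ᵁ W).ι ''ᵁ ⊤)) := by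
    rw [Scheme.Opens.ι_image_top, ← hr]; assumption
  exact e₂.injective.subsingleton

end KRRRegLib

end
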