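import Groth.Agent.KRRRegLib.Chase
import Groth.Agent.RpushLib.Ab

/-!
# The kernel of a surjection onto a regular sheaf
-/

set_option autoImplicit false
set_option linter.all false
set_option backward.isDefEq.respectTransparency false
set_option backward.isDefEq.respectTransparency.types false

universe u

open CategoryTheory CategoryTheory.Limits AlgebraicGeometry

noncomputable section

namespace KRRRegLib

open Groth.Agent

variable {n : ℕ} {T : Scheme.{u}}

theorem isRegSheaf_X1 {S : ShortComplex (KRR.PY n T).Modules} (hS : S.ShortExact)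
    (h₂ : KRR.IsRegSheaf n T (KRR.twF n T 1 S.X₂)) (h₃ : KRR.IsRegSheaf n T S.X₃)
    (hepi : Epi ((Scheme.Modules.pushforward (KRR.pr n T)).map S.g)) :
    KRR.IsRegSheaf n T (KRR.twF n T 1 S.X₁) := by
  intro i hi
  obtain ⟨j, rfl⟩ := Nat.exists_eq_add_of_le' hi
  refine (V_twF_iff (j + 1) _ 1 S.X₁).2 (V.congr (d := -(j : ℤ)) ?_ (by push_cast; ring))
  have h2' : V (j + 1) (-(j : ℤ)) S.X₂ :=
    ((V_twF_iff (j + 1) _ 1 S.X₂).1 (h₂ (j + 1) (Nat.le_add_left 1 j))).congr (by push_cast; ring)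
  refine RDerLib.isZero_X₁_succ (F := Coh.pushAb (KRR.pr n T)) (shortExact_ab n T (-(j : ℤ)) hS) j h2' ?_
  rcases Nat.eq_zero_or_pos j with rfl | hj
  · refine (RDerLib.epi_map_g_iff (F := Coh.pushAb (KRR.pr n T)) _).2 ?_
    haveI := hepi
    have h1 : Epi ((QCohLib.toAbF T).map ((Scheme.Modules.pushforward (KRR.pr n T)).map S.g)) := inferInstance
    let Fu := QCohLib.toAbF (KRR.PY n T) ⋙ Coh.pushAb (KRR.pr n T)
    have e0 : twFun n T 0 ≅ 𝟭 _ :=
      (DCoh.tensorBi (X := KRR.PY n T)).mapIso (PicPnLib.twistOver_zero n T).some ≪≫ VBP1Lib.unitNatIso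
    have h2 : Epi (Fu.map ((twFun n T 0).map S.g)) :=
      (MorphismProperty.arrow_mk_iso_iff (MorphismProperty.epimorphisms _)
        (Arrow.isoMk (Fu.mapIso (e0.app S.X₂)) (Fu.mapIso (e0.app S.X₃))
          (by simp only [Arrow.mk_hom, Functor.mapIso_hom, Iso.app_hom]
              exact (Fu.map_comp _ _).symm.trans
                ((congrArg Fu.map (e0.hom.naturality S.g)).symm.trans (Fu.map_comp _ _))))).2 h1
    simpa [Fu] using h2
  · exact (IsZero.epi (h₃ j hj) _)

end KRRRegLib

end
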