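import Groth.Agent.KRRRegLib.Gen
import Groth.Agent.KRRRegLib.X1
import Groth.Agent.KRRRegLib.PullReg
import Groth.Agent.QCohLib.Push
import Groth.Agent.QCohLib.Coherent

/-!
# The kernel of the counit of a regular sheaf
-/

set_option autoImplicit false
set_option linter.all false

set_option maxHeartbeats 200000

universe u

open CategoryTheory CategoryTheory.Limits AlgebraicGeometry

noncomputable section

namespace KRRRegLib

variable {n : ℕ} {T : Scheme.{u}}

/-- `p^* p_* F`. -/
abbrev cover0 (F : (KRR.PY n T).Modules) : (KRR.PY n T).Modules :=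
  (Scheme.Modules.pullback (KRR.pr n T)).obj ((Scheme.Modules.pushforward (KRR.pr n T)).obj F)

theorem isRegSheaf_cover0 {F : (KRR.PY n T).Modules} [Coh.IsQCoh F] : KRR.IsRegSheaf n T (cover0 F) := by
  haveI : IsProper (KRR.pr n T) := ChowLib.isProper_toBase n T
  haveI := QCohLib.isQCoh_pushforward (KRR.pr n T) F
  exact isRegSheaf_pullback _

theorem isRegSheaf_kernel {F : (KRR.PY n T).Modules} [Coh.IsQCoh F] (hreg : KRR.IsRegSheaf n T F) :
    KRR.IsRegSheaf n T (KRR.twF n T 1
      (kernel ((Scheme.Modules.pullbackPushforwardAdjunction (KRR.pr n T)).counit.app F))) := by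
  let adj := Scheme.Modules.pullbackPushforwardAdjunction (KRR.pr n T)
  haveI := epi_counit hreg
  have hS : (ShortComplex.mk (kernel.ι (adj.counit.app F)) (adj.counit.app F)
      (kernel.condition _)).ShortExact := ShortComplex.ShortExact.mk (ShortComplex.exact_kernel _)
  have h₂ : KRR.IsRegSheaf n T (KRR.twF n T ((1 : ℕ) : ℤ) (cover0 F)) := isRegSheaf_twF isRegSheaf_cover0 1
  rw [Nat.cast_one] at h₂
  haveI : IsSplitEpi ((Scheme.Modules.pushforward (KRR.pr n T)).map (adj.counit.app F)) :=
    IsSplitEpi.mk' ⟨adj.unit.app ((Scheme.Modules.pushforward (KRR.pr n T)).obj F), adj.right_triangle_components F⟩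
  have key : ∀ {A B C : (KRR.PY n T).Modules} (a : A ⟶ B) (b : B ⟶ C) (w : a ≫ b = 0)
      (h : (ShortComplex.mk a b w).ShortExact), KRR.IsRegSheaf n T (KRR.twF n T 1 B) → KRR.IsRegSheaf n T C →
      Epi ((Scheme.Modules.pushforward (KRR.pr n T)).map b) → KRR.IsRegSheaf n T (KRR.twF n T 1 A) :=
    fun a b w h hB hC he => @isRegSheaf_X1 n T (ShortComplex.mk a b w) h hB hC he
  exact key _ _ _ hS h₂ hreg inferInstance

end KRRRegLib

end
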