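import Groth.Agent.KoszOrthLib.Inv
import Groth.Agent.KFlatLib.Stalk
import Groth.Agent.DerLib.LerayAcyclic
import Mathlib.Algebra.Homology.HomotopyCategory.MappingCone

/-!
# The Koszul complex of sections of an invertible module, with coefficients in a module
-/

set_option autoImplicit false
set_option linter.all false
set_option backward.isDefEq.respectTransparency false
set_option backward.isDefEq.respectTransparency.types false
set_option maxHeartbeats 1000000

universe u

open CategoryTheory CategoryTheory.Limits AlgebraicGeometry TopologicalSpace HomologicalComplex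

noncomputable section

namespace KRRRegLib

open Groth.Agent
open Groth.Agent.KoszOrthLib (secNat Scaled scaled_secNat exists_local_eq)

variable {X : Scheme.{u}} {L : X.Modules}

/-- Multiplication by a section, on complexes. -/
def secC (σ : Γ(L, ⊤)) :
    𝟭 (CochainComplex X.Modules ℤ) ⟶ (DCoh.tensorRightMod L).mapHomologicalComplex (ComplexShape.up ℤ) where
  app K := { f := fun i => (secNat L σ).app (K.X i)
             comm' := fun i j _ => ((secNat L σ).naturality (K.d i j)).symm }
  naturality {K K'} f := by
    refine HomologicalComplex.hom_ext _ _ fun i => ?_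
    exact (secNat L σ).naturality (f.f i)

/-- The Koszul complex on a list of sections, in degrees `[-length, 0]`, with top term `F ⊗ L ^ length`. -/
def Kz (F : X.Modules) : List Γ(L, ⊤) → CochainComplex X.Modules ℤ
  | [] => (HomologicalComplex.single X.Modules (ComplexShape.up ℤ) 0).obj F
  | σ :: l => CochainComplex.mappingCone ((secC σ).app (Kz F l))

/-- Functoriality in the coefficients. -/
def kzMap {F G : X.Modules} (ι : F ⟶ G) : ∀ l : List Γ(L, ⊤), Kz F l ⟶ Kz G l
  | [] => (HomologicalComplex.single X.Modules (ComplexShape.up ℤ) 0).map ι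
  | σ :: l => CochainComplex.mappingCone.map _ _ (kzMap ι l)
      (((DCoh.tensorRightMod L).mapHomologicalComplex _).map (kzMap ι l)) ((secC σ).naturality (kzMap ι l)).symm

theorem isZero_X (F : X.Modules) : ∀ (l : List Γ(L, ⊤)) (k : ℤ), 0 < k ∨ k < -(l.length : ℤ) →
    IsZero ((Kz F l).X k)
  | [], k, h => HomologicalComplex.isZero_single_obj_X _ _ _ _ (by simp at h; omega)
  | σ :: l, k, h => by
    simp only [List.length_cons, Nat.cast_succ] at h
    change IsZero ((CochainComplex.mappingCone ((secC σ).app (Kz F l))).X k)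
    rw [CochainComplex.mappingCone.isZero_X_iff]
    exact ⟨isZero_X F l (k + 1) (by omega), (DCoh.tensorRightMod L).map_isZero (isZero_X F l k (by omega))⟩

theorem isIso_stalk_secNat {x : X} (hL : PicF.IsInvertible L) {σ : Γ(L, ⊤)}
    (hσ : AmpleLib.GenAt L σ (show x ∈ (⊤ : X.Opens) from trivial)) (M : X.Modules) :
    IsIso ((DerSch.stalkFunctor X x).map ((secNat L σ).app M)) := by
  obtain ⟨V, hxV, r, e, he, hr⟩ := exists_local_eq hL σ x
  refine (scaled_secNat σ hxV r e he hr M).isIso ?_
  rw [← Scheme.mem_basicOpen, ← AmpleLib.genAt_smul_iff r e hxV (he.genAt hxV), hr, AmpleLib.genAt_res]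
  exact hσ

theorem isZero_stalk_tensor {x : X} (hL : PicF.IsInvertible L) (σ : Γ(L, ⊤)) {M : X.Modules}
    (h : IsZero ((DerSch.stalkFunctor X x).obj M)) :
    IsZero ((DerSch.stalkFunctor X x).obj ((DCoh.tensorRightMod L).obj M)) := by
  obtain ⟨V, hxV, r, e, he, hr⟩ := exists_local_eq hL σ x
  obtain ⟨θ, -⟩ := scaled_secNat σ hxV r e he hr M
  exact h.of_iso θ.symm

theorem acyclic_stalk (hL : PicF.IsInvertible L) (F : X.Modules) (x : X) : ∀ l : List Γ(L, ⊤),
    (∃ σ ∈ l, AmpleLib.GenAt L σ (show x ∈ (⊤ : X.Opens) from trivial)) →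
    (((DerSch.stalkFunctor X x).mapHomologicalComplex (ComplexShape.up ℤ)).obj (Kz F l)).Acyclic := by
  intro l
  induction l with
  | nil => intro h; simp at h
  | cons σ l ih =>
    intro h
    haveI := KoszOrthLib.preservesFiniteLimits_tensorRightMod hL
    haveI := KoszOrthLib.preservesFiniteColimits_tensorRightMod hL
    let S := DerSch.stalkFunctor X x
    let φ := (secC σ).app (Kz F l)
    haveI : QuasiIso ((S.mapHomologicalComplex _).map φ) := by
      obtain ⟨τ, hτ, hg⟩ := h
      rcases List.mem_cons.mp hτ with rfl | hτ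
      · haveI : ∀ i, IsIso (((S.mapHomologicalComplex _).map φ).f i) := fun i =>
          isIso_stalk_secNat hL hg ((Kz F l).X i)
        haveI := HomologicalComplex.Hom.isIso_of_components ((S.mapHomologicalComplex _).map φ)
        infer_instance
      · have hK := ih ⟨τ, hτ, hg⟩
        have hH : ∀ i, IsZero (S.obj ((Kz F l).homology i)) := fun i =>
          (hK i).isZero_homology.of_iso (((Kz F l).sc i).mapHomologyIso S).symm
        refine ⟨fun i => ?_⟩
        rw [quasiIsoAt_iff_exactAt _ _ (hK i), HomologicalComplex.exactAt_iff_isZero_homology]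
        refine (isZero_stalk_tensor hL σ (hH i)).of_iso ?_
        exact (((((DCoh.tensorRightMod L).mapHomologicalComplex _).obj (Kz F l)).sc i).mapHomologyIso S) ≪≫
          S.mapIso (((Kz F l).sc i).mapHomologyIso (DCoh.tensorRightMod L))
    intro i
    exact (DerLib.LerayAcyclic.acyclic_mappingCone ((S.mapHomologicalComplex _).map φ) i).of_iso
      (CochainComplex.mappingCone.mapHomologicalComplexIso φ S).symm

theorem acyclic (hL : PicF.IsInvertible L) (F : X.Modules) (l : List Γ(L, ⊤))
    (h : ∀ x : X, ∃ σ ∈ l, AmpleLib.GenAt L σ (show x ∈ (⊤ : X.Opens) from trivial)) : (Kz F l).Acyclic := by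
  intro i
  rw [HomologicalComplex.exactAt_iff_isZero_homology, KFlatLib.isZero_iff_forall_stalk]
  intro x
  exact (acyclic_stalk hL F x l (h x) i).isZero_homology.of_iso
    (((Kz F l).sc i).mapHomologyIso (DerSch.stalkFunctor X x)).symm

end KRRRegLib

end
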