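import Mathlib.Algebra.Homology.ShortComplex.ShortExact
import Mathlib.Algebra.Homology.QuasiIso
import Mathlib.Algebra.Homology.Single
import Mathlib.Algebra.Homology.SingleHomology

/-!
# Splicing short exact sequences into a resolution
-/

set_option autoImplicit false
set_option linter.all false
set_option backward.isDefEq.respectTransparency false

universe v u

open CategoryTheory CategoryTheory.Limits HomologicalComplex

noncomputable section

namespace KRRRegLib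

variable {C : Type u} [Category.{v} C] [Abelian C]

theorem exists_splice (K A : ℕ → C) (π : ∀ i, A i ⟶ K i) (ι : ∀ i, K (i + 1) ⟶ A i)
    (w : ∀ i, ι i ≫ π i = 0) (h : ∀ i, (ShortComplex.mk (ι i) (π i) (w i)).ShortExact) :
    ∃ (L : ChainComplex C ℕ) (aug : L ⟶ (ChainComplex.single₀ C).obj (K 0)),
      (∀ i, Nonempty (L.X i ≅ A i)) ∧ QuasiIso aug := by
  let L : ChainComplex C ℕ := ChainComplex.of A (fun i => π (i + 1) ≫ ι i) (fun i => by
    rw [Category.assoc, ← Category.assoc (ι (i + 1)), w, zero_comp, comp_zero])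
  have hd : ∀ i, L.d (i + 1) i = π (i + 1) ≫ ι i := fun i => by simp [L]
  let aug : L ⟶ (ChainComplex.single₀ C).obj (K 0) :=
    (ChainComplex.toSingle₀Equiv L (K 0)).symm ⟨π 0, by
      rw [hd 0]
      exact (Category.assoc _ _ _).trans ((congrArg (π 1 ≫ ·) (w 0)).trans comp_zero)⟩
  have haug : aug.f 0 = π 0 := by
    simp [aug, ChainComplex.toSingle₀Equiv]
  have hz : ∀ i, (π (i + 1) ≫ ι i) ≫ π i = 0 := fun i => by rw [Category.assoc, w, comp_zero]
  have hc : ∀ i, (ShortComplex.mk (π (i + 1) ≫ ι i) (π i) (hz i)).Exact := fun i => by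
    let φ : ShortComplex.mk (π (i + 1) ≫ ι i) (π i) (hz i) ⟶ ShortComplex.mk (ι i) (π i) (w i) :=
      { τ₁ := π (i + 1), τ₂ := 𝟙 _, τ₃ := 𝟙 _ }
    haveI : Epi φ.τ₁ := (h (i + 1)).epi_g
    haveI : IsIso φ.τ₂ := inferInstanceAs (IsIso (𝟙 (A i)))
    haveI : Mono φ.τ₃ := inferInstanceAs (Mono (𝟙 (K i)))
    exact (ShortComplex.exact_iff_of_epi_of_isIso_of_mono φ).2 (h i).exact
  have hex : ∀ i, L.ExactAt (i + 1) := fun i => by
    rw [HomologicalComplex.exactAt_iff' _ (i + 2) (i + 1) i (by simp) (by simp)]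
    have hzz : (π (i + 2) ≫ ι (i + 1)) ≫ (π (i + 1) ≫ ι i) = 0 := by
      rw [← Category.assoc, hz (i + 1), zero_comp]
    let φ : ShortComplex.mk (π (i + 2) ≫ ι (i + 1)) (π (i + 1)) (hz (i + 1)) ⟶
        ShortComplex.mk (π (i + 2) ≫ ι (i + 1)) (π (i + 1) ≫ ι i) hzz :=
      { τ₁ := 𝟙 _, τ₂ := 𝟙 _, τ₃ := ι i }
    haveI : Epi φ.τ₁ := inferInstanceAs (Epi (𝟙 (A (i + 2))))
    haveI : IsIso φ.τ₂ := inferInstanceAs (IsIso (𝟙 (A (i + 1))))
    haveI : Mono φ.τ₃ := (h i).mono_f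
    have h2 : (ShortComplex.mk (π (i + 2) ≫ ι (i + 1)) (π (i + 1) ≫ ι i) hzz).Exact :=
      (ShortComplex.exact_iff_of_epi_of_isIso_of_mono φ).1 (hc (i + 1))
    refine (ShortComplex.exact_iff_of_iso ?_).2 h2
    exact ShortComplex.isoMk (Iso.refl _) (Iso.refl _) (Iso.refl _) (by simp [hd (i + 1)]) (by simp [hd i])
  refine ⟨L, aug, fun i => ⟨Iso.refl _⟩, ⟨fun i => ?_⟩⟩
  cases i with
  | zero =>
    rw [ChainComplex.quasiIsoAt₀_iff, ShortComplex.quasiIso_iff_of_zeros']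
    · refine (ShortComplex.exact_and_epi_g_iff_of_iso ?_).2 ⟨hc 0, (h 0).epi_g⟩
      exact ShortComplex.isoMk (Iso.refl _) (Iso.refl _) (Iso.refl _) (by simp [hd 0]) (by simp [haug])
    all_goals simp
  | succ i =>
    rw [quasiIsoAt_iff_exactAt' _ _ (ChainComplex.exactAt_succ_single_obj _ _)]
    exact hex i

end KRRRegLib

end
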