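import Groth.Agent.KRRRegLib.Unit
import Groth.Agent.KRRRegLib.Kernel
import Groth.Agent.KRRRegLib.Splice

/-!
# The canonical resolution of a regular sheaf
-/

set_option autoImplicit false
set_option linter.all false
set_option maxHeartbeats 1000000

universe u

open CategoryTheory CategoryTheory.Limits AlgebraicGeometry TopologicalSpace HomologicalComplex

noncomputable section

namespace KRRRegLib

open Groth.Agent
open KFlatLib (puSec)

variable {n : ℕ} {T : Scheme.{u}}

/-- The kernel of the counit has no direct image. -/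
theorem isZero_push_kernel_counit (F : (KRR.PY n T).Modules) [Coh.IsQCoh F] :
    IsZero ((Scheme.Modules.pushforward (KRR.pr n T)).obj
      (kernel ((Scheme.Modules.pullbackPushforwardAdjunction (KRR.pr n T)).counit.app F))) := by
  let p := KRR.pr n T
  let adj := Scheme.Modules.pullbackPushforwardAdjunction p
  haveI : IsProper p := ChowLib.isProper_toBase n T
  haveI := QCohLib.isQCoh_pushforward p F
  let ι := kernel.ι (adj.counit.app F)
  refine (DCohRestrLib.isZero_iff_subsingleton_stalks _).2 fun y => ?_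
  refine (QCohLib.subsingleton_stalk_iff _ y).mpr fun U hU t => ?_
  obtain ⟨W, hW, hyW, hWU⟩ := exists_isAffineOpen_mem_and_subset (show y ∈ U from hU)
  refine ⟨W, hWU, hyW, ?_⟩
  let t' : Γ(kernel (adj.counit.app F), p ⁻¹ᵁ W) :=
    ((Scheme.Modules.pushforward p).obj (kernel (adj.counit.app F))).presheaf.map (homOfLE hWU).op t
  change t' = 0
  obtain ⟨s, hs⟩ := surjective_puSec ((Scheme.Modules.pushforward p).obj F) hW (ι.app (p ⁻¹ᵁ W) t')
  have h0 : (adj.counit.app F).app (p ⁻¹ᵁ W) (ι.app (p ⁻¹ᵁ W) t') = 0 := by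
    exact congr(Scheme.Modules.Hom.app $(kernel.condition (adj.counit.app F)) (p ⁻¹ᵁ W) t')
  rw [← hs] at h0
  have h1 : (adj.counit.app F).app (p ⁻¹ᵁ W) (puSec p s) = (s : Γ((Scheme.Modules.pushforward p).obj F, W)) :=
    congr(Scheme.Modules.Hom.app $(adj.right_triangle_components F) W s)
  have hs0 : s = 0 := h1.symm.trans h0
  have h2 : ι.app (p ⁻¹ᵁ W) t' = 0 := by
    rw [← hs, hs0]
    exact map_zero ((((adj.unit.app ((Scheme.Modules.pushforward p).obj F))).app W).hom)
  exact (injective_iff_map_eq_zero _).1 (QCohLib.app_injective_of_mono ι (p ⁻¹ᵁ W)) t' h2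

theorem V_zero_of_isZero_push {G : (KRR.PY n T).Modules}
    (h : IsZero ((Scheme.Modules.pushforward (KRR.pr n T)).obj G)) : V 0 0 G := by
  obtain ⟨e⟩ := nonempty_twF_zero G
  refine IsZero.of_iso ((QCohLib.toAbF T).map_isZero h) ?_
  exact ((Coh.pushAb (KRR.pr n T)).rightDerivedZeroIsoSelf.app _) ≪≫
    (Coh.pushAb (KRR.pr n T)).mapIso ((QCohLib.toAbF (KRR.PY n T)).mapIso e)

theorem isZero_push_of_V_zero {G : (KRR.PY n T).Modules} (h : V 0 0 G) :
    IsZero ((Scheme.Modules.pushforward (KRR.pr n T)).obj G) := by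
  obtain ⟨e⟩ := nonempty_twF_zero G
  have h' : IsZero ((QCohLib.toAbF T).obj ((Scheme.Modules.pushforward (KRR.pr n T)).obj G)) :=
    IsZero.of_iso h (((Coh.pushAb (KRR.pr n T)).rightDerivedZeroIsoSelf.app _) ≪≫
      (Coh.pushAb (KRR.pr n T)).mapIso ((QCohLib.toAbF (KRR.PY n T)).mapIso e)).symm
  refine (IsZero.iff_id_eq_zero _).2 ((QCohLib.toAbF T).map_injective ?_)
  exact h'.eq_of_src _ _

/-- A regular sheaf without direct image vanishes. -/
theorem isZero_of_isZero_push {G : (KRR.PY n T).Modules} [Coh.IsQCoh G] (hreg : KRR.IsRegSheaf n T G)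
    (h : IsZero ((Scheme.Modules.pushforward (KRR.pr n T)).obj G)) : IsZero G := by
  haveI := epi_counit hreg
  exact IsZero.of_epi ((Scheme.Modules.pullbackPushforwardAdjunction (KRR.pr n T)).counit.app G)
    ((Scheme.Modules.pullback (KRR.pr n T)).map_isZero h)

/-- The top-degree chase: `n + 1` vanishings force the direct image to vanish. -/
theorem V_zero_of_vanishing {G : (KRR.PY n T).Modules} (h : ∀ q : ℕ, q ≤ n → V q (-1 - (q : ℤ)) G) : V 0 0 G := by
  let K := Kz G (coordList n T)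
  have hK : K.Acyclic := acyclic (isInvertible_O1 n T) G (coordList n T) exists_genAt_coordList
  let d : ℤ := -(n + 1 : ℕ)
  have key : ∀ s t : ℕ, n ≤ s + t → V (1 + t) d (K.cycles (-(1 + t : ℤ))) := by
    intro s
    induction s with
    | zero =>
      intro t ht
      have hse := cycles_shortExact K hK (-(1 + (t + 1 : ℕ) : ℤ)) (-(1 + t : ℤ)) (by push_cast; ring)
      refine V.of_isZero _ _ ?_
      haveI : Epi (K.toCycles (-(1 + (t + 1 : ℕ) : ℤ)) (-(1 + t : ℤ))) := hse.epi_g
      refine IsZero.of_epi (K.toCycles (-(1 + (t + 1 : ℕ) : ℤ)) (-(1 + t : ℤ))) (isZero_X G _ _ (Or.inr ?_))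
      rw [length_coordList]
      omega
    | succ s ih =>
      intro t ht
      rcases Nat.lt_or_ge t n with htn | htn
      · have hse := shortExact_ab n T d
          (cycles_shortExact K hK (-(1 + (t + 1 : ℕ) : ℤ)) (-(1 + t : ℤ)) (by push_cast; ring))
        refine RDerLib.isZero_X₃ (F := Coh.pushAb (KRR.pr n T)) hse (1 + t) (ih (t + 1) (by omega)) ?_
        refine V_term (coordList n T) _ _ _ ?_
        rw [length_coordList]
        exact V.congr (h (1 + t) (by omega)) (by simp only [d]; push_cast; ring)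
      · have hse := cycles_shortExact K hK (-(1 + (t + 1 : ℕ) : ℤ)) (-(1 + t : ℤ)) (by push_cast; ring)
        refine V.of_isZero _ _ ?_
        haveI : Epi (K.toCycles (-(1 + (t + 1 : ℕ) : ℤ)) (-(1 + t : ℤ))) := hse.epi_g
        refine IsZero.of_epi (K.toCycles (-(1 + (t + 1 : ℕ) : ℤ)) (-(1 + t : ℤ))) (isZero_X G _ _ (Or.inr ?_))
        rw [length_coordList]
        omega
  have hse := shortExact_ab n T d (cycles_shortExact K hK (-1) 0 rfl)
  have h0 : V 0 d (K.cycles 0) := by
    refine RDerLib.isZero_X₃ (F := Coh.pushAb (KRR.pr n T)) hse 0 ?_ ?_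
    · have h2 := key n 0 le_rfl
      simp only [Nat.cast_zero, add_zero] at h2
      exact h2
    · refine V_term (coordList n T) _ _ _ ?_
      rw [length_coordList]
      exact V.congr (h 0 (Nat.zero_le n)) (by simp only [d]; push_cast; ring)
  haveI := K.isIso_iCycles 0 1 (by simp) ((isZero_X G (coordList n T) 1 (Or.inl one_pos)).eq_of_tgt _ _)
  have h1 := V_of_top (coordList n T) 0 d (h0.of_iso (asIso (K.iCycles 0)).symm)
  rw [length_coordList] at h1
  exact h1.congr (by simp only [d]; push_cast; ring)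

variable (n T) in
/-- Quasi-coherent regular sheaves. -/
abbrev QR : Type _ := {G : (KRR.PY n T).Modules // Coh.IsQCoh G ∧ KRR.IsRegSheaf n T G}

/-- The next syzygy, twisted to be regular again. -/
def nxt (G : QR n T) : QR n T :=
  haveI := G.2.1
  ⟨KRR.twF n T 1 (kernel ((Scheme.Modules.pullbackPushforwardAdjunction (KRR.pr n T)).counit.app G.1)), by
    haveI : IsProper (KRR.pr n T) := ChowLib.isProper_toBase n T
    haveI := QCohLib.isQCoh_pushforward (KRR.pr n T) G.1
    haveI := KFlatLib.isQCoh_pullback (KRR.pr n T) ((Scheme.Modules.pushforward (KRR.pr n T)).obj G.1)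
    haveI : Coh.IsQCoh (((Scheme.Modules.pushforward (KRR.pr n T)) ⋙ Scheme.Modules.pullback (KRR.pr n T)).obj G.1) :=
      ‹Coh.IsQCoh ((Scheme.Modules.pullback (KRR.pr n T)).obj _)›
    haveI : Coh.IsQCoh ((𝟭 (KRR.PY n T).Modules).obj G.1) := G.2.1
    haveI := QCohLib.isQCoh_kernel ((Scheme.Modules.pullbackPushforwardAdjunction (KRR.pr n T)).counit.app G.1)
    exact ⟨@QCohLib.isQCoh_of_iso _ _ _ (HilbPolyLib.swapIso _ (Twist.twistOver n T 1))
      (MiscFlat6.isQCoh_tensor (PicPnLib.twistOver_inv n T 1)), isRegSheaf_kernel G.2.2⟩⟩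

/-- The iterated syzygies. -/
def syz (G : QR n T) : ℕ → QR n T
  | 0 => G
  | i + 1 => nxt (syz G i)

theorem ses_counit (G : QR n T) :
    (ShortComplex.mk (kernel.ι ((Scheme.Modules.pullbackPushforwardAdjunction (KRR.pr n T)).counit.app G.1))
      ((Scheme.Modules.pullbackPushforwardAdjunction (KRR.pr n T)).counit.app G.1) (kernel.condition _)).ShortExact :=
  haveI := G.2.1
  haveI := epi_counit G.2.2
  ShortComplex.ShortExact.mk (ShortComplex.exact_kernel _)

theorem V_syz (G : QR n T) : ∀ (s i : ℕ), V s (-1 - (s : ℤ)) (syz G (i + 1 + s)).1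
  | 0, i => by
    haveI := (syz G i).2.1
    show V 0 _ (nxt (syz G i)).1
    refine (V_twF_iff 0 _ 1 _).2 ?_
    exact V.congr (V_zero_of_isZero_push (isZero_push_kernel_counit (syz G i).1)) (by simp)
  | s + 1, i => by
    haveI := (syz G (i + 1 + s)).2.1
    show V (s + 1) _ (nxt (syz G (i + 1 + s))).1
    refine (V_twF_iff (s + 1) _ 1 _).2 ?_
    have hse := shortExact_ab n T (-1 - ((s + 1 : ℕ) : ℤ) + 1) (ses_counit (syz G (i + 1 + s)))
    refine RDerLib.isZero_X₁_succ (F := Coh.pushAb (KRR.pr n T)) hse s ?_ ?_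
    · exact V.congr (G := cover0 (syz G (i + 1 + s)).1) (isRegSheaf_cover0 (s + 1) (Nat.le_add_left 1 s))
        (by push_cast; ring)
    · have h := V.congr (V_syz G s i) (show (-1 - (s : ℤ)) = -1 - ((s + 1 : ℕ) : ℤ) + 1 by push_cast; ring)
      exact h.epi _

theorem isZero_syz (G : QR n T) {N : ℕ} (hN : n < N) : IsZero (syz G N).1 := by
  haveI := (syz G N).2.1
  refine isZero_of_isZero_push (syz G N).2.2 (isZero_push_of_V_zero (V_zero_of_vanishing fun q hq => ?_))
  obtain ⟨i, rfl⟩ : ∃ i, N = i + 1 + q := ⟨N - 1 - q, by omega⟩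
  exact V_syz G q i

/-- The resolution of a regular sheaf by twisted pullbacks from the base. -/
theorem exists_resolution (F : (KRR.PY n T).Modules) (hF : Coh.IsQCoh F) (hreg : KRR.IsRegSheaf n T F) :
    ∃ (Tm : ℕ → T.Modules) (L : ChainComplex (KRR.PY n T).Modules ℕ)
      (π : L ⟶ (ChainComplex.single₀ (KRR.PY n T).Modules).obj F), (∀ i, Coh.IsQCoh (Tm i)) ∧
      (∀ i, i ≤ n → Nonempty (L.X i ≅ KRR.twF n T (-(i : ℤ)) ((Scheme.Modules.pullback (KRR.pr n T)).obj (Tm i)))) ∧
      (∀ i, n < i → IsZero (L.X i)) ∧ QuasiIso π := by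
  let G : ℕ → QR n T := syz ⟨F, hF, hreg⟩
  let adj := Scheme.Modules.pullbackPushforwardAdjunction (KRR.pr n T)
  let K : ℕ → (KRR.PY n T).Modules := fun i => KRR.twF n T (-(i : ℤ)) (G i).1
  let A : ℕ → (KRR.PY n T).Modules := fun i => KRR.twF n T (-(i : ℤ)) (cover0 (G i).1)
  let π : ∀ i, A i ⟶ K i := fun i => (twFun n T (-(i : ℤ))).map (adj.counit.app (G i).1)
  let e : ∀ i, K (i + 1) ≅ KRR.twF n T (-(i : ℤ)) (kernel (adj.counit.app (G i).1)) := fun i =>
    (nonempty_twF_add n T (-((i + 1 : ℕ) : ℤ)) 1 _).some ≪≫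
      eqToIso (congrArg (fun d => KRR.twF n T d (kernel (adj.counit.app (G i).1))) (by push_cast; ring))
  let ι : ∀ i, K (i + 1) ⟶ A i := fun i => (e i).hom ≫ (twFun n T (-(i : ℤ))).map (kernel.ι _)
  have hw : ∀ i, ι i ≫ π i = 0 := fun i =>
    (Category.assoc _ _ _).trans ((congrArg ((e i).hom ≫ ·) (((Functor.map_comp _ _ _).symm.trans
      (congrArg (twFun n T (-(i : ℤ))).map (kernel.condition (adj.counit.app (G i).1)))).trans
        (Functor.map_zero _ _ _))).trans comp_zero)
  have hex : ∀ i, (ShortComplex.mk (ι i) (π i) (hw i)).ShortExact := fun i => by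
    refine ShortComplex.shortExact_of_iso ?_ (shortExact_twF n T (-(i : ℤ)) (ses_counit (G i)))
    exact ShortComplex.isoMk (e i).symm (Iso.refl _) (Iso.refl _)
      (by simp only [ShortComplex.map_f, Iso.symm_hom, Iso.refl_hom, ι]
          exact (Iso.inv_hom_id_assoc _ _).trans (Category.comp_id _).symm)
      (by simp only [ShortComplex.map_g, Iso.refl_hom, π]
          exact (Category.id_comp _).trans (Category.comp_id _).symm)
  obtain ⟨L, aug, hL, hq⟩ := exists_splice K A π ι hw hex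
  obtain ⟨e0⟩ := nonempty_twF_zero (n := n) (T := T) F
  let e0' : K 0 ≅ F := eqToIso (congrArg (fun d => KRR.twF n T d F) (by simp)) ≪≫ e0
  refine ⟨fun i => (Scheme.Modules.pushforward (KRR.pr n T)).obj (G i).1, L,
    aug ≫ (ChainComplex.single₀ (KRR.PY n T).Modules).map e0'.hom, fun i => ?_, fun i _ => hL i, fun i hi => ?_, ?_⟩
  · haveI := (G i).2.1
    haveI : IsProper (KRR.pr n T) := ChowLib.isProper_toBase n T
    exact QCohLib.isQCoh_pushforward (KRR.pr n T) _
  · obtain ⟨ei⟩ := hL i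
    refine IsZero.of_iso ((twFun n T (-(i : ℤ))).map_isZero ((Scheme.Modules.pullback (KRR.pr n T)).map_isZero
      ((Scheme.Modules.pushforward (KRR.pr n T)).map_isZero (isZero_syz _ hi)))) ei
  · haveI := hq
    haveI : IsIso ((ChainComplex.single₀ (KRR.PY n T).Modules).map e0'.hom) := inferInstance
    infer_instance

end KRRRegLib

end
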